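import Mathlib
import Groth.Prelude.Def_Wider
import Groth.Agent.ExtCompare.Basic
import Groth.Agent.LocTrans.Interface

/-!
Elements of local cohomology `H^i_I(M) = colim_n Ext^i(R/I^n, M)`.
-/

namespace Groth.Agent.LocH

universe u

open CategoryTheory CategoryTheory.Limits Opposite CategoryTheory.Abelian

variable {R : Type u} [CommRing R]

/-- The module `R/I^n`. -/
abbrev quotObj (I : Ideal R) (n : ℕ) : ModuleCat.{u} R := ModuleCat.of R (R ⧸ I ^ n)

/-- The projection `R/I^m → R/I^n` for `n ≤ m`. -/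
def trans (I : Ideal R) {n m : ℕ} (h : n ≤ m) : quotObj I m ⟶ quotObj I n :=
  ModuleCat.ofHom (Submodule.mapQ _ _ LinearMap.id (Ideal.pow_le_pow_right h))

theorem trans_self (I : Ideal R) (n : ℕ) : trans I (le_refl n) = 𝟙 _ := by
  ext
  rfl

theorem trans_trans (I : Ideal R) {n m k : ℕ} (h : n ≤ m) (h' : m ≤ k) :
    trans I h' ≫ trans I h = trans I (h.trans h') := by
  ext
  rfl

variable (I : Ideal R) (M : ModuleCat.{u} R) (i : ℕ)

/-- The cocone computing local cohomology of `M`. -/
noncomputable def evalCocone :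
    Cocone (localCohomology.diagram (localCohomology.idealPowersDiagram I) i ⋙
      (evaluation _ _).obj M) :=
  ((evaluation _ _).obj M).mapCocone
    (colimit.cocone (localCohomology.diagram (localCohomology.idealPowersDiagram I) i))

noncomputable def evalCoconeIsColimit : IsColimit (evalCocone I M i) :=
  isColimitOfPreserves _
    (colimit.isColimit (localCohomology.diagram (localCohomology.idealPowersDiagram I) i))

/-- The map `Ext^i(R/I^n, M) → H^i_I(M)`. -/
noncomputable def hι (n : ℕ) :
    Ext (quotObj I n) M i →ₗ[R] ↑((localCohomology I i).obj M) :=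
  ((colimit.ι (localCohomology.diagram (localCohomology.idealPowersDiagram I) i) (op (op n))).app
      M).hom ∘ₗ (ExtCompare.extEquiv R (quotObj I n) M i).symm.toLinearMap

variable {I M i}

theorem hι_trans {n m : ℕ} (h : n ≤ m) (α : Ext (quotObj I n) M i) :
    hι I M i m ((Ext.mk₀ (trans I h)).comp α (zero_add _)) = hι I M i n α := by
  have hw := (evalCocone I M i).w (((homOfLE h).op.op) : (op (op n) : ℕᵒᵖᵒᵖ) ⟶ op (op m))
  have h1 := congrArg (fun φ => φ.hom ((ExtCompare.extEquiv R (quotObj I n) M i).symm α)) hw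
  refine Eq.trans ?_ h1
  show ((colimit.ι (localCohomology.diagram (localCohomology.idealPowersDiagram I) i) (op (op m))).app
      M).hom ((ExtCompare.extEquiv R (quotObj I m) M i).symm _) =
    ((colimit.ι (localCohomology.diagram (localCohomology.idealPowersDiagram I) i) (op (op m))).app
      M).hom (((_root_.Ext R (ModuleCat.{u} R) i).map (trans I h).op).app M
        ((ExtCompare.extEquiv R (quotObj I n) M i).symm α))
  congr 1
  refine (ExtCompare.extEquiv R (quotObj I m) M i).symm_apply_eq.2 ?_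
  refine Eq.trans ?_ (ExtCompare.extEquiv_app (trans I h) _).symm
  rw [LinearEquiv.apply_symm_apply]

theorem exists_hι (x : ↑((localCohomology I i).obj M)) : ∃ n α, hι I M i n α = x := by
  obtain ⟨⟨⟨n⟩⟩, y, hy⟩ := Concrete.isColimit_exists_rep _ (evalCoconeIsColimit I M i) x
  refine ⟨n, ExtCompare.extEquiv R (quotObj I n) M i y, ?_⟩
  rw [← hy]
  exact congrArg _ ((ExtCompare.extEquiv R (quotObj I n) M i).symm_apply_apply y)

theorem exists_hι_ge (x : ↑((localCohomology I i).obj M)) (k : ℕ) :
    ∃ n, k ≤ n ∧ ∃ α, hι I M i n α = x := by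
  obtain ⟨n, α, rfl⟩ := exists_hι x
  exact ⟨max k n, le_max_left _ _, _, hι_trans (le_max_right k n) α⟩

theorem hι_eq_zero_iff {n : ℕ} {α : Ext (quotObj I n) M i} :
    hι I M i n α = 0 ↔ ∃ m, ∃ h : n ≤ m, (Ext.mk₀ (trans I h)).comp α (zero_add _) = 0 := by
  constructor
  · intro h
    obtain ⟨⟨⟨m⟩⟩, g, g', hg⟩ := (Concrete.isColimit_rep_eq_iff_exists
      (localCohomology.diagram (localCohomology.idealPowersDiagram I) i ⋙ (evaluation _ _).obj M)
      (i := op (op n)) (j := op (op n)) (evalCoconeIsColimit I M i)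
      ((ExtCompare.extEquiv R (quotObj I n) M i).symm α) 0).1 (h.trans (map_zero _).symm)
    refine ⟨m, leOfHom g.unop.unop, ?_⟩
    rw [map_zero] at hg
    have h2 := ExtCompare.extEquiv_app (R := R) (trans I (leOfHom g.unop.unop))
      ((ExtCompare.extEquiv R (quotObj I n) M i).symm α)
    rw [LinearEquiv.apply_symm_apply] at h2
    rw [← h2]
    exact (congrArg (ExtCompare.extEquiv R (quotObj I m) M i) hg).trans (map_zero _)
  · rintro ⟨m, h, hm⟩
    rw [← hι_trans h, hm, map_zero]

theorem map_hι {N : ModuleCat.{u} R} (f : M ⟶ N) {n : ℕ} (α : Ext (quotObj I n) M i) :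
    (localCohomology I i).map f (hι I M i n α) = hι I N i n (α.comp (Ext.mk₀ f) (add_zero _)) := by
  have h1 := congrArg (fun φ => φ.hom ((ExtCompare.extEquiv R (quotObj I n) M i).symm α))
    ((colimit.ι (localCohomology.diagram (localCohomology.idealPowersDiagram I) i) (op (op n))).naturality f)
  refine h1.symm.trans ?_
  show ((colimit.ι (localCohomology.diagram (localCohomology.idealPowersDiagram I) i) (op (op n))).app
      N).hom (((_root_.Ext R (ModuleCat.{u} R) i).obj (op (quotObj I n))).map f _) =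
    ((colimit.ι (localCohomology.diagram (localCohomology.idealPowersDiagram I) i) (op (op n))).app
      N).hom ((ExtCompare.extEquiv R (quotObj I n) N i).symm _)
  congr 1
  refine (ExtCompare.extEquiv R (quotObj I n) N i).eq_symm_apply.2 ?_
  refine (ExtCompare.extEquiv_map f _).trans ?_
  rw [LinearEquiv.apply_symm_apply]

theorem smul_eq_zero_of_mem {n : ℕ} {a : R} (ha : a ∈ I ^ n) (α : Ext (quotObj I n) M i) :
    a • α = 0 := by
  have h0 : a • 𝟙 (quotObj I n) = 0 := by
    ext
    show a • (1 : R ⧸ I ^ n) = 0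
    rw [Algebra.smul_def, mul_one]
    exact Ideal.Quotient.eq_zero_iff_mem.2 ha
  have h : (Ext.mk₀ (a • 𝟙 (quotObj I n))).comp α (zero_add _) = a • α := by
    rw [Ext.mk₀_smul, Ext.smul_comp, Ext.mk₀_id_comp]
  rw [← h, h0, Ext.mk₀_zero, Ext.zero_comp]

theorem isPowerTorsion (I : Ideal R) (i : ℕ) (M : ModuleCat.{u} R) :
    LocCoh.IsPowerTorsion I ↑((localCohomology I i).obj M) := by
  intro x
  obtain ⟨n, α, rfl⟩ := exists_hι x
  exact ⟨n, fun a ha => by rw [← map_smul, smul_eq_zero_of_mem ha, map_zero]⟩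

end Groth.Agent.LocH
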