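import Mathlib
import Groth.Prelude.Def_DRing3
import Groth.Agent.LocH.Interface

/-!
`H^i_I` is the `i`-th right derived functor of `Γ_I`, over any commutative ring.
-/

namespace Groth.Agent.LocH

universe u

open CategoryTheory CategoryTheory.Limits Opposite CategoryTheory.Abelian

variable {R : Type u} [CommRing R] {I : Ideal R}

/-- The map `R/I^n → X` given by an element killed by `I^n`. -/
def liftHom {X : ModuleCat.{u} R} (n : ℕ) (x : X) (h : ∀ a ∈ I ^ n, a • x = 0) :
    quotObj I n ⟶ X :=
  ModuleCat.ofHom ((I ^ n).liftQ (LinearMap.toSpanSingleton R X x) fun a ha => LinearMap.mem_ker.2 (h a ha))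

theorem liftHom_mk {X : ModuleCat.{u} R} {n : ℕ} {x : X} (h : ∀ a ∈ I ^ n, a • x = 0) (r : R) :
    liftHom n x h (Submodule.Quotient.mk r) = r • x := rfl

theorem quotObj_hom_ext {X : ModuleCat.{u} R} {n : ℕ} {f g : quotObj I n ⟶ X}
    (h : f (Submodule.Quotient.mk 1) = g (Submodule.Quotient.mk 1)) : f = g := by
  apply ModuleCat.hom_ext
  apply Submodule.linearMap_qext
  apply LinearMap.ext_ring
  exact h

section Iso

variable {M : ModuleCat.{u} R} (J : InjectiveResolution M) (i : ℕ)

/-- The complex `Γ_I` of an injective resolution. -/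
noncomputable abbrev gammaComplex (I : Ideal R) : CochainComplex (ModuleCat.{u} R) ℕ :=
  ((DRing.gammaI I).mapHomologicalComplex _).obj J.cocomplex

theorem extMk_smul {n m : ℕ} (hm : i + 1 = m) (r : R) (f : quotObj I n ⟶ J.cocomplex.X i)
    (hf : f ≫ J.cocomplex.d i m = 0) :
    J.extMk (r • f) m hm (by rw [Linear.smul_comp, hf, smul_zero]) = r • J.extMk f m hm hf := by
  have h : (Ext.mk₀ (r • 𝟙 (quotObj I n))).comp (J.extMk f m hm hf) (zero_add _) =
      r • J.extMk f m hm hf := by rw [Ext.mk₀_smul, Ext.smul_comp, Ext.mk₀_id_comp]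
  rw [← h, InjectiveResolution.mk₀_comp_extMk]
  congr 1
  rw [Linear.smul_comp, Category.id_comp]

theorem liftHom_d {n : ℕ} {x : J.cocomplex.X i} (h : ∀ a ∈ I ^ n, a • x = 0)
    (hx : J.cocomplex.d i (i + 1) x = 0) : liftHom n x h ≫ J.cocomplex.d i (i + 1) = 0 := by
  apply quotObj_hom_ext
  show J.cocomplex.d i (i + 1) (liftHom n x h (Submodule.Quotient.mk 1)) = 0
  rw [liftHom_mk, one_smul, hx]

theorem extMk_congr {n : ℕ} {f g : quotObj I n ⟶ J.cocomplex.X i} (e : f = g)
    (hf : f ≫ J.cocomplex.d i (i + 1) = 0) (hg : g ≫ J.cocomplex.d i (i + 1) = 0) :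
    J.extMk f (i + 1) rfl hf = J.extMk g (i + 1) rfl hg := by
  subst e
  rfl

theorem liftHom_apply_one {X : ModuleCat.{u} R} {n : ℕ} {x : X} (h : ∀ a ∈ I ^ n, a • x = 0) :
    liftHom n x h (Submodule.Quotient.mk 1) = x :=
  (liftHom_mk h 1).trans (one_smul R x)

/-- The class in local cohomology of a cycle killed by `I^n`. -/
noncomputable def cls (n : ℕ) (x : J.cocomplex.X i) (h : ∀ a ∈ I ^ n, a • x = 0)
    (hx : J.cocomplex.d i (i + 1) x = 0) : ↑((localCohomology I i).obj M) :=
  hι I M i n (J.extMk (liftHom n x h) (i + 1) rfl (liftHom_d J i h hx))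

theorem cls_of_le {n m : ℕ} (hnm : n ≤ m) (x : J.cocomplex.X i) (h : ∀ a ∈ I ^ n, a • x = 0)
    (hx : J.cocomplex.d i (i + 1) x = 0) :
    cls J i m x (fun a ha => h a (Ideal.pow_le_pow_right hnm ha)) hx = cls J i n x h hx := by
  rw [cls, cls]
  refine Eq.trans ?_ (hι_trans hnm (J.extMk (liftHom n x h) (i + 1) rfl (liftHom_d J i h hx)))
  rw [InjectiveResolution.mk₀_comp_extMk]
  refine congrArg (hι I M i m) (extMk_congr J i (quotObj_hom_ext ?_) _ _)
  refine (liftHom_apply_one _).trans ?_
  rw [ConcreteCategory.comp_apply]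
  exact (liftHom_apply_one h).symm

theorem cls_congr {n m : ℕ} {x y : J.cocomplex.X i} (hxy : x = y)
    (h : ∀ a ∈ I ^ n, a • x = 0) (hx : J.cocomplex.d i (i + 1) x = 0)
    (h' : ∀ a ∈ I ^ m, a • y = 0) (hy : J.cocomplex.d i (i + 1) y = 0) :
    cls J i n x h hx = cls J i m y h' hy := by
  subst hxy
  rw [← cls_of_le J i (le_max_left n m) x h hx, ← cls_of_le J i (le_max_right n m) x h' hy]

/-- The element of `J^i` underlying a cycle. -/
noncomputable def cycleVal (z : (gammaComplex J I).cycles i) : J.cocomplex.X i :=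
  (DRing.torsionSub I (J.cocomplex.X i)).subtype ((gammaComplex J I).iCycles i z)

theorem cycleVal_mem (z : (gammaComplex J I).cycles i) :
    ∃ n, ∀ a ∈ I ^ n, a • cycleVal J i z = 0 :=
  ((gammaComplex J I).iCycles i z).2

theorem d_cycleVal (z : (gammaComplex J I).cycles i) :
    J.cocomplex.d i (i + 1) (cycleVal J i z) = 0 :=
  congrArg Subtype.val (congrArg (fun φ => φ.hom z) ((gammaComplex J I).iCycles_d i (i + 1)))

/-- The map from cycles to local cohomology. -/
noncomputable def cyclesToH :
    ↑((gammaComplex J I).cycles i) →ₗ[R] ↑((localCohomology I i).obj M) where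
  toFun z := cls J i _ (cycleVal J i z) (cycleVal_mem J i z).choose_spec (d_cycleVal J i z)
  map_add' z w := by
    obtain ⟨n, hz⟩ := cycleVal_mem J i z
    obtain ⟨m, hw⟩ := cycleVal_mem J i w
    have hz' : ∀ a ∈ I ^ max n m, a • cycleVal J i z = 0 :=
      fun a ha => hz a (Ideal.pow_le_pow_right (le_max_left n m) ha)
    have hw' : ∀ a ∈ I ^ max n m, a • cycleVal J i w = 0 :=
      fun a ha => hw a (Ideal.pow_le_pow_right (le_max_right n m) ha)
    have e : cycleVal J i (z + w) = cycleVal J i z + cycleVal J i w :=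
      (congrArg _ (map_add _ z w)).trans (map_add _ _ _)
    rw [cls_congr J i e _ _ (m := max n m) (fun a ha => by rw [smul_add, hz' a ha, hw' a ha, add_zero])
        (by rw [map_add, d_cycleVal, d_cycleVal, add_zero]),
      cls_congr J i rfl (n := (cycleVal_mem J i z).choose) _ _ hz' (d_cycleVal J i z),
      cls_congr J i rfl (n := (cycleVal_mem J i w).choose) _ _ hw' (d_cycleVal J i w),
      cls, cls, cls]
    refine Eq.trans ?_ (map_add (hι I M i (max n m)) _ _)
    rw [InjectiveResolution.add_extMk]
    refine congrArg _ (extMk_congr J i (quotObj_hom_ext ?_) _ _)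
    exact (liftHom_apply_one _).trans
      (congrArg₂ (· + ·) (liftHom_apply_one hz') (liftHom_apply_one hw')).symm
  map_smul' r z := by
    obtain ⟨n, hz⟩ := cycleVal_mem J i z
    have e : cycleVal J i (r • z) = r • cycleVal J i z :=
      (congrArg _ (map_smul _ r z)).trans (map_smul _ _ _)
    rw [RingHom.id_apply,
      cls_congr J i e _ _ (m := n) (fun a ha => by rw [smul_comm, hz a ha, smul_zero])
        (by rw [map_smul, d_cycleVal, smul_zero]),
      cls_congr J i rfl (n := (cycleVal_mem J i z).choose) _ _ hz (d_cycleVal J i z),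
      cls, cls]
    refine Eq.trans ?_ (map_smul (hι I M i n) r _)
    rw [← extMk_smul]
    refine congrArg _ (extMk_congr J i (quotObj_hom_ext ?_) _ _)
    exact (liftHom_apply_one _).trans (congrArg (r • ·) (liftHom_apply_one hz)).symm

theorem cyclesToH_eq (z : (gammaComplex J I).cycles i) {n : ℕ}
    (h : ∀ a ∈ I ^ n, a • cycleVal J i z = 0) :
    cyclesToH J i z = cls J i n (cycleVal J i z) h (d_cycleVal J i z) :=
  cls_congr J i rfl (cycleVal_mem J i z).choose_spec (d_cycleVal J i z) h (d_cycleVal J i z)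

theorem extMk_eq_zero_of_zero {X : ModuleCat.{u} R} (f : X ⟶ J.cocomplex.X 0)
    (hf : f ≫ J.cocomplex.d 0 1 = 0) (h : J.extMk f 1 rfl hf = 0) : f = 0 := by
  rw [← J.extEquivCohomologyClass.apply_eq_iff_eq, InjectiveResolution.extEquivCohomologyClass_extMk,
    InjectiveResolution.extEquivCohomologyClass_zero,
    CochainComplex.HomComplex.CohomologyClass.mk_eq_zero_iff,
    CochainComplex.HomComplex.Cocycle.fromSingleMk_mem_coboundaries_iff _ _ _ _ _ (-1) (by lia)] at h
  obtain ⟨g, hg⟩ := h
  rw [IsZero.eq_of_tgt (CochainComplex.isZero_of_isStrictlyGE J.cochainComplex 0 (-1) (by lia)) g 0,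
    zero_comp] at hg
  rw [← cancel_mono (J.cochainComplexXIso ((0 : ℕ) : ℤ) 0 rfl).inv, ← hg, zero_comp]

theorem cycleVal_injective : Function.Injective (cycleVal (I := I) J i) :=
  Subtype.val_injective.comp ((ModuleCat.mono_iff_injective _).1 inferInstance)

theorem exists_cycle (x : J.cocomplex.X i) (hx : x ∈ DRing.torsionSub I (J.cocomplex.X i))
    (hd : J.cocomplex.d i (i + 1) x = 0) : ∃ z, cycleVal (I := I) J i z = x := by
  let k : ModuleCat.of R R ⟶ (gammaComplex J I).X i :=
    ModuleCat.ofHom (LinearMap.toSpanSingleton R _ (⟨x, hx⟩ : DRing.torsionSub I (J.cocomplex.X i)))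
  have hk : k ≫ (gammaComplex J I).d i (i + 1) = 0 := by
    apply ModuleCat.hom_ext
    apply LinearMap.ext_ring
    apply Subtype.ext
    show J.cocomplex.d i (i + 1) ((1 : R) • x) = 0
    rw [one_smul, hd]
  refine ⟨(gammaComplex J I).liftCycles k (i + 1) (by simp) hk (1 : R), ?_⟩
  have := congrArg (fun φ => φ.hom (1 : R)) ((gammaComplex J I).liftCycles_i k (i + 1) (by simp) hk)
  exact (congrArg Subtype.val this).trans (one_smul R x)

theorem cyclesToH_eq_zero_iff (z : (gammaComplex J I).cycles i) :
    cyclesToH J i z = 0 ↔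
      ∃ y, (gammaComplex J I).toCycles ((ComplexShape.up ℕ).prev i) i y = z := by
  have hval : ∀ (p : ℕ) (y : (gammaComplex J I).X p),
      cycleVal J i ((gammaComplex J I).toCycles p i y) =
        J.cocomplex.d p i ((DRing.torsionSub I (J.cocomplex.X p)).subtype y) := fun p y =>
    congrArg Subtype.val (congrArg (fun φ => φ.hom y) ((gammaComplex J I).toCycles_i p i))
  obtain ⟨n, hn⟩ := cycleVal_mem J i z
  rw [cyclesToH_eq J i z hn, cls, hι_eq_zero_iff]
  constructor
  · rintro ⟨m, h, hm⟩
    rw [InjectiveResolution.mk₀_comp_extMk] at hm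
    have hφ : (trans I h ≫ liftHom n (cycleVal J i z) hn) (Submodule.Quotient.mk 1) = cycleVal J i z :=
      one_smul R _
    cases i with
    | zero =>
      refine ⟨0, cycleVal_injective J 0 ?_⟩
      refine (hval _ 0).trans ?_
      refine Eq.trans ?_ hφ
      rw [extMk_eq_zero_of_zero J _ _ hm]
      exact (congrArg _ (map_zero _)).trans (map_zero _)
    | succ p =>
      rw [InjectiveResolution.extMk_eq_zero_iff (p := p) (hp := rfl)] at hm
      obtain ⟨g, hg⟩ := hm
      generalize hj : (ComplexShape.up ℕ).prev (p + 1) = j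
      obtain rfl : p = j := by rw [← hj]; simp
      refine ⟨⟨g (Submodule.Quotient.mk 1), m, fun a ha => ?_⟩, cycleVal_injective J _ ?_⟩
      · rw [← map_smul, ← Submodule.Quotient.mk_smul,
          (Submodule.Quotient.mk_eq_zero _).2 (by simpa using ha), map_zero]
      · refine (hval p _).trans (Eq.trans ?_ hφ)
        rw [← hg]
        rfl
  · rintro ⟨y, rfl⟩
    cases i with
    | zero =>
      refine ⟨n, le_rfl, ?_⟩
      rw [InjectiveResolution.mk₀_comp_extMk]
      have h0 : cycleVal J 0 ((gammaComplex J I).toCycles _ 0 y) = 0 := by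
        rw [hval, HomologicalComplex.shape _ _ _ (by simp)]; rfl
      refine Eq.trans ?_ (J.extMk_zero (n := 0) 1 rfl)
      congr 1
      apply quotObj_hom_ext
      show (1 : R) • cycleVal J 0 _ = 0
      rw [h0, smul_zero]
    | succ p =>
      generalize hj : (ComplexShape.up ℕ).prev (p + 1) = j at y hn ⊢
      obtain rfl : p = j := by rw [← hj]; simp
      obtain ⟨m, hm⟩ := y.2
      refine ⟨max n m, le_max_left n m, ?_⟩
      rw [InjectiveResolution.mk₀_comp_extMk, InjectiveResolution.extMk_eq_zero_iff (p := p) (hp := rfl)]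
      refine ⟨liftHom (max n m) ((DRing.torsionSub I (J.cocomplex.X p)).subtype y)
        (fun a ha => hm a (Ideal.pow_le_pow_right (le_max_right n m) ha)), quotObj_hom_ext ?_⟩
      show J.cocomplex.d p (p + 1) ((1 : R) • _) = (1 : R) • cycleVal J (p + 1) _
      rw [one_smul, one_smul, hval]

theorem cyclesToH_surjective : Function.Surjective (cyclesToH (I := I) J i) := by
  intro α
  obtain ⟨n, α, rfl⟩ := exists_hι α
  obtain ⟨f, hf, rfl⟩ := J.extMk_surjective α (i + 1) rfl
  have hx : ∀ a ∈ I ^ n, a • f (Submodule.Quotient.mk 1) = 0 := fun a ha => by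
    rw [← map_smul, ← Submodule.Quotient.mk_smul,
      (Submodule.Quotient.mk_eq_zero _).2 (by simpa using ha), map_zero]
  have hd : J.cocomplex.d i (i + 1) (f (Submodule.Quotient.mk 1)) = 0 :=
    congrArg (fun φ => φ.hom (Submodule.Quotient.mk 1 : R ⧸ I ^ n)) hf
  obtain ⟨z, hz⟩ := exists_cycle J i _ ⟨n, hx⟩ hd
  refine ⟨z, (cyclesToH_eq J i z (hz.symm ▸ hx)).trans ((cls_congr J i hz _ _ hx hd).trans ?_)⟩
  rw [cls]
  exact congrArg _ (extMk_congr J i (quotObj_hom_ext (liftHom_apply_one hx)) _ _)

/-- The map from the cohomology of `Γ_I J` to local cohomology. -/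
noncomputable def homologyToH (I : Ideal R) :
    (gammaComplex J I).homology i ⟶ (localCohomology I i).obj M :=
  ((gammaComplex J I).homologyIsCokernel _ i rfl).desc
    (CokernelCofork.ofπ (ModuleCat.ofHom (cyclesToH J i)) (by
      ext y
      exact (cyclesToH_eq_zero_iff J i _).2 ⟨y, rfl⟩))

theorem homologyToH_π (z : (gammaComplex J I).cycles i) :
    homologyToH J i I ((gammaComplex J I).homologyπ i z) = cyclesToH J i z := by
  have h : (gammaComplex J I).homologyπ i ≫ homologyToH J i I = ModuleCat.ofHom (cyclesToH J i) :=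
    ((gammaComplex J I).homologyIsCokernel _ i rfl).fac _ WalkingParallelPair.one
  exact congrArg (fun φ => φ.hom z) h

theorem homologyπ_surjective : Function.Surjective ((gammaComplex J I).homologyπ i) :=
  (ModuleCat.epi_iff_surjective _).1 inferInstance

theorem homologyToH_bijective : Function.Bijective (homologyToH J i I) := by
  refine ⟨(injective_iff_map_eq_zero _).2 fun x hx => ?_, fun α => ?_⟩
  · obtain ⟨z, rfl⟩ := homologyπ_surjective J i x
    rw [homologyToH_π, cyclesToH_eq_zero_iff] at hx
    obtain ⟨y, rfl⟩ := hx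
    exact congrArg (fun φ => φ.hom y) ((gammaComplex J I).toCycles_comp_homologyπ _ i)
  · obtain ⟨z, rfl⟩ := cyclesToH_surjective J i α
    exact ⟨_, homologyToH_π J i z⟩

instance : IsIso (homologyToH J i I) :=
  (ConcreteCategory.isIso_iff_bijective _).2 (homologyToH_bijective J i)

end Iso

variable {M N : ModuleCat.{u} R}

theorem homologyToH_naturality (J : InjectiveResolution M) (J' : InjectiveResolution N) {f : M ⟶ N}
    (φ : InjectiveResolution.Hom J J' f) (i : ℕ) (x : (gammaComplex J I).homology i) :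
    homologyToH J' i I (HomologicalComplex.homologyMap
      (((DRing.gammaI I).mapHomologicalComplex _).map φ.hom) i x) =
      (localCohomology I i).map f (homologyToH J i I x) := by
  obtain ⟨z, rfl⟩ := homologyπ_surjective J i x
  let Φ := ((DRing.gammaI I).mapHomologicalComplex (ComplexShape.up ℕ)).map φ.hom
  have h1 : HomologicalComplex.homologyMap Φ i ((gammaComplex J I).homologyπ i z) =
      (gammaComplex J' I).homologyπ i (HomologicalComplex.cyclesMap Φ i z) :=
    congrArg (fun ψ => ψ.hom z) (HomologicalComplex.homologyπ_naturality Φ i)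
  have h2 : cycleVal J' i (HomologicalComplex.cyclesMap Φ i z) = φ.hom.f i (cycleVal J i z) :=
    congrArg Subtype.val (congrArg (fun ψ => ψ.hom z) (HomologicalComplex.cyclesMap_i Φ i))
  rw [h1, homologyToH_π, homologyToH_π]
  obtain ⟨n, hn⟩ := cycleVal_mem J i z
  have hn' : ∀ a ∈ I ^ n, a • φ.hom.f i (cycleVal J i z) = 0 := fun a ha => by
    rw [← map_smul, hn a ha, map_zero]
  have hd : J'.cocomplex.d i (i + 1) (φ.hom.f i (cycleVal J i z)) = 0 := h2 ▸ d_cycleVal J' i _
  refine (cyclesToH_eq J' i _ (h2.symm ▸ hn')).trans ((cls_congr J' i h2 _ _ hn' hd).trans ?_)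
  rw [cyclesToH_eq J i z hn, cls, cls, map_hι, InjectiveResolution.extMk_comp_mk₀ _ _ _ _ φ]
  refine congrArg _ (extMk_congr J' i (quotObj_hom_ext ?_) _ _)
  exact (liftHom_apply_one hn').trans (congrArg (φ.hom.f i) (liftHom_apply_one hn)).symm

/-- Local cohomology is the right derived functor of the torsion functor. -/
noncomputable def rightDerivedIso (I : Ideal R) (i : ℕ) :
    (DRing.gammaI I).rightDerived i ≅ localCohomology I i :=
  NatIso.ofComponents
    (fun M => (injectiveResolution M).isoRightDerivedObj (DRing.gammaI I) i ≪≫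
      @asIso _ _ _ _ (homologyToH (injectiveResolution M) i I)
        ((ConcreteCategory.isIso_iff_bijective _).2 (homologyToH_bijective (injectiveResolution M) i)))
    (fun {M N} f => by
      let φ := InjectiveResolution.desc f (injectiveResolution N) (injectiveResolution M)
      have hφ : (injectiveResolution M).ι.f 0 ≫ φ.f 0 = f ≫ (injectiveResolution N).ι.f 0 :=
        InjectiveResolution.desc_commutes_zero f _ _
      have hnat := InjectiveResolution.isoRightDerivedObj_hom_naturality f (injectiveResolution M)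
        (injectiveResolution N) φ hφ (DRing.gammaI I) i
      have key : HomologicalComplex.homologyMap
            (((DRing.gammaI I).mapHomologicalComplex _).map φ) i ≫
            homologyToH (injectiveResolution N) i I =
          homologyToH (injectiveResolution M) i I ≫ (localCohomology I i).map f := by
        ext x
        exact homologyToH_naturality _ _ (f := f)
          ⟨φ, by rw [CochainComplex.single₀_map_f_zero]; exact hφ⟩ i x
      simp only [Iso.trans_hom]
      rw [reassoc_of% hnat, Category.assoc]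
      congr 1)

end Groth.Agent.LocH
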