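import Mathlib
import Groth.Prelude.Def_DRing3
import Groth.Agent.LocH.Interface
import Groth.Agent.LocH.Resolution

/-!
The long exact sequence of local cohomology; vanishing on injectives; degree zero.
-/

namespace Groth.Agent.LocH

universe u

open CategoryTheory CategoryTheory.Limits Opposite CategoryTheory.Abelian

variable {R : Type u} [CommRing R] {I : Ideal R}

instance gammaI_preservesFiniteLimits (I : Ideal R) : PreservesFiniteLimits (DRing.gammaI I) := by
  refine ((((Functor.preservesFiniteLimits_tfae (DRing.gammaI I)).out 0 3) :)).1 fun S hS => ⟨?_, ?_⟩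
  · rw [ShortComplex.moduleCat_exact_iff]
    rintro ⟨y, hy⟩ h0
    obtain ⟨x, hx⟩ := (ShortComplex.moduleCat_exact_iff S).1 hS.exact y (congrArg Subtype.val h0)
    obtain ⟨n, hn⟩ := hy
    refine ⟨⟨x, n, fun a ha => (ModuleCat.mono_iff_injective S.f).1 hS.mono_f ?_⟩, Subtype.ext hx⟩
    rw [map_smul, map_zero, hx]
    exact hn a ha
  · rw [ModuleCat.mono_iff_injective]
    intro x y hxy
    exact Subtype.ext ((ModuleCat.mono_iff_injective S.f).1 hS.mono_f (congrArg Subtype.val hxy))

/-- `H^0_I` is the torsion functor. -/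
noncomputable def zeroIso (I : Ideal R) : localCohomology I 0 ≅ DRing.gammaI I :=
  (rightDerivedIso I 0).symm ≪≫ (DRing.gammaI I).rightDerivedZeroIsoSelf

theorem subsingleton_of_injective (E : ModuleCat.{u} R) [Injective E] (i : ℕ) :
    Subsingleton ↑((localCohomology I (i + 1)).obj E) :=
  subsingleton_of_forall_eq 0 fun x => by
    obtain ⟨n, α, rfl⟩ := exists_hι x
    rw [α.eq_zero_of_injective, map_zero]

variable {S : ShortComplex (ModuleCat.{u} R)} (hS : S.ShortExact) (i : ℕ)

omit hS in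
theorem assoc₁ {X Y Z T : ModuleCat.{u} R} {a b c : ℕ} (f : Ext X Y 0) (α : Ext Y Z a) (γ : Ext Z T b)
    (h : a + b = c) : f.comp (α.comp γ h) (zero_add c) = (f.comp α (zero_add a)).comp γ h :=
  (Ext.comp_assoc f α γ (zero_add a) h (by lia)).symm

theorem hι_comp_extClass_congr {n m : ℕ} {α : Ext (quotObj I n) S.X₃ i}
    {β : Ext (quotObj I m) S.X₃ i} (h : hι I S.X₃ i n α = hι I S.X₃ i m β) :
    hι I S.X₁ (i + 1) n (α.comp hS.extClass rfl) = hι I S.X₁ (i + 1) m (β.comp hS.extClass rfl) := by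
  rw [← hι_trans (le_max_left n m) α, ← hι_trans (le_max_right n m) β, ← sub_eq_zero, ← map_sub,
    hι_eq_zero_iff] at h
  obtain ⟨k, hk, h0⟩ := h
  rw [← hι_trans (le_max_left n m) (α.comp hS.extClass rfl), ← hι_trans (le_max_right n m) (β.comp hS.extClass rfl),
    ← sub_eq_zero, ← map_sub, hι_eq_zero_iff]
  refine ⟨k, hk, ?_⟩
  rw [assoc₁, assoc₁, sub_eq_add_neg, ← Ext.neg_comp, ← Ext.add_comp, ← sub_eq_add_neg, assoc₁, h0,
    Ext.zero_comp]

/-- The connecting homomorphism. -/
noncomputable def delta :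
    ↑((localCohomology I i).obj S.X₃) →ₗ[R] ↑((localCohomology I (i + 1)).obj S.X₁) where
  toFun x := hι I S.X₁ (i + 1) (exists_hι x).choose
    ((exists_hι x).choose_spec.choose.comp hS.extClass rfl)
  map_add' x y := by
    obtain ⟨n, α, hα⟩ := exists_hι x
    obtain ⟨m, β, hβ⟩ := exists_hι y
    rw [← hι_trans (le_max_left n m) α] at hα
    rw [← hι_trans (le_max_right n m) β] at hβ
    rw [hι_comp_extClass_congr hS i ((exists_hι (x + y)).choose_spec.choose_spec.trans
        ((congrArg₂ (· + ·) hα hβ).symm.trans (map_add _ _ _).symm)),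
      hι_comp_extClass_congr hS i ((exists_hι x).choose_spec.choose_spec.trans hα.symm),
      hι_comp_extClass_congr hS i ((exists_hι y).choose_spec.choose_spec.trans hβ.symm),
      Ext.add_comp, map_add]
  map_smul' r x := by
    obtain ⟨n, α, hα⟩ := exists_hι x
    rw [RingHom.id_apply,
      hι_comp_extClass_congr hS i ((exists_hι (r • x)).choose_spec.choose_spec.trans
        ((congrArg (r • ·) hα).symm.trans (map_smul _ r α).symm)),
      hι_comp_extClass_congr hS i ((exists_hι x).choose_spec.choose_spec.trans hα.symm),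
      Ext.smul_comp, map_smul]

theorem delta_hι {n : ℕ} (α : Ext (quotObj I n) S.X₃ i) :
    delta hS i (hι I S.X₃ i n α) = hι I S.X₁ (i + 1) n (α.comp hS.extClass rfl) :=
  hι_comp_extClass_congr hS i (exists_hι _).choose_spec.choose_spec

theorem exact₁ {x : ↑((localCohomology I (i + 1)).obj S.X₁)}
    (hx : (localCohomology I (i + 1)).map S.f x = 0) : ∃ y, delta hS i y = x := by
  obtain ⟨n, α, rfl⟩ := exists_hι x
  rw [map_hι, hι_eq_zero_iff] at hx
  obtain ⟨k, hk, h0⟩ := hx
  rw [assoc₁] at h0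
  obtain ⟨γ, hγ⟩ := Ext.covariant_sequence_exact₁ _ hS _ h0 rfl
  exact ⟨hι I S.X₃ i k γ, by rw [delta_hι, hγ, hι_trans]⟩

theorem map_delta (y : ↑((localCohomology I i).obj S.X₃)) :
    (localCohomology I (i + 1)).map S.f (delta hS i y) = 0 := by
  obtain ⟨n, α, rfl⟩ := exists_hι y
  rw [delta_hι, map_hι, Ext.comp_assoc _ _ _ rfl (add_zero _) (by lia), hS.extClass_comp,
    Ext.comp_zero, map_zero]

include hS in
theorem exact₂ {x : ↑((localCohomology I i).obj S.X₂)}
    (hx : (localCohomology I i).map S.g x = 0) : ∃ y, (localCohomology I i).map S.f y = x := by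
  obtain ⟨n, α, rfl⟩ := exists_hι x
  rw [map_hι, hι_eq_zero_iff] at hx
  obtain ⟨k, hk, h0⟩ := hx
  rw [assoc₁] at h0
  obtain ⟨γ, hγ⟩ := Ext.covariant_sequence_exact₂ _ hS _ h0
  exact ⟨hι I S.X₁ i k γ, by rw [map_hι, hγ, hι_trans]⟩

theorem map_g_map_f (y : ↑((localCohomology I i).obj S.X₁)) :
    (localCohomology I i).map S.g ((localCohomology I i).map S.f y) = 0 := by
  obtain ⟨n, α, rfl⟩ := exists_hι y
  rw [map_hι, map_hι, Ext.comp_assoc _ _ _ (add_zero _) (add_zero _) (by lia), Ext.mk₀_comp_mk₀,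
    S.zero, Ext.mk₀_zero, Ext.comp_zero, map_zero]

theorem exact₃ {x : ↑((localCohomology I i).obj S.X₃)} (hx : delta hS i x = 0) :
    ∃ y, (localCohomology I i).map S.g y = x := by
  obtain ⟨n, α, rfl⟩ := exists_hι x
  rw [delta_hι, hι_eq_zero_iff] at hx
  obtain ⟨k, hk, h0⟩ := hx
  rw [assoc₁] at h0
  obtain ⟨γ, hγ⟩ := Ext.covariant_sequence_exact₃ _ hS _ rfl h0
  exact ⟨hι I S.X₂ i k γ, by rw [map_hι, hγ, hι_trans]⟩

theorem delta_map (y : ↑((localCohomology I i).obj S.X₂)) :
    delta hS i ((localCohomology I i).map S.g y) = 0 := by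
  obtain ⟨n, α, rfl⟩ := exists_hι y
  rw [map_hι, delta_hι, Ext.comp_assoc_of_second_deg_zero, hS.comp_extClass, Ext.comp_zero, map_zero]

include hS in
theorem subsingleton_X₂ (h₁ : Subsingleton ↑((localCohomology I i).obj S.X₁))
    (h₃ : Subsingleton ↑((localCohomology I i).obj S.X₃)) :
    Subsingleton ↑((localCohomology I i).obj S.X₂) :=
  subsingleton_of_forall_eq 0 fun x => by
    obtain ⟨y, rfl⟩ := exact₂ hS i (x := x) (Subsingleton.elim _ _)
    rw [Subsingleton.elim y 0, map_zero]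

include hS in
theorem subsingleton_X₁ (h₂ : Subsingleton ↑((localCohomology I (i + 1)).obj S.X₂))
    (h₃ : Subsingleton ↑((localCohomology I i).obj S.X₃)) :
    Subsingleton ↑((localCohomology I (i + 1)).obj S.X₁) :=
  subsingleton_of_forall_eq 0 fun x => by
    obtain ⟨y, rfl⟩ := exact₁ hS i (x := x) (Subsingleton.elim _ _)
    rw [Subsingleton.elim y 0, map_zero]

include hS in
theorem subsingleton_X₃ (h₂ : Subsingleton ↑((localCohomology I i).obj S.X₂))
    (h₁ : Subsingleton ↑((localCohomology I (i + 1)).obj S.X₁)) :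
    Subsingleton ↑((localCohomology I i).obj S.X₃) :=
  subsingleton_of_forall_eq 0 fun x => by
    obtain ⟨y, rfl⟩ := exact₃ hS i (x := x) (Subsingleton.elim _ _)
    rw [Subsingleton.elim y 0, map_zero]

end Groth.Agent.LocH
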