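import Mathlib
import Groth.Prelude.Def_DRing3
import Groth.Agent.LocH.Sequence
import Groth.Agent.InjHull.Noetherian
import Groth.Agent.PowTors.Basic

/-!
Local cohomology of power torsion modules over Noetherian rings.
-/

namespace Groth.Agent.LocH

universe u

open CategoryTheory CategoryTheory.Limits Opposite CategoryTheory.Abelian

variable {R : Type u} [CommRing R] [IsNoetherianRing R] (I : Ideal R)

theorem injective_gammaI_obj (E : ModuleCat.{u} R) [Injective E] :
    Injective ((DRing.gammaI I).obj E) := by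
  have : Module.Injective R E := Module.injective_module_of_injective_object R E
  have h := InjHull.injective_iSup_torsionBySet (R := R) (↑E) I
  have e : (⨆ n : ℕ, Submodule.torsionBySet R E ((I ^ n : Ideal R) : Set R)) = DRing.torsionSub I E :=
    Submodule.ext fun x => InjHull.mem_iSup_torsionBySet_iff I x
  rw [e] at h
  exact Module.injective_object_of_injective_module R ↥(DRing.torsionSub I E)

variable {I}

theorem exists_torsion_presentation (N : ModuleCat.{u} R) (hN : LocCoh.IsPowerTorsion I N) :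
    ∃ S : ShortComplex (ModuleCat.{u} R), S.ShortExact ∧ S.X₁ = N ∧ Injective S.X₂ ∧
      LocCoh.IsPowerTorsion I S.X₂ ∧ LocCoh.IsPowerTorsion I S.X₃ := by
  let E := Injective.under N
  let f : ↑N →ₗ[R] ↥(DRing.torsionSub I E) :=
    (Injective.ι N).hom.codRestrict _ fun x => DRing.map_mem_torsionSub I _ (hN x)
  have hf : Function.Injective f := fun x y h =>
    (ModuleCat.mono_iff_injective (Injective.ι N)).1 inferInstance (congrArg Subtype.val h)
  let S : ShortComplex (ModuleCat.{u} R) :=
    ShortComplex.mk (X₁ := N) (X₂ := ModuleCat.of R ↥(DRing.torsionSub I E))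
      (X₃ := ModuleCat.of R (↥(DRing.torsionSub I E) ⧸ LinearMap.range f))
      (ModuleCat.ofHom f) (ModuleCat.ofHom (LinearMap.range f).mkQ) (by
        ext x
        exact (Submodule.Quotient.mk_eq_zero _).2 (LinearMap.mem_range_self f x))
  have hS : S.ShortExact :=
    { exact := by
        rw [ShortComplex.moduleCat_exact_iff]
        intro y hy
        exact (Submodule.Quotient.mk_eq_zero _).1 hy
      mono_f := (ModuleCat.mono_iff_injective _).2 hf
      epi_g := (ModuleCat.epi_iff_surjective _).2 (Submodule.mkQ_surjective _) }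
  have hT : LocCoh.IsPowerTorsion I ↥(DRing.torsionSub I E) := fun x =>
    x.2.imp fun n hn a ha => Subtype.ext (hn a ha)
  refine ⟨S, hS, rfl, injective_gammaI_obj I E, hT, fun z => ?_⟩
  obtain ⟨x, rfl⟩ := Submodule.Quotient.mk_surjective (LinearMap.range f) z
  obtain ⟨n, hn⟩ := hT x
  exact ⟨n, fun a ha => by rw [← Submodule.Quotient.mk_smul, hn a ha, Submodule.Quotient.mk_zero]⟩

omit [IsNoetherianRing R] in
theorem zero_map_surjective {S : ShortComplex (ModuleCat.{u} R)} (hS : S.ShortExact)
    (h₂ : LocCoh.IsPowerTorsion I S.X₂) :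
    Function.Surjective ((localCohomology I 0).map S.g) := by
  intro x
  obtain ⟨y, hy⟩ := (ModuleCat.epi_iff_surjective S.g).1 hS.epi_g ((zeroIso I).hom.app S.X₃ x).1
  refine ⟨(zeroIso I).inv.app S.X₂ ⟨y, h₂ y⟩, ?_⟩
  have h1 : (localCohomology I 0).map S.g ((zeroIso I).inv.app S.X₂ ⟨y, h₂ y⟩) =
      (zeroIso I).inv.app S.X₃ ((DRing.gammaI I).map S.g ⟨y, h₂ y⟩) :=
    (congrArg (fun φ => φ.hom (⟨y, h₂ y⟩ : DRing.torsionSub I S.X₂)) ((zeroIso I).inv.naturality S.g)).symm
  rw [h1, show (DRing.gammaI I).map S.g ⟨y, h₂ y⟩ = (zeroIso I).hom.app S.X₃ x from Subtype.ext hy]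
  exact congrArg (fun φ => φ.hom x) ((zeroIso I).hom_inv_id_app S.X₃)

theorem subsingleton_of_isPowerTorsion (i : ℕ) :
    ∀ (N : ModuleCat.{u} R), LocCoh.IsPowerTorsion I N →
      Subsingleton ↑((localCohomology I (i + 1)).obj N) := by
  induction i with
  | zero =>
    intro N hN
    obtain ⟨S, hS, rfl, hinj, h₂, -⟩ := exists_torsion_presentation N hN
    refine subsingleton_of_forall_eq 0 fun x => ?_
    have := subsingleton_of_injective (I := I) S.X₂ 0
    obtain ⟨y, rfl⟩ := exact₁ hS 0 (x := x) (Subsingleton.elim _ _)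
    obtain ⟨z, rfl⟩ := zero_map_surjective hS h₂ y
    exact delta_map hS 0 z
  | succ i ih =>
    intro N hN
    obtain ⟨S, hS, rfl, hinj, -, h₃⟩ := exists_torsion_presentation N hN
    exact subsingleton_X₁ hS (i + 1) (subsingleton_of_injective S.X₂ (i + 1)) (ih _ h₃)

omit [IsNoetherianRing R] in
/-- `H^0_I(N) = N` for torsion `N`. -/
noncomputable def zeroEquiv (N : ModuleCat.{u} R) (hN : LocCoh.IsPowerTorsion I N) :
    ↑((localCohomology I 0).obj N) ≃ₗ[R] N :=
  ((zeroIso I).app N).toLinearEquiv.trans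
    (LinearEquiv.ofTop (DRing.torsionSub I N) (PowTors.isPowerTorsion_iff_torsionSub_eq_top.1 hN))

omit [IsNoetherianRing R] in
theorem exactAt_gammaComplex_of_subsingleton {M : ModuleCat.{u} R} (J : InjectiveResolution M) (i : ℕ)
    (h : Subsingleton ↑((localCohomology I i).obj M)) : (gammaComplex J I).ExactAt i := by
  rw [HomologicalComplex.exactAt_iff_isZero_homology]
  exact (ModuleCat.isZero_iff_subsingleton.2 h).of_iso (asIso (homologyToH J i I))

theorem exists_torsion_injectiveResolution (M : ModuleCat.{u} R) (hM : LocCoh.IsPowerTorsion I M) :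
    ∃ J : InjectiveResolution M, ∀ n : ℕ, LocCoh.IsPowerTorsion I (J.cocomplex.X n) := by
  let J := injectiveResolution M
  let K := gammaComplex J I
  have hd : J.ι.f 0 ≫ J.cocomplex.d 0 1 = 0 := InjectiveResolution.ι_f_zero_comp_complex_d J
  let ι₀ : M ⟶ K.X 0 := ModuleCat.ofHom ((J.ι.f 0).hom.codRestrict (DRing.torsionSub I (J.cocomplex.X 0))
    fun x => DRing.map_mem_torsionSub I _ (hM x))
  have hι₀ : ι₀ ≫ K.d 0 1 = 0 := by
    ext x
    exact Subtype.ext (congrArg (fun φ => φ.hom x) hd)
  refine ⟨{ cocomplex := K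
            injective := fun n => injective_gammaI_obj I (J.cocomplex.X n)
            ι := (CochainComplex.fromSingle₀Equiv _ _).symm ⟨ι₀, hι₀⟩
            quasiIso := ⟨fun n => ?_⟩ },
    fun n x => x.2.imp fun k hk a ha => Subtype.ext (hk a ha)⟩
  cases n with
  | zero =>
    rw [CochainComplex.quasiIsoAt₀_iff, ShortComplex.quasiIso_iff_of_zeros]
    · refine (ShortComplex.exact_and_mono_f_iff_of_iso ?_).2 (show
          (ShortComplex.mk ι₀ (K.d 0 1) hι₀).Exact ∧ Mono (ShortComplex.mk ι₀ (K.d 0 1) hι₀).f from ⟨?_, ?_⟩)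
      · exact ShortComplex.isoMk (Iso.refl _) (Iso.refl _) (Iso.refl _) (by simp; exact (Category.id_comp _).trans (Category.comp_id _).symm) (by simp; exact (Category.id_comp _).trans (Category.comp_id _).symm)
      · rw [ShortComplex.moduleCat_exact_iff]
        intro y hy
        obtain ⟨x, hx⟩ := (ShortComplex.moduleCat_exact_iff _).1 J.exact₀
          ((DRing.torsionSub I (J.cocomplex.X 0)).subtype y) (congrArg Subtype.val hy)
        exact ⟨x, Subtype.ext hx⟩
      · rw [ModuleCat.mono_iff_injective]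
        intro a b hab
        have : Mono (J.ι.f 0) := inferInstance
        exact (ModuleCat.mono_iff_injective (J.ι.f 0)).1 this (congrArg Subtype.val hab)
    all_goals first | rfl | exact HomologicalComplex.shape _ _ _ (by simp) | (simp; rfl)
  | succ n =>
    rw [quasiIsoAt_iff_exactAt]
    · exact exactAt_gammaComplex_of_subsingleton J (n + 1) (subsingleton_of_isPowerTorsion n M hM)
    · apply CochainComplex.exactAt_succ_single_obj

theorem map_mkQ_bijective (N : ModuleCat.{u} R) (i : ℕ) :
    Function.Bijective ((localCohomology I (i + 1)).map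
      (ModuleCat.ofHom (DRing.torsionSub I N).mkQ : N ⟶ _)) := by
  let T := DRing.torsionSub I N
  let S : ShortComplex (ModuleCat.{u} R) :=
    ShortComplex.mk (X₁ := ModuleCat.of R T) (X₂ := N) (X₃ := ModuleCat.of R (↑N ⧸ T))
      (ModuleCat.ofHom T.subtype) (ModuleCat.ofHom T.mkQ)
      (by ext x; exact (Submodule.Quotient.mk_eq_zero T).2 x.2)
  have hS : S.ShortExact :=
    { exact := by
        rw [ShortComplex.moduleCat_exact_iff]
        intro y hy
        exact ⟨⟨y, (Submodule.Quotient.mk_eq_zero T).1 hy⟩, rfl⟩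
      mono_f := (ModuleCat.mono_iff_injective _).2 T.injective_subtype
      epi_g := (ModuleCat.epi_iff_surjective _).2 (Submodule.mkQ_surjective _) }
  have hT : LocCoh.IsPowerTorsion I S.X₁ := fun x => x.2.imp fun n hn a ha => Subtype.ext (hn a ha)
  refine ⟨(injective_iff_map_eq_zero _).2 fun x hx => ?_, fun x => ?_⟩
  · have := subsingleton_of_isPowerTorsion i S.X₁ hT
    obtain ⟨y, rfl⟩ := exact₂ hS (i + 1) (x := x) hx
    rw [Subsingleton.elim y 0, map_zero]
  · have := subsingleton_of_isPowerTorsion (i + 1) S.X₁ hT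
    exact exact₃ hS (i + 1) (x := x) (Subsingleton.elim _ _)

end Groth.Agent.LocH
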