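import Mathlib
import Groth.Prelude.Def_DRing3
import Groth.Agent.LocH.Noetherian

/-!
Cohomological dimension is at most the number of generators; injective modules over an
algebra are acyclic for local cohomology.
-/

namespace Groth.Agent.LocH

universe u v

open CategoryTheory CategoryTheory.Limits Opposite CategoryTheory.Abelian

variable {R : Type u} [CommRing R]

/-- Multiplication by `a` is surjective up to `a`-power torsion. -/
def DivModTors (a : R) (G : Type v) [AddCommGroup G] [Module R G] : Prop :=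
  ∀ (n : ℕ) (z : G), ∃ (w : G) (m : ℕ), a ^ m • (a ^ n • w - z) = 0

theorem exists_killed_correction {a : R} {A B : Type v} [AddCommGroup A] [Module R A]
    [AddCommGroup B] [Module R B] (hA : DivModTors a A) (f : A →ₗ[R] B) {n : ℕ} {y₀ : B} {z : A}
    (hz : f z = a ^ n • y₀) : ∃ (w : A) (m : ℕ), a ^ m • (y₀ - f w) = 0 := by
  obtain ⟨w, m, hw⟩ := hA n z
  refine ⟨w, m + n, ?_⟩
  have h := congrArg f hw
  rw [map_smul, map_sub, map_smul, hz, map_zero, ← smul_sub, smul_smul, ← pow_add] at h
  rw [← neg_sub, smul_neg, h, neg_zero]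

theorem mem_torsionSub_span_singleton_iff {a : R} {M : Type u} [AddCommGroup M] [Module R M] {x : M} :
    x ∈ DRing.torsionSub (Ideal.span {a}) M ↔ ∃ n : ℕ, a ^ n • x = 0 := by
  constructor
  · rintro ⟨n, hn⟩
    exact ⟨n, hn _ (Ideal.pow_mem_pow (Ideal.mem_span_singleton_self a) n)⟩
  · rintro ⟨n, hn⟩
    refine ⟨n, fun b hb => ?_⟩
    rw [Ideal.span_singleton_pow, Ideal.mem_span_singleton'] at hb
    obtain ⟨c, rfl⟩ := hb
    rw [mul_smul, hn, smul_zero]

theorem torsionSub_anti {I K : Ideal R} (h : I ≤ K) (M : Type u) [AddCommGroup M] [Module R M] :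
    DRing.torsionSub K M ≤ DRing.torsionSub I M :=
  fun _ ⟨n, hn⟩ => ⟨n, fun a ha => hn a (Ideal.pow_right_mono h n ha)⟩

theorem torsionSub_sup {I K : Ideal R} {M : Type u} [AddCommGroup M] [Module R M] {x : M}
    (h₁ : x ∈ DRing.torsionSub I M) (h₂ : x ∈ DRing.torsionSub K M) :
    x ∈ DRing.torsionSub (I ⊔ K) M := by
  obtain ⟨n, hn⟩ := h₁
  obtain ⟨m, hm⟩ := h₂
  refine ⟨n + m, fun a ha => ?_⟩
  obtain ⟨b, hb, c, hc, rfl⟩ := Submodule.mem_sup.1 (Ideal.sup_pow_add_le_pow_sup_pow ha)
  rw [add_smul, hn b hb, hm c hc, add_zero]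

variable {M : ModuleCat.{u} R} (J : InjectiveResolution M)

/-- Exactness of `Γ_I J` in degree `i + 1`, elementwise. -/
def GammaExact (I : Ideal R) (i : ℕ) : Prop :=
  ∀ x : J.cocomplex.X (i + 1), x ∈ DRing.torsionSub I (J.cocomplex.X (i + 1)) →
    J.cocomplex.d (i + 1) (i + 2) x = 0 →
      ∃ y ∈ DRing.torsionSub I (J.cocomplex.X i), J.cocomplex.d i (i + 1) y = x

theorem exactAt_gammaComplex_iff (I : Ideal R) (i : ℕ) :
    (gammaComplex J I).ExactAt (i + 1) ↔ GammaExact J I i := by
  rw [HomologicalComplex.exactAt_iff' _ i (i + 1) (i + 2) (by simp) (by simp),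
    ShortComplex.moduleCat_exact_iff]
  constructor
  · intro h x hx hd
    obtain ⟨⟨y, hy⟩, hyx⟩ := h ⟨x, hx⟩ (Subtype.ext hd)
    exact ⟨y, hy, congrArg Subtype.val hyx⟩
  · rintro h ⟨x, hx⟩ hd
    obtain ⟨y, hy, hyx⟩ := h x hx (congrArg Subtype.val hd)
    exact ⟨⟨y, hy⟩, Subtype.ext hyx⟩

theorem subsingleton_iff_gammaExact (I : Ideal R) (i : ℕ) :
    Subsingleton ↑((localCohomology I (i + 1)).obj M) ↔ GammaExact J I i := by
  rw [← exactAt_gammaComplex_iff, HomologicalComplex.exactAt_iff_isZero_homology,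
    ← ModuleCat.isZero_iff_subsingleton]
  exact ⟨fun h => h.of_iso (asIso (homologyToH J (i + 1) I)),
    fun h => h.of_iso (asIso (homologyToH J (i + 1) I)).symm⟩

theorem gammaExact_bot (i : ℕ) : GammaExact J (⊥ : Ideal R) i := by
  intro x _ hd
  obtain ⟨y, hy⟩ := (ShortComplex.moduleCat_exact_iff _).1 (J.exact_succ i) x hd
  exact ⟨y, ⟨1, fun a ha => by rw [pow_one, Ideal.mem_bot] at ha; rw [ha, zero_smul]⟩, hy⟩

/-- The induction step: adding one generator. -/
theorem gammaExact_sup_span_succ {I : Ideal R} {a : R} {i : ℕ}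
    (hdiv : DivModTors a ↥(DRing.torsionSub I (J.cocomplex.X i)))
    (h₁ : GammaExact J I (i + 1)) (h₀ : GammaExact J I i) :
    GammaExact J (I ⊔ Ideal.span {a}) (i + 1) := by
  intro x hx hd
  obtain ⟨y₀, hy₀, hy₀x⟩ := h₁ x (torsionSub_anti le_sup_left _ hx) hd
  obtain ⟨n, hn⟩ := mem_torsionSub_span_singleton_iff.1 (torsionSub_anti le_sup_right _ hx)
  obtain ⟨z, hz, hzy⟩ := h₀ (a ^ n • y₀) (Submodule.smul_mem _ _ hy₀)
    (by rw [map_smul, hy₀x, hn])
  let f : ↥(DRing.torsionSub I (J.cocomplex.X i)) →ₗ[R] J.cocomplex.X (i + 1) :=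
    (J.cocomplex.d i (i + 1)).hom ∘ₗ Submodule.subtype _
  obtain ⟨w, m, hw⟩ := exists_killed_correction hdiv f (z := ⟨z, hz⟩) hzy
  refine ⟨y₀ - f w, torsionSub_sup (Submodule.sub_mem _ hy₀ (DRing.map_mem_torsionSub I (J.cocomplex.d i (i + 1)).hom w.2))
    (mem_torsionSub_span_singleton_iff.2 ⟨m, hw⟩), ?_⟩
  rw [map_sub, hy₀x]
  exact (sub_eq_self).2 (congrArg (fun φ => φ.hom w.1) (J.cocomplex.d_comp_d i (i + 1) (i + 2)))

section Algebra

variable {R' : Type u} [CommRing R'] [Algebra R R']
variable {G : Type u} [AddCommGroup G] [Module R' G] [Module R G] [IsScalarTower R R' G]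

theorem mem_torsionSub_map_iff (I : Ideal R) {x : G} :
    x ∈ DRing.torsionSub (I.map (algebraMap R R')) G ↔ x ∈ DRing.torsionSub I G := by
  constructor
  · rintro ⟨n, hn⟩
    refine ⟨n, fun a ha => ?_⟩
    rw [← algebraMap_smul R' a x]
    exact hn _ (Ideal.map_pow (algebraMap R R') I n ▸ Ideal.mem_map_of_mem _ ha)
  · rintro ⟨n, hn⟩
    refine ⟨n, fun b hb => ?_⟩
    rw [← Ideal.map_pow] at hb
    have : (I ^ n).map (algebraMap R R') ≤ LinearMap.ker (LinearMap.toSpanSingleton R' G x) := by
      rw [Ideal.map_le_iff_le_comap]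
      intro a ha
      simpa [algebraMap_smul] using hn a ha
    simpa using this hb

variable [IsNoetherianRing R']

theorem divModTors_of_injective [Module.Injective R' G] (a : R) : DivModTors a G := by
  intro n z
  let S := Submonoid.powers (algebraMap R R' a)
  obtain ⟨w, hw⟩ := InjHull.localizedModule_mk_surjective_of_injective (R := R') (M := G) (S := S)
    (LocalizedModule.mk z ⟨algebraMap R R' a ^ n, pow_mem (Submonoid.mem_powers _) n⟩)
  rw [LocalizedModule.mkLinearMap_apply, LocalizedModule.mk_eq] at hw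
  obtain ⟨⟨_, m, rfl⟩, hm⟩ := hw
  refine ⟨w, m, ?_⟩
  simp only [Submonoid.smul_def, one_smul] at hm
  rw [smul_sub, sub_eq_zero]
  rw [← map_pow, algebraMap_smul, ← map_pow, algebraMap_smul, algebraMap_smul] at hm
  exact hm

theorem divModTors_torsionSub [Module.Injective R' G] (I : Ideal R) (a : R) :
    DivModTors a ↥(DRing.torsionSub I G) := by
  have : Module.Injective R' ↥(DRing.torsionSub (I.map (algebraMap R R')) G) := by
    have h := InjHull.injective_iSup_torsionBySet (R := R') G (I.map (algebraMap R R'))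
    have e : (⨆ n : ℕ, Submodule.torsionBySet R' G ((I.map (algebraMap R R') ^ n : Ideal R') : Set R'))
        = DRing.torsionSub (I.map (algebraMap R R')) G :=
      Submodule.ext fun x => InjHull.mem_iSup_torsionBySet_iff (I.map (algebraMap R R')) x
    rwa [e] at h
  intro n z
  obtain ⟨w, m, h⟩ := divModTors_of_injective (R' := R')
    (G := ↥(DRing.torsionSub (I.map (algebraMap R R')) G)) a n ⟨z.1, (mem_torsionSub_map_iff I).2 z.2⟩
  exact ⟨⟨w.1, (mem_torsionSub_map_iff I).1 w.2⟩, m, Subtype.ext (by simpa using congrArg Subtype.val h)⟩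

end Algebra

theorem divModTors_resolution [IsNoetherianRing R] (I : Ideal R) (a : R) (i : ℕ) :
    DivModTors a ↥(DRing.torsionSub I (J.cocomplex.X i)) := by
  have : Module.Injective R (J.cocomplex.X i) :=
    Module.injective_module_of_injective_object R _ (inj := J.injective i)
  exact divModTors_torsionSub (R' := R) I a

theorem gammaExact_span [IsNoetherianRing R] (s : Finset R) :
    ∀ i : ℕ, s.card ≤ i → GammaExact J (Ideal.span (s : Set R)) i := by
  classical
  induction s using Finset.induction_on with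
  | empty => intro i _; rw [Finset.coe_empty, Ideal.span_empty]; exact gammaExact_bot J i
  | @insert a s ha ih =>
    intro i hi
    rw [Finset.card_insert_of_notMem ha] at hi
    obtain ⟨j, rfl⟩ : ∃ j, i = j + 1 := ⟨i - 1, by lia⟩
    rw [Finset.coe_insert, Ideal.span_insert, sup_comm]
    exact gammaExact_sup_span_succ J (divModTors_resolution J _ a j) (ih _ (by lia)) (ih _ (by lia))

theorem cdLE_card [IsNoetherianRing R] (s : Finset R) :
    LocCoh.CdLE R (Ideal.span (s : Set R)) s.card := by
  intro N _ _ i hi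
  obtain ⟨j, rfl⟩ : ∃ j, i = j + 1 := ⟨i - 1, by lia⟩
  exact (subsingleton_iff_gammaExact (injectiveResolution (ModuleCat.of R N)) _ j).2
    (gammaExact_span _ s j (by lia))

section Acyclic

variable [IsNoetherianRing R] {R' : Type u} [CommRing R'] [IsNoetherianRing R'] [Algebra R R']
variable {E' : Type u} [AddCommGroup E'] [Module R' E'] [Module R E'] [IsScalarTower R R' E']
  [Module.Injective R' E']

variable (R') in
include R' in
theorem gammaExact_of_injective_algebra (J : InjectiveResolution (ModuleCat.of R E')) (s : Finset R) :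
    ∀ i : ℕ, GammaExact J (Ideal.span (s : Set R)) i := by
  classical
  induction s using Finset.induction_on with
  | empty => intro i; rw [Finset.coe_empty, Ideal.span_empty]; exact gammaExact_bot J i
  | @insert a s ha ih =>
    intro i
    rw [Finset.coe_insert, Ideal.span_insert, sup_comm]
    obtain _ | j := i
    · intro x hx hd
      obtain ⟨y₀, hy₀, hy₀x⟩ := ih 0 x (torsionSub_anti le_sup_left _ hx) hd
      obtain ⟨n, hn⟩ := mem_torsionSub_span_singleton_iff.1 (torsionSub_anti le_sup_right _ hx)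
      obtain ⟨e, he⟩ := (ShortComplex.moduleCat_exact_iff _).1 J.exact₀ (a ^ n • y₀)
        (by show J.cocomplex.d 0 1 _ = 0; rw [map_smul, hy₀x, hn])
      have hι : Function.Injective (J.ι.f 0) := (ModuleCat.mono_iff_injective _).1 inferInstance
      let f : ↥(DRing.torsionSub (Ideal.span (s : Set R)) E') →ₗ[R] J.cocomplex.X 0 :=
        (J.ι.f 0).hom ∘ₗ Submodule.subtype _
      have he' : (e : E') ∈ DRing.torsionSub (Ideal.span (s : Set R)) E' := by
        obtain ⟨k, hk⟩ := Submodule.smul_mem _ (a ^ n) hy₀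
        exact ⟨k, fun b hb => hι ((map_smul (J.ι.f 0).hom b e).trans
          ((congrArg (b • ·) he).trans ((hk b hb).trans (map_zero (J.ι.f 0).hom).symm)))⟩
      obtain ⟨w, m, hw⟩ := exists_killed_correction (divModTors_torsionSub (R' := R') _ a) f
        (z := ⟨e, he'⟩) he
      refine ⟨y₀ - f w, torsionSub_sup (Submodule.sub_mem _ hy₀ (DRing.map_mem_torsionSub _ (J.ι.f 0).hom w.2))
        (mem_torsionSub_span_singleton_iff.2 ⟨m, hw⟩), ?_⟩
      rw [map_sub, hy₀x]
      exact sub_eq_self.2 (congrArg (fun φ => φ.hom w.1) (InjectiveResolution.ι_f_zero_comp_complex_d J))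
    · exact gammaExact_sup_span_succ J (divModTors_resolution J _ a j) (ih _) (ih _)

theorem subsingleton_of_injective_algebra (R' : Type u) [CommRing R'] [IsNoetherianRing R'] [Algebra R R']
    (E' : Type u) [AddCommGroup E'] [Module R' E'] [Module R E'] [IsScalarTower R R' E']
    [Module.Injective R' E'] (I : Ideal R) (i : ℕ) :
    Subsingleton ↑((localCohomology I (i + 1)).obj (ModuleCat.of R E')) := by
  obtain ⟨s, rfl⟩ := IsNoetherian.noetherian I
  exact (subsingleton_iff_gammaExact (injectiveResolution (ModuleCat.of R E')) _ i).2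
    (gammaExact_of_injective_algebra R' _ s i)

end Acyclic

end Groth.Agent.LocH
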