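import Mathlib
import Groth.Prelude.Def_DRing3
import Groth.Agent.LocH.Cd

/-!
Local cohomology and localization, elementwise on injective resolutions.
-/

namespace Groth.Agent.LocH

universe u

open CategoryTheory CategoryTheory.Limits

variable {R : Type u} [CommRing R] [IsNoetherianRing R] (S : Submonoid R) {M : ModuleCat.{u} R}
  (J : InjectiveResolution M)

/-- The `R`-boundaries of `Γ_I J` in degree `j`. -/
noncomputable def boundary {R : Type u} [CommRing R] {M : ModuleCat.{u} R} (J : InjectiveResolution M)
    (I : Ideal R) : (j : ℕ) → Submodule R (J.cocomplex.X j)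
  | 0 => ⊥
  | k + 1 => (DRing.torsionSub I (J.cocomplex.X k)).map (J.cocomplex.d k (k + 1)).hom

/-- Vanishing of `H^j_I`, elementwise on an injective resolution. -/
def Vanish {R : Type u} [CommRing R] {M : ModuleCat.{u} R} (J : InjectiveResolution M) (I : Ideal R) (j : ℕ) :
    Prop :=
  ∀ x ∈ DRing.torsionSub I (J.cocomplex.X j), J.cocomplex.d j (j + 1) x = 0 → x ∈ boundary J I j

omit [IsNoetherianRing R] in
theorem subsingleton_iff_vanish (I : Ideal R) (j : ℕ) :
    Subsingleton ↑((localCohomology I j).obj M) ↔ Vanish J I j := by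
  cases j with
  | zero =>
    refine ⟨fun h x hx hd => ?_, fun h => ?_⟩
    · obtain ⟨z, rfl⟩ := exists_cycle J 0 x hx hd
      obtain ⟨y, rfl⟩ := (cyclesToH_eq_zero_iff J 0 z).1 (Subsingleton.elim _ _)
      have h1 : (gammaComplex J I).toCycles ((ComplexShape.up ℕ).prev 0) 0 = 0 := by
        rw [← cancel_mono ((gammaComplex J I).iCycles 0), HomologicalComplex.toCycles_i, zero_comp,
          HomologicalComplex.shape _ _ _ (by simp)]
      rw [h1]
      show cycleVal J 0 0 ∈ (⊥ : Submodule R _)
      exact (Submodule.mem_bot R).2 ((congrArg _ (map_zero _)).trans (map_zero _))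
    · refine subsingleton_of_forall_eq 0 fun α => ?_
      obtain ⟨z, rfl⟩ := cyclesToH_surjective J 0 α
      obtain ⟨n, hn⟩ := cycleVal_mem J 0 z
      have h0 : cycleVal J 0 z = 0 := h _ ⟨n, hn⟩ (d_cycleVal J 0 z)
      have hz : z = 0 := cycleVal_injective J 0 (h0.trans ((congrArg _ (map_zero _)).trans (map_zero _)).symm)
      rw [hz, map_zero]
  | succ k =>
    rw [subsingleton_iff_gammaExact J I k]
    refine forall₃_congr fun x hx hd => ?_
    exact ⟨fun ⟨y, hy, h⟩ => ⟨y, hy, h⟩, fun ⟨y, hy, h⟩ => ⟨y, hy, h⟩⟩

/-- The localization functor on modules. -/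
noncomputable abbrev locFunctor : ModuleCat.{u} R ⥤ ModuleCat.{u} (Localization S) :=
  ModuleCat.localizedModuleFunctor S

/-- The localized injective resolution. -/
noncomputable def localizeRes : InjectiveResolution ((locFunctor S).obj M) where
  cocomplex := ((locFunctor S).mapHomologicalComplex _).obj J.cocomplex
  injective n := inferInstanceAs (Injective ((locFunctor S).obj (J.cocomplex.X n)))
  ι := (HomologicalComplex.singleMapHomologicalComplex (locFunctor S) (ComplexShape.up ℕ) 0).inv.app M ≫
    ((locFunctor S).mapHomologicalComplex (ComplexShape.up ℕ)).map J.ι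
  quasiIso := inferInstance

/-- The localization map in degree `n`. -/
noncomputable def floc (n : ℕ) : J.cocomplex.X n →ₗ[R] ((J.cocomplex.X n).localizedModule S) :=
  (J.cocomplex.X n).localizedModuleMkLinearMap S

/-- The differential of the localized resolution, as a map of localized modules. -/
noncomputable def dloc (n m : ℕ) :
    (J.cocomplex.X n).localizedModule S →ₗ[Localization S] (J.cocomplex.X m).localizedModule S :=
  ((localizeRes S J).cocomplex.d n m).hom

theorem dloc_floc (n m : ℕ) (x : J.cocomplex.X n) :
    dloc S J n m (floc S J n x) = floc S J m (J.cocomplex.d n m x) :=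
  IsLocalizedModule.map_apply S _ _ _ x

instance (n : ℕ) : IsLocalizedModule S (floc S J n) :=
  inferInstanceAs (IsLocalizedModule S ((J.cocomplex.X n).localizedModuleMkLinearMap S))

theorem floc_mem {K : Ideal R} {n : ℕ} {x : J.cocomplex.X n} (hx : x ∈ DRing.torsionSub K (J.cocomplex.X n)) :
    floc S J n x ∈ DRing.torsionSub (K.map (algebraMap R (Localization S))) ((J.cocomplex.X n).localizedModule S) := by
  obtain ⟨k, hk⟩ := hx
  refine ⟨k, fun a ha => ?_⟩
  rw [← Ideal.map_pow] at ha
  induction ha using Submodule.span_induction generalizing x with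
  | mem a ha =>
    obtain ⟨b, hb, rfl⟩ := ha
    rw [algebraMap_smul, ← map_smul, hk b hb, map_zero]
  | zero => exact zero_smul _ _
  | add a b _ _ ha hb => rw [add_smul, ha hk, hb hk, add_zero]
  | smul c a _ ha => rw [smul_eq_mul, mul_smul, ha hk, smul_zero]

theorem exists_rep {K : Ideal R} {n : ℕ} (z : (J.cocomplex.X n).localizedModule S)
    (hz : z ∈ DRing.torsionSub (K.map (algebraMap R (Localization S))) ((J.cocomplex.X n).localizedModule S)) :
    ∃ x ∈ DRing.torsionSub K (J.cocomplex.X n), ∃ s : S, (s : R) • z = floc S J n x := by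
  classical
  obtain ⟨⟨x₀, s₀⟩, hx₀⟩ := IsLocalizedModule.surj S (floc S J n) z
  rw [Submonoid.smul_def] at hx₀
  obtain ⟨k, hk⟩ := hz
  obtain ⟨G, hG⟩ := (IsNoetherian.noetherian (K ^ k) : (K ^ k).FG)
  have hkill : ∀ a ∈ G, ∃ t : S, (t : R) • (a • x₀) = 0 := fun a ha => by
    obtain ⟨t, ht⟩ := (IsLocalizedModule.eq_zero_iff S (floc S J n) (m := a • x₀)).1 (by
      rw [map_smul, ← hx₀, smul_comm, ← algebraMap_smul (Localization S) a z,
        hk _ (by rw [← Ideal.map_pow]; exact Ideal.mem_map_of_mem _ (hG ▸ Ideal.subset_span ha)), smul_zero])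
    exact ⟨t, ht⟩
  choose t ht using hkill
  let T : S := ∏ a ∈ G.attach, t a.1 a.2
  refine ⟨(T : R) • x₀, ⟨k, fun a ha => ?_⟩, T * s₀, ?_⟩
  · rw [← hG] at ha
    induction ha using Submodule.span_induction with
    | mem b hb =>
      obtain ⟨c, hc⟩ : (t b hb : R) ∣ (T : R) := by
        show (t b hb : R) ∣ ((∏ a ∈ G.attach, t a.1 a.2 : S) : R)
        rw [Submonoid.coe_finsetProd]
        exact Finset.dvd_prod_of_mem (fun a : G => (t a.1 a.2 : R)) (Finset.mem_attach _ ⟨b, hb⟩)
      rw [smul_comm, hc, mul_comm, mul_smul, ht b hb, smul_zero]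
    | zero => exact zero_smul _ _
    | add a b _ _ ha hb => rw [add_smul, ha, hb, add_zero]
    | smul c a _ ha => rw [smul_eq_mul, mul_smul, ha, smul_zero]
  · rw [map_smul, ← hx₀, Submonoid.coe_mul, mul_smul]

theorem floc_mem_boundary {K : Ideal R} : ∀ {j : ℕ} {x : J.cocomplex.X j}, x ∈ boundary J K j →
    floc S J j x ∈ boundary (localizeRes S J) (K.map (algebraMap R (Localization S))) j
  | 0, x, hx => by
    rw [(Submodule.mem_bot R).1 hx, map_zero]
    exact Submodule.zero_mem _
  | k + 1, x, ⟨y, hy, e⟩ => ⟨floc S J k y, floc_mem S J hy, (dloc_floc S J k (k + 1) y).trans (congrArg _ e)⟩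

theorem exists_smul_mem_boundary {K : Ideal R} : ∀ {j : ℕ} {x : J.cocomplex.X j},
    floc S J j x ∈ boundary (localizeRes S J) (K.map (algebraMap R (Localization S))) j →
      ∃ s : S, (s : R) • x ∈ boundary J K j
  | 0, x, hx => by
    obtain ⟨s, hs⟩ := (IsLocalizedModule.eq_zero_iff S (floc S J 0)).1 ((Submodule.mem_bot _).1 hx)
    exact ⟨s, (Submodule.mem_bot R).2 hs⟩
  | k + 1, x, hx => by
    obtain ⟨z, hz, e⟩ : ∃ z : (J.cocomplex.X k).localizedModule S,
        z ∈ DRing.torsionSub (K.map (algebraMap R (Localization S))) ((J.cocomplex.X k).localizedModule S) ∧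
          dloc S J k (k + 1) z = floc S J (k + 1) x := hx
    obtain ⟨y, hy, s, hs⟩ := exists_rep S J z hz
    have e1 : dloc S J k (k + 1) ((s : R) • z) = (s : R) • floc S J (k + 1) x :=
      (LinearMap.map_smul_of_tower _ _ _).trans (congrArg _ e)
    rw [hs, dloc_floc, ← map_smul] at e1
    obtain ⟨t, ht⟩ := IsLocalizedModule.exists_of_eq (S := S) (f := floc S J (k + 1)) e1
    refine ⟨t * s, (t : R) • y, Submodule.smul_mem _ _ hy, ?_⟩
    rw [map_smul, Submonoid.coe_mul, mul_smul]
    exact ht

theorem vanish_localizeRes {K : Ideal R} {j : ℕ} (h : Vanish J K j) :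
    Vanish (localizeRes S J) (K.map (algebraMap R (Localization S))) j := by
  suffices ∀ z : (J.cocomplex.X j).localizedModule S,
      z ∈ DRing.torsionSub (K.map (algebraMap R (Localization S))) ((J.cocomplex.X j).localizedModule S) →
      dloc S J j (j + 1) z = 0 → z ∈ (boundary (localizeRes S J) (K.map (algebraMap R (Localization S))) j :
        Submodule (Localization S) ((J.cocomplex.X j).localizedModule S)) from this
  intro z hz hd
  obtain ⟨x, hx, s, hs⟩ := exists_rep S J z hz
  have h0 : floc S J (j + 1) (J.cocomplex.d j (j + 1) x) = 0 := by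
    rw [← dloc_floc, ← hs, LinearMap.map_smul_of_tower]
    rw [hd, smul_zero]
  obtain ⟨t, ht⟩ := (IsLocalizedModule.eq_zero_iff S (floc S J (j + 1))).1 h0
  have hb := floc_mem_boundary S J (h ((t : R) • x) (Submodule.smul_mem _ _ hx) (by rw [map_smul]; exact ht))
  rw [map_smul, ← hs, smul_smul, ← algebraMap_smul (Localization S) ((t : R) * s)] at hb
  exact (Submodule.smul_mem_iff_of_isUnit
    (boundary (localizeRes S J) (K.map (algebraMap R (Localization S))) j :
      Submodule (Localization S) ((J.cocomplex.X j).localizedModule S))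
    (IsLocalization.map_units (Localization S) (t * s))).1 hb

theorem vanish_of_localizations {K : Ideal R} {j : ℕ}
    (h : ∀ (m : Ideal R) [m.IsMaximal],
      Vanish (localizeRes m.primeCompl J) (K.map (algebraMap R (Localization m.primeCompl))) j) :
    Vanish J K j := by
  intro x hx hd
  by_contra hne
  let 𝔞 : Ideal R := (boundary J K j).comap (LinearMap.toSpanSingleton R _ x)
  have h𝔞 : 𝔞 ≠ ⊤ := fun htop => hne (by
    have : (1 : R) ∈ 𝔞 := htop ▸ Submodule.mem_top
    simpa [𝔞] using this)
  obtain ⟨m, hm, hle⟩ := Ideal.exists_le_maximal 𝔞 h𝔞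
  obtain ⟨s, hs⟩ := exists_smul_mem_boundary m.primeCompl J (h m _ (floc_mem m.primeCompl J hx)
    ((dloc_floc m.primeCompl J j (j + 1) x).trans ((congrArg _ hd).trans (map_zero _))))
  exact s.2 (hle hs)

/-- The comparison with the plain localized module. -/
noncomputable def localizedIso (M : Type u) [AddCommGroup M] [Module R M] :
    (locFunctor S).obj (ModuleCat.of R M) ≅ ModuleCat.of (Localization S) (LocalizedModule S M) :=
  (Shrink.linearEquiv (Localization S) (LocalizedModule S M)).toModuleIso

theorem subsingleton_iff_of_iso {A : Type u} [CommRing A] (I : Ideal A) (i : ℕ) {X Y : ModuleCat.{u} A} (e : X ≅ Y) :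
    Subsingleton ↑((localCohomology I i).obj X) ↔ Subsingleton ↑((localCohomology I i).obj Y) := by
  have e' := ((localCohomology I i).mapIso e).toLinearEquiv.toEquiv
  exact e'.subsingleton_congr

theorem subsingleton_localized_iff (M : Type u) [AddCommGroup M] [Module R M]
    (J : InjectiveResolution (ModuleCat.of R M)) (K : Ideal (Localization S)) (i : ℕ) :
    Subsingleton (LocCoh.H K i (LocalizedModule S M)) ↔ Vanish (localizeRes S J) K i :=
  (subsingleton_iff_of_iso K i (localizedIso S M)).symm.trans (subsingleton_iff_vanish (localizeRes S J) K i)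

/-- Local cohomology vanishing localizes. -/
theorem subsingleton_localized (M : Type u) [AddCommGroup M] [Module R M] (I : Ideal R) (i : ℕ)
    (h : Subsingleton (LocCoh.H I i M)) :
    Subsingleton (LocCoh.H (I.map (algebraMap R (Localization S))) i (LocalizedModule S M)) :=
  (subsingleton_localized_iff S M (injectiveResolution _) _ i).2
    (vanish_localizeRes S _ ((subsingleton_iff_vanish (injectiveResolution _) I i).1 h))

/-- Local cohomology vanishing is local. -/
theorem subsingleton_of_localizations (M : Type u) [AddCommGroup M] [Module R M] (I : Ideal R) (i : ℕ)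
    (h : ∀ (m : Ideal R) [m.IsMaximal],
      Subsingleton (LocCoh.H (I.map (algebraMap R (Localization.AtPrime m))) i (LocalizedModule m.primeCompl M))) :
    Subsingleton (LocCoh.H I i M) :=
  (subsingleton_iff_vanish (injectiveResolution _) I i).2 (vanish_of_localizations _ fun m _ =>
    (subsingleton_localized_iff m.primeCompl M (injectiveResolution _) _ i).1 (h m))

/-- An injective resolution vanishing criterion survives a change of resolution. -/
theorem cdLE_iff_localizations (I : Ideal R) (d : ℕ) :
    LocCoh.CdLE R I d ↔ ∀ (p : Ideal R) [p.IsPrime],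
      LocCoh.CdLE (Localization.AtPrime p) (I.map (algebraMap R (Localization.AtPrime p))) d := by
  constructor
  · intro h p _ N _ _ i hi
    letI : Module R N := Module.compHom N (algebraMap R (Localization.AtPrime p))
    haveI : IsScalarTower R (Localization.AtPrime p) N := IsScalarTower.of_algebraMap_smul fun _ _ => rfl
    have hloc : IsLocalizedModule p.primeCompl (LinearMap.id : N →ₗ[R] N) :=
      { map_units := fun s => (Module.End.isUnit_iff _).2 (by
          obtain ⟨u, hu⟩ := IsLocalization.map_units (Localization.AtPrime p) s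
          have : ⇑(algebraMap R (Module.End R N) s) = fun x => (u : Localization.AtPrime p) • x := by
            funext x
            rw [Module.algebraMap_end_apply, hu, algebraMap_smul]
          rw [this]
          exact (MulAction.bijective u))
        surj := fun y => ⟨⟨y, 1⟩, one_smul _ _⟩
        exists_of_eq := fun {x y} e => ⟨1, by rw [show x = y from e]⟩ }
    let e : LocalizedModule p.primeCompl N ≃ₗ[Localization.AtPrime p] N :=
      LinearEquiv.extendScalarsOfIsLocalization p.primeCompl (Localization.AtPrime p)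
        (IsLocalizedModule.iso p.primeCompl (LinearMap.id : N →ₗ[R] N))
    exact (subsingleton_iff_of_iso _ i e.toModuleIso).1 (subsingleton_localized p.primeCompl N I i (h N i hi))
  · intro h N _ _ i hi
    exact subsingleton_of_localizations N I i fun m _ => h m (LocalizedModule m.primeCompl N) i hi

end Groth.Agent.LocH
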