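import Mathlib
import Groth.Prelude.Def_DualLC
import Groth.Agent.LocH.Localize

/-!
Comparing supports: the sections of `Γ_I J / Γ_{I'} J` are governed by the primes of `V(I) \ V(I')`.
-/

namespace Groth.Agent.LocH

universe u

open CategoryTheory CategoryTheory.Limits Opposite CategoryTheory.Abelian

variable {R : Type u} [CommRing R]

/-- The elements sending `z` eventually into the `I`-torsion. -/
noncomputable def torsionColon (I : Ideal R) {G : Type u} [AddCommGroup G] [Module R G] (z : G) : Ideal R :=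
  Ideal.radical ((DRing.torsionSub I G).comap (LinearMap.toSpanSingleton R G z) : Ideal R)

theorem mem_torsionColon {I : Ideal R} {G : Type u} [AddCommGroup G] [Module R G] {z : G} {a : R} :
    a ∈ torsionColon I z ↔ ∃ N : ℕ, a ^ N • z ∈ DRing.torsionSub I G := Iff.rfl

theorem mem_torsionSub_of_le_torsionColon [IsNoetherianRing R] {I : Ideal R} {G : Type u} [AddCommGroup G]
    [Module R G] {z : G} (h : I ≤ torsionColon I z) : z ∈ DRing.torsionSub I G := by
  classical
  obtain ⟨e, he⟩ := Ideal.exists_pow_le_of_le_radical_of_fg h (IsNoetherian.noetherian I)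
  obtain ⟨s, hs⟩ := (IsNoetherian.noetherian (I ^ e) : (I ^ e).FG)
  have : ∀ a : s, ∃ k, ∀ b ∈ I ^ k, b • (a : R) • z = 0 := fun a => he (hs ▸ Ideal.subset_span a.2)
  choose k hk using this
  refine ⟨s.attach.sup k + e, fun c hc => ?_⟩
  rw [pow_add] at hc
  refine Submodule.mul_induction_on hc (fun b hb a ha => ?_) fun x y hx hy => by rw [add_smul, hx, hy, add_zero]
  rw [← hs] at ha
  induction ha using Submodule.span_induction with
  | mem a ha =>
    exact (mul_smul b a z).trans (hk ⟨a, ha⟩ b (Ideal.pow_le_pow_right (Finset.le_sup (f := k) (Finset.mem_attach _ ⟨a, ha⟩)) hb))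
  | zero => rw [mul_zero, zero_smul]
  | add a₁ a₂ _ _ h₁ h₂ => rw [mul_add, add_smul, h₁, h₂, add_zero]
  | smul r a _ h₁ => rw [smul_eq_mul, mul_left_comm, mul_smul, h₁, smul_zero]

variable {M : ModuleCat.{u} R} (J : InjectiveResolution M)

theorem boundary_anti {I K : Ideal R} (h : I ≤ K) : ∀ j, boundary J K j ≤ boundary J I j
  | 0 => le_rfl
  | _ + 1 => Submodule.map_mono (torsionSub_anti h _)

theorem boundary_le_torsionSub (I : Ideal R) : ∀ j, boundary J I j ≤ DRing.torsionSub I (J.cocomplex.X j)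
  | 0 => bot_le
  | k + 1 => by
    rintro _ ⟨y, hy, rfl⟩
    exact DRing.map_mem_torsionSub I (J.cocomplex.d k (k + 1)).hom hy

theorem d_boundary (I : Ideal R) : ∀ {j : ℕ} {x : J.cocomplex.X j}, x ∈ boundary J I j →
    J.cocomplex.d j (j + 1) x = 0
  | 0, x, hx => by rw [(Submodule.mem_bot R).1 hx, map_zero]
  | k + 1, _, ⟨y, _, rfl⟩ => congrArg (fun φ => φ.hom y) (J.cocomplex.d_comp_d k (k + 1) (k + 1 + 1))

variable [IsNoetherianRing R]

theorem exists_boundary_killed_correction {K : Ideal R} {u : R} : ∀ {j : ℕ} {x : J.cocomplex.X j},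
    u • x ∈ boundary J K j → ∃ b ∈ boundary J K j, ∃ m : ℕ, u ^ m • (x - b) = 0
  | 0, x, hx => ⟨0, Submodule.zero_mem _, 1, by rw [pow_one, sub_zero, (Submodule.mem_bot R).1 hx]⟩
  | k + 1, x, ⟨y, hy, e⟩ => by
    obtain ⟨⟨w, hw⟩, m, h⟩ := divModTors_resolution J K u k 1 ⟨y, hy⟩
    refine ⟨J.cocomplex.d k (k + 1) w, ⟨w, hw, rfl⟩, m + 1, ?_⟩
    have h' : u ^ m • (u • w - y) = 0 := by
      have h1 := congrArg Subtype.val h
      rw [pow_one] at h1
      exact h1
    have h2 : u ^ m • (u • J.cocomplex.d k (k + 1) w - u • x) = 0 := by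
      have := congrArg (J.cocomplex.d k (k + 1)).hom h'
      rw [map_smul, map_sub, map_smul, map_zero, e] at this
      exact this
    rw [pow_succ, mul_smul, smul_sub u, ← neg_sub, smul_neg, h2, neg_zero]

theorem mem_sup_boundary_of_le_torsionColon {I I' : Ideal R} (j : ℕ)
    (hv : ∀ (p : Ideal R) [p.IsPrime], I ≤ p → ¬ I' ≤ p →
      Vanish (localizeRes p.primeCompl J) (IsLocalRing.maximalIdeal (Localization p.primeCompl)) j) :
    ∀ L : Ideal R, I ≤ L → ∀ z ∈ DRing.torsionSub I (J.cocomplex.X j),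
      J.cocomplex.d j (j + 1) z ∈ DRing.torsionSub I' (J.cocomplex.X (j + 1)) → L ≤ torsionColon I' z →
      z ∈ DRing.torsionSub I' (J.cocomplex.X j) ⊔ boundary J I j := by
  intro L
  induction L using WellFoundedGT.induction with
  | ind L ih =>
  intro hIL z hzI hdz hL
  by_cases hrad : I' ≤ L.radical
  · exact Submodule.mem_sup_left (mem_torsionSub_of_le_torsionColon
      (hrad.trans ((Ideal.radical_mono hL).trans (le_of_eq (Ideal.radical_idem _)))))
  obtain ⟨p, hp, hI'p⟩ : ∃ p ∈ L.minimalPrimes, ¬ I' ≤ p := by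
    by_contra hne
    push Not at hne
    exact hrad (Ideal.sInf_minimalPrimes (I := L) ▸ le_sInf hne)
  have := hp.1.1
  obtain ⟨b, hb, hbp⟩ := SetLike.not_le_iff_exists.1 hI'p
  have floc_zero : ∀ {n : ℕ} {x : J.cocomplex.X n}, x ∈ DRing.torsionSub I' (J.cocomplex.X n) →
      floc p.primeCompl J n x = 0 := fun {n} {x} ⟨k, hk⟩ =>
    (IsLocalizedModule.eq_zero_iff p.primeCompl (floc p.primeCompl J n)).2
      ⟨⟨b ^ k, pow_mem (S := p.primeCompl) hbp k⟩, hk _ (Ideal.pow_mem_pow hb k)⟩
  have hcyc : dloc p.primeCompl J j (j + 1) (floc p.primeCompl J j z) = 0 := by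
    rw [dloc_floc, floc_zero hdz]
  have hmax : floc p.primeCompl J j z ∈ DRing.torsionSub
      (IsLocalRing.maximalIdeal (Localization p.primeCompl)) ((J.cocomplex.X j).localizedModule p.primeCompl) := by
    apply mem_torsionSub_of_le_torsionColon
    rw [← IsLocalization.AtPrime.map_eq_maximalIdeal p (Localization p.primeCompl),
      ← IsLocalization.AtPrime.radical_map_of_mem_minimalPrimes (Localization p.primeCompl) p L hp]
    refine (Ideal.radical_mono (Ideal.map_le_iff_le_comap.2 fun a ha => ?_)).trans (le_of_eq (Ideal.radical_idem _))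
    obtain ⟨N, hN⟩ := mem_torsionColon.1 (hL ha)
    refine mem_torsionColon.2 ⟨N, ?_⟩
    rw [← map_pow, algebraMap_smul, ← map_smul, floc_zero hN]
    exact Submodule.zero_mem _
  have hbd := hv p (hIL.trans hp.1.2) hI'p _ hmax hcyc
  rw [← IsLocalization.AtPrime.map_eq_maximalIdeal p (Localization p.primeCompl)] at hbd
  obtain ⟨u, hu⟩ := exists_smul_mem_boundary p.primeCompl J hbd
  obtain ⟨c, hc, m, hm⟩ := exists_boundary_killed_correction J hu
  have hcI : c ∈ boundary J I j := boundary_anti J (hIL.trans hp.1.2) j hc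
  have hlt : L < L ⊔ Ideal.span {(u : R)} :=
    lt_of_le_of_ne le_sup_left fun e => u.2 (hp.1.2 (e ▸ Submodule.mem_sup_right (Ideal.mem_span_singleton_self _)))
  have key := ih _ hlt (hIL.trans le_sup_left) (z - c)
    (Submodule.sub_mem _ hzI (boundary_le_torsionSub J I j hcI))
    (by rw [map_sub, d_boundary J I hcI, sub_zero]; exact hdz)
    (sup_le (fun a ha => by
      obtain ⟨N, hN⟩ := mem_torsionColon.1 (hL ha)
      obtain ⟨k, hk⟩ := boundary_le_torsionSub J p j hc
      refine mem_torsionColon.2 ⟨k + N, ?_⟩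
      rw [smul_sub, pow_add, mul_smul, mul_comm, mul_smul _ _ c, hk _ (Ideal.pow_mem_pow (hp.1.2 ha) k),
        smul_zero, sub_zero]
      exact Submodule.smul_mem _ _ hN)
    (Ideal.span_le.2 (Set.singleton_subset_iff.2 (mem_torsionColon.2
      ⟨m, by rw [hm]; exact Submodule.zero_mem _⟩))))
  exact (sub_add_cancel z c) ▸ Submodule.add_mem _ key (Submodule.mem_sup_right hcI)

/-- A section of `Γ_I J` whose differential is `I'`-torsion is, up to an `I`-boundary, `I'`-torsion. -/
theorem mem_sup_boundary {I I' : Ideal R} (j : ℕ)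
    (hv : ∀ (p : Ideal R) [p.IsPrime], I ≤ p → ¬ I' ≤ p →
      Vanish (localizeRes p.primeCompl J) (IsLocalRing.maximalIdeal (Localization p.primeCompl)) j)
    (z : J.cocomplex.X j) (hz : z ∈ DRing.torsionSub I (J.cocomplex.X j))
    (hd : J.cocomplex.d j (j + 1) z ∈ DRing.torsionSub I' (J.cocomplex.X (j + 1))) :
    z ∈ DRing.torsionSub I' (J.cocomplex.X j) ⊔ boundary J I j := by
  obtain ⟨n, hn⟩ := hz
  refine mem_sup_boundary_of_le_torsionColon J j hv I le_rfl z ⟨n, hn⟩ hd fun a ha => ?_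
  exact mem_torsionColon.2 ⟨n, by rw [hn _ (Ideal.pow_mem_pow ha n)]; exact Submodule.zero_mem _⟩

end Groth.Agent.LocH
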