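import Mathlib
import Groth.Prelude.Def_DualLC
import Groth.Agent.LocH.Devissage

/-!
The comparison map `H^i_{I'}(M) → H^i_I(M)` on cycles of an injective resolution.
-/

namespace Groth.Agent.LocH

universe u

open CategoryTheory CategoryTheory.Limits Opposite CategoryTheory.Abelian

variable {R : Type u} [CommRing R] {I I' : Ideal R} (hII' : I ≤ I') {M : ModuleCat.{u} R}

/-- The projection `R/I^n → R/I'^n`. -/
noncomputable def quotTransLE (n : ℕ) : quotObj I n ⟶ quotObj I' n :=
  ModuleCat.ofHom (Submodule.mapQ (I ^ n) (I' ^ n) LinearMap.id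
    (by simpa using Ideal.pow_right_mono hII' n))

theorem HmapOfLE_hι {i n : ℕ} (α : Ext (quotObj I' n) M i) :
    (Dual2.HmapOfLE hII' i).app M (hι I' M i n α) =
      hι I M i n ((Ext.mk₀ (quotTransLE hII' n)).comp α (zero_add _)) := by
  have h1 : colimit.ι (localCohomology.diagram (localCohomology.idealPowersDiagram I') i) (op (op n)) ≫
      Dual2.HmapOfLE hII' i = (_root_.Ext R (ModuleCat.{u} R) i).map (quotTransLE hII' n).op ≫
        colimit.ι (localCohomology.diagram (localCohomology.idealPowersDiagram I) i) (op (op n)) :=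
    ι_colimMap _ (op (op n))
  have h2 := congrArg (fun φ => ((φ : (_root_.Ext R (ModuleCat.{u} R) i).obj (op (quotObj I' n)) ⟶
    localCohomology I i).app M).hom ((ExtCompare.extEquiv R (quotObj I' n) M i).symm α)) h1
  refine h2.trans ?_
  show ((colimit.ι (localCohomology.diagram (localCohomology.idealPowersDiagram I) i) (op (op n))).app
      M).hom (((_root_.Ext R (ModuleCat.{u} R) i).map (quotTransLE hII' n).op).app M _) =
    ((colimit.ι (localCohomology.diagram (localCohomology.idealPowersDiagram I) i) (op (op n))).app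
      M).hom ((ExtCompare.extEquiv R (quotObj I n) M i).symm _)
  congr 1
  refine (ExtCompare.extEquiv R (quotObj I n) M i).eq_symm_apply.2 ?_
  refine (ExtCompare.extEquiv_app (quotTransLE hII' n) _).trans ?_
  rw [LinearEquiv.apply_symm_apply]

variable (J : InjectiveResolution M) (i : ℕ)

theorem HmapOfLE_cyclesToH (z' : (gammaComplex J I').cycles i) (z : (gammaComplex J I).cycles i)
    (hz : cycleVal J i z = cycleVal J i z') :
    (Dual2.HmapOfLE hII' i).app M (cyclesToH J i z') = cyclesToH J i z := by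
  obtain ⟨n, hn⟩ := cycleVal_mem J i z'
  have hn' : ∀ a ∈ I ^ n, a • cycleVal J i z = 0 := fun a ha =>
    hz.symm ▸ hn a (Ideal.pow_right_mono hII' n ha)
  rw [cyclesToH_eq J i z' hn, cyclesToH_eq J i z hn', cls, cls, HmapOfLE_hι,
    InjectiveResolution.mk₀_comp_extMk]
  refine congrArg _ (extMk_congr J i (quotObj_hom_ext ?_) _ _)
  exact ((liftHom_apply_one hn').trans hz).symm ▸ (liftHom_apply_one hn)

theorem cyclesToH_eq_zero_iff_mem (z : (gammaComplex J I).cycles i) :
    cyclesToH J i z = 0 ↔ cycleVal J i z ∈ boundary J I i := by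
  have hval : ∀ (p : ℕ) (y : (gammaComplex J I).X p),
      cycleVal J i ((gammaComplex J I).toCycles p i y) =
        J.cocomplex.d p i ((DRing.torsionSub I (J.cocomplex.X p)).subtype y) := fun p y =>
    congrArg Subtype.val (congrArg (fun φ => φ.hom y) ((gammaComplex J I).toCycles_i p i))
  rw [cyclesToH_eq_zero_iff]
  cases i with
  | zero =>
    refine ⟨fun ⟨y, hy⟩ => (Submodule.mem_bot R).2 ?_, fun h => ⟨0, cycleVal_injective J 0 ?_⟩⟩
    · rw [← hy, hval, HomologicalComplex.shape _ _ _ (by simp)]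
      rfl
    · rw [hval, HomologicalComplex.shape _ _ _ (by simp), (Submodule.mem_bot R).1 h]
      rfl
  | succ k =>
    generalize hj : (ComplexShape.up ℕ).prev (k + 1) = j
    obtain rfl : k = j := by rw [← hj]; simp
    refine ⟨fun ⟨y, hy⟩ => ⟨y.1, y.2, ?_⟩, fun ⟨y, hy, e⟩ => ⟨⟨y, hy⟩, cycleVal_injective J _ ?_⟩⟩
    · rw [← hy, hval]; rfl
    · rw [hval]; exact e

variable [IsNoetherianRing R]

theorem HmapOfLE_surjective_of_vanish
    (hv : ∀ (p : Ideal R) [p.IsPrime], I ≤ p → ¬ I' ≤ p →
      Vanish (localizeRes p.primeCompl J) (IsLocalRing.maximalIdeal (Localization p.primeCompl)) i) :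
    Function.Surjective ((Dual2.HmapOfLE hII' i).app M).hom := by
  intro α
  obtain ⟨z, rfl⟩ := cyclesToH_surjective J i α
  obtain ⟨t, ht, b, hb, htb⟩ := Submodule.mem_sup.1 (mem_sup_boundary J i hv _
    ((gammaComplex J I).iCycles i z).2
    (show J.cocomplex.d i (i + 1) (cycleVal J i z) ∈ _ from (d_cycleVal J i z).symm ▸ Submodule.zero_mem _))
  have hdt : J.cocomplex.d i (i + 1) t = 0 := by
    have := congrArg (J.cocomplex.d i (i + 1)).hom htb
    rw [map_add, d_boundary J I hb, add_zero] at this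
    exact this.trans (d_cycleVal J i z)
  obtain ⟨z', hz'⟩ := exists_cycle (I := I') J i t ht hdt
  obtain ⟨z'', hz''⟩ := exists_cycle (I := I) J i t (torsionSub_anti hII' _ ht) hdt
  refine ⟨cyclesToH J i z', ?_⟩
  rw [HmapOfLE_cyclesToH hII' J i z' z'' (hz''.trans hz'.symm), ← sub_eq_zero, ← map_sub,
    cyclesToH_eq_zero_iff_mem]
  have e : cycleVal J i (z'' - z) = -b := by
    refine ((congrArg _ (map_sub _ z'' z)).trans (map_sub _ _ _)).trans ?_
    show cycleVal J i z'' - cycleVal J i z = -b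
    rw [hz'', ← show t + b = cycleVal J i z from htb, sub_add_cancel_left]
  rw [e]
  exact Submodule.neg_mem _ hb

theorem HmapOfLE_injective_of_vanish
    (hv : ∀ (p : Ideal R) [p.IsPrime], I ≤ p → ¬ I' ≤ p → ∀ j, j + 1 = i →
      Vanish (localizeRes p.primeCompl J) (IsLocalRing.maximalIdeal (Localization p.primeCompl)) j) :
    Function.Injective ((Dual2.HmapOfLE hII' i).app M).hom := by
  refine (injective_iff_map_eq_zero _).2 fun β hβ => ?_
  obtain ⟨z', rfl⟩ := cyclesToH_surjective J i β
  obtain ⟨z, hz⟩ := exists_cycle (I := I) J i (cycleVal J i z')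
    (torsionSub_anti hII' _ ((gammaComplex J I').iCycles i z').2) (d_cycleVal J i z')
  rw [HmapOfLE_cyclesToH hII' J i z' z hz, cyclesToH_eq_zero_iff_mem, hz] at hβ
  rw [cyclesToH_eq_zero_iff_mem]
  cases i with
  | zero => exact hβ
  | succ k =>
    obtain ⟨w, hw, hwz⟩ := hβ
    obtain ⟨t, ht, b, hb, htb⟩ := Submodule.mem_sup.1 (mem_sup_boundary J k (fun p _ h1 h2 => hv p h1 h2 k rfl) w hw
      (hwz ▸ ((gammaComplex J I').iCycles (k + 1) z').2))
    refine ⟨t, ht, ?_⟩
    rw [← hwz, ← htb, map_add, d_boundary J I hb, add_zero]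

end Groth.Agent.LocH
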