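import Mathlib
import Groth.Prelude.Def_DRing3
import Groth.Agent.LocH.Cd

/-!
Vanishing of local cohomology can be tested on the ring; annihilation away from the support.
-/

namespace Groth.Agent.LocH

universe u

open CategoryTheory CategoryTheory.Limits Opposite CategoryTheory.Abelian

variable {R : Type u} [CommRing R] {I : Ideal R}

instance (I : Ideal R) (i : ℕ) : (localCohomology I i).Additive where
  map_add {X Y f g} := by
    ext x
    obtain ⟨n, α, rfl⟩ := exists_hι x
    simp [map_hι, Ext.mk₀_add]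

theorem smul_eq_zero_of_smul_eq_zero {M : ModuleCat.{u} R} {s : R} (hs : ∀ m : M, s • m = 0) (i : ℕ)
    (x : ↑((localCohomology I i).obj M)) : s • x = 0 := by
  obtain ⟨n, α, rfl⟩ := exists_hι x
  have h0 : s • 𝟙 M = 0 := by ext m; exact hs m
  have h : α.comp (Ext.mk₀ (s • 𝟙 M)) (add_zero i) = s • α := by
    rw [Ext.mk₀_smul, Ext.comp_smul, Ext.comp_mk₀_id]
  rw [← map_smul, ← h, h0, Ext.mk₀_zero, Ext.comp_zero, map_zero]

/-- Every extension class of a finite module comes from a finite submodule. -/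
theorem exists_fg_ext [IsNoetherianRing R] (M : ModuleCat.{u} R) :
    ∀ (i : ℕ) (N : ModuleCat.{u} R), Module.Finite R N → ∀ α : Ext N M i,
      ∃ (M₀ : Submodule R M) (_ : M₀.FG) (α₀ : Ext N (ModuleCat.of R M₀) i),
        α₀.comp (Ext.mk₀ (ModuleCat.ofHom M₀.subtype : ModuleCat.of R M₀ ⟶ M)) (add_zero i) = α := by
  intro i
  induction i with
  | zero =>
    intro N hN α
    obtain ⟨f, rfl⟩ := (Ext.mk₀_bijective N M).2 α
    refine ⟨LinearMap.range f.hom, ?_, Ext.mk₀ (ModuleCat.ofHom f.hom.rangeRestrict), ?_⟩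
    · rw [LinearMap.range_eq_map]
      exact Module.Finite.fg_top.map _
    · rw [Ext.mk₀_comp_mk₀]
      rfl
  | succ i ih =>
    intro N hN α
    obtain ⟨s, π, hπ⟩ := Module.Finite.exists_fin' R N
    let S : ShortComplex (ModuleCat.{u} R) :=
      ShortComplex.mk (X₁ := ModuleCat.of R (LinearMap.ker π)) (X₂ := ModuleCat.of R (Fin s → R))
        (X₃ := N) (ModuleCat.ofHom (LinearMap.ker π).subtype) (ModuleCat.ofHom π)
        (by ext x; exact x.2)
    have hS : S.ShortExact :=
      { exact := by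
          rw [ShortComplex.moduleCat_exact_iff]
          intro y hy
          exact ⟨⟨y, hy⟩, rfl⟩
        mono_f := (ModuleCat.mono_iff_injective _).2 (LinearMap.ker π).injective_subtype
        epi_g := (ModuleCat.epi_iff_surjective _).2 hπ }
    have : Projective (ModuleCat.of R (Fin s → R)) :=
      ModuleCat.projective_of_free (Pi.basisFun R (Fin s))
    obtain ⟨β, hβ⟩ := Ext.contravariant_sequence_exact₃ hS M (x₃ := α)
      (Ext.eq_zero_of_projective (P := ModuleCat.of R (Fin s → R)) _) (add_comm 1 i)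
    have : Module.Finite R S.X₁ := Module.Finite.iff_fg.2 (IsNoetherian.noetherian (LinearMap.ker π))
    obtain ⟨M₀, hM₀, β₀, hβ₀⟩ := ih S.X₁ this β
    refine ⟨M₀, hM₀, hS.extClass.comp β₀ (add_comm 1 i), ?_⟩
    rw [Ext.comp_assoc _ _ _ (add_comm 1 i) (add_zero i) (by lia), hβ₀, hβ]

theorem exists_fg_map_eq [IsNoetherianRing R] (M : ModuleCat.{u} R) (i : ℕ)
    (x : ↑((localCohomology I i).obj M)) :
    ∃ (M₀ : Submodule R M) (_ : M₀.FG) (y : ↑((localCohomology I i).obj (ModuleCat.of R M₀))),
      (localCohomology I i).map (ModuleCat.ofHom M₀.subtype : ModuleCat.of R M₀ ⟶ M) y = x := by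
  obtain ⟨n, α, rfl⟩ := exists_hι x
  obtain ⟨M₀, hM₀, α₀, h⟩ := exists_fg_ext M i (quotObj I n) inferInstance α
  exact ⟨M₀, hM₀, hι I _ i n α₀, by rw [map_hι, h]⟩

theorem subsingleton_pi {i : ℕ} (h : Subsingleton ↑((localCohomology I i).obj (ModuleCat.of R R)))
    (t : ℕ) : Subsingleton ↑((localCohomology I i).obj (ModuleCat.of R (Fin t → R))) := by
  let p : Fin t → (ModuleCat.of R (Fin t → R) ⟶ ModuleCat.of R R) := fun j =>
    ModuleCat.ofHom (LinearMap.proj j)
  let e : Fin t → (ModuleCat.of R R ⟶ ModuleCat.of R (Fin t → R)) := fun j =>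
    ModuleCat.ofHom (LinearMap.single R (fun _ => R) j)
  have hid : 𝟙 (ModuleCat.of R (Fin t → R)) = ∑ j, p j ≫ e j := by
    refine ModuleCat.hom_ext (LinearMap.ext fun f => ?_)
    rw [ModuleCat.hom_sum, LinearMap.sum_apply]
    exact (Finset.univ_sum_single f).symm
  refine subsingleton_of_forall_eq 0 fun x => ?_
  have := congrArg (fun φ => φ.hom x) ((localCohomology I i).map_id (ModuleCat.of R (Fin t → R)))
  rw [hid, Functor.map_sum, ModuleCat.hom_sum, LinearMap.sum_apply] at this
  refine this.symm.trans (Finset.sum_eq_zero fun j _ => ?_)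
  rw [Functor.map_comp]
  show (localCohomology I i).map (e j) ((localCohomology I i).map (p j) x) = 0
  rw [h.elim ((localCohomology I i).map (p j) x) 0, map_zero]

theorem cdLE_of_ring [IsNoetherianRing R] (d : ℕ)
    (h : ∀ i : ℕ, d < i → Subsingleton (LocCoh.H I i R)) : LocCoh.CdLE R I d := by
  obtain ⟨gens, hgens⟩ := IsNoetherian.noetherian I
  have key : ∀ (k i : ℕ), gens.card < i + k → d < i → ∀ (N : ModuleCat.{u} R), Module.Finite R N →
      Subsingleton ↑((localCohomology I i).obj N) := by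
    intro k
    induction k with
    | zero =>
      intro i hi _ N _
      exact (hgens ▸ cdLE_card gens : LocCoh.CdLE R I gens.card) N i (by lia)
    | succ k ih =>
      intro i hi hd N hN
      obtain ⟨s, π, hπ⟩ := Module.Finite.exists_fin' R N
      let S : ShortComplex (ModuleCat.{u} R) :=
        ShortComplex.mk (X₁ := ModuleCat.of R (LinearMap.ker π)) (X₂ := ModuleCat.of R (Fin s → R))
          (X₃ := N) (ModuleCat.ofHom (LinearMap.ker π).subtype) (ModuleCat.ofHom π)
          (by ext x; exact x.2)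
      have hS : S.ShortExact :=
        { exact := by
            rw [ShortComplex.moduleCat_exact_iff]
            intro y hy
            exact ⟨⟨y, hy⟩, rfl⟩
          mono_f := (ModuleCat.mono_iff_injective _).2 (LinearMap.ker π).injective_subtype
          epi_g := (ModuleCat.epi_iff_surjective _).2 hπ }
      exact subsingleton_X₃ hS i (subsingleton_pi (h i hd) s) (ih (i + 1) (by lia) (by lia) S.X₁
        (Module.Finite.iff_fg.2 (IsNoetherian.noetherian (LinearMap.ker π))))
  intro M _ _ i hi
  refine subsingleton_of_forall_eq 0 fun x => ?_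
  obtain ⟨M₀, hM₀, y, rfl⟩ := exists_fg_map_eq (ModuleCat.of R M) i x
  have := key (gens.card + 1) i (by lia) hi (ModuleCat.of R M₀) (Module.Finite.iff_fg.2 hM₀)
  rw [this.elim y 0, map_zero]

theorem exists_smul_eq_zero_of_notMem_support (M : Type u) [AddCommGroup M] [Module R M]
    [Module.Finite R M] (p : PrimeSpectrum R) (hp : p ∉ Module.support R M) :
    ∃ s : R, s ∉ p.asIdeal ∧ ∀ (b : Ideal R) (i : ℕ) (x : LocCoh.H b i M), s • x = 0 := by
  rw [Module.support_eq_zeroLocus, PrimeSpectrum.mem_zeroLocus] at hp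
  obtain ⟨s, hs, hsp⟩ := Set.not_subset.1 hp
  exact ⟨s, hsp, fun b i x => smul_eq_zero_of_smul_eq_zero (M := ModuleCat.of R M)
    (fun m => Module.mem_annihilator.1 hs m) i x⟩

end Groth.Agent.LocH
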