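import Mathlib
import Groth.Prelude.Def_DRing3
import Groth.Agent.LocH.Vanishing
import Groth.Agent.LocH.Noetherian
import Groth.Agent.PowTors.Basic
import Groth.Agent.S11610

/-!
Grothendieck vanishing, cohomological dimension of a sum, vanishing over families of ideals.
-/

namespace Groth.Agent.LocH

universe u

open CategoryTheory CategoryTheory.Limits Opposite CategoryTheory.Abelian

variable {R : Type u} [CommRing R] {I : Ideal R}

theorem map_smul_id_apply {M : ModuleCat.{u} R} (r : R) (i : ℕ) (x : ↑((localCohomology I i).obj M)) :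
    (localCohomology I i).map (r • 𝟙 M) x = r • x := by
  obtain ⟨n, α, rfl⟩ := exists_hι x
  rw [map_hι, Ext.mk₀_smul, Ext.comp_smul, Ext.comp_mk₀_id, map_smul]

theorem subsingleton_of_subsingleton (M : ModuleCat.{u} R) [Subsingleton M] (i : ℕ) :
    Subsingleton ↑((localCohomology I i).obj M) :=
  subsingleton_of_forall_eq 0 fun x =>
    (one_smul R x).symm.trans (smul_eq_zero_of_smul_eq_zero (s := (1 : R)) (fun _ => Subsingleton.elim _ _) i x)

theorem lt_of_add_one_le_of_lt_succ {a b : WithBot ℕ∞} {i : ℕ} (h : a + 1 ≤ b) (h' : b < ((i + 1 : ℕ) : WithBot ℕ∞)) :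
    a < (i : WithBot ℕ∞) := by
  have h2 := h.trans_lt h'
  induction a with
  | bot => exact WithBot.bot_lt_coe _
  | coe a =>
    have h3 : a + 1 < ((i + 1 : ℕ) : ℕ∞) := by exact_mod_cast h2
    induction a with
    | top => exact absurd h3 (not_lt_of_ge le_top)
    | coe a =>
      have : a < i := by
        have : a + 1 < i + 1 := by exact_mod_cast h3
        lia
      exact_mod_cast this

variable [IsNoetherianRing R]

theorem subsingleton_of_supportDim_lt_of_finite (I : Ideal R) : ∀ (i : ℕ) (M : Type u) [AddCommGroup M] [Module R M]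
    [Module.Finite R M], Module.supportDim R M < (i : WithBot ℕ∞) → Subsingleton (LocCoh.H I i M)
  | 0, M, _, _, _, h => by
    have : Subsingleton M := by
      rw [← Module.supportDim_eq_bot_iff_subsingleton R]
      by_contra hne
      have : Nonempty (Module.support R M) := by
        have := (Module.supportDim_ne_bot_iff_nontrivial R M).1 hne
        exact Module.nonempty_support_of_nontrivial.to_subtype
      exact absurd h (not_lt_of_ge (Order.krullDim_nonneg))
    exact subsingleton_of_subsingleton (ModuleCat.of R M) 0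
  | i + 1, M, _, _, _, h => by
    let T := DRing.torsionSub I M
    have hN : DRing.torsionSub (I.map (algebraMap R R)) (M ⧸ T) = ⊥ := by
      rw [Algebra.algebraMap_self, Ideal.map_id]
      refine eq_bot_iff.2 fun z hz => ?_
      obtain ⟨m, rfl⟩ := Submodule.Quotient.mk_surjective T z
      obtain ⟨n, hn⟩ := hz
      exact (Submodule.Quotient.mk_eq_zero T).2 (PowTors.mem_torsionSub_of_pow_smul_mem (IsNoetherian.noetherian I) n
        fun a ha => (Submodule.Quotient.mk_eq_zero T).1 (hn a ha))
    obtain ⟨r, hr, hreg⟩ := S11610.result R R I (M ⧸ T) hN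
    replace hreg : IsSMulRegular (M ⧸ T) r := hreg
    let N := ModuleCat.of R (M ⧸ T)
    let S : ShortComplex (ModuleCat.{u} R) :=
      ShortComplex.mk (X₁ := N) (X₂ := N) (X₃ := ModuleCat.of R (QuotSMulTop r (M ⧸ T)))
        (r • 𝟙 N) (ModuleCat.ofHom (Submodule.mkQ _)) (by
          ext x
          exact (Submodule.Quotient.mk_eq_zero _).2 (Submodule.smul_mem_pointwise_smul (T.mkQ x) r _ Submodule.mem_top))
    have hS : S.ShortExact :=
      { exact := by
          rw [ShortComplex.moduleCat_exact_iff]
          intro y hy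
          obtain ⟨z, -, hz⟩ := (Submodule.Quotient.mk_eq_zero _).1 hy
          exact ⟨z, hz⟩
        mono_f := (ModuleCat.mono_iff_injective _).2 hreg
        epi_g := (ModuleCat.epi_iff_surjective _).2 (Submodule.mkQ_surjective _) }
    have h3 : Subsingleton ↑((localCohomology I i).obj S.X₃) :=
      subsingleton_of_supportDim_lt_of_finite I i (QuotSMulTop r (M ⧸ T)) (lt_of_add_one_le_of_lt_succ
        ((Module.supportDim_quotSMulTop_succ_le_of_notMem_minimalPrimes fun _ => hreg.notMem_of_mem_minimalPrimes).trans
          (Module.supportDim_le_of_surjective T.mkQ (Submodule.mkQ_surjective _))) h)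
    have hinj : ∀ x : ↑((localCohomology I (i + 1)).obj N), r • x = 0 → x = 0 := fun x hx => by
      obtain ⟨y, rfl⟩ := exact₁ hS i (x := x) ((map_smul_id_apply r (i + 1) x).trans hx)
      rw [h3.elim y 0, map_zero]
    have hz : ∀ (n : ℕ) (x : ↑((localCohomology I (i + 1)).obj N)), r ^ n • x = 0 → x = 0 := by
      intro n
      induction n with
      | zero => intro x hx; rwa [pow_zero, one_smul] at hx
      | succ n ih => intro x hx; exact hinj x (ih _ (by rwa [← mul_smul, ← pow_succ]))
    refine subsingleton_of_forall_eq 0 fun x => (map_mkQ_bijective (I := I) (ModuleCat.of R M) i).1 ?_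
    obtain ⟨n, hn⟩ := isPowerTorsion I (i + 1) N ((localCohomology I (i + 1)).map
      (ModuleCat.ofHom T.mkQ : ModuleCat.of R M ⟶ N) x)
    exact (hz n _ (hn _ (Ideal.pow_mem_pow hr n))).trans (map_zero _).symm

/-- Grothendieck vanishing, for arbitrary modules. -/
theorem subsingleton_of_supportDim_lt (I : Ideal R) (i : ℕ) (M : Type u) [AddCommGroup M] [Module R M]
    (h : Module.supportDim R M < (i : WithBot ℕ∞)) : Subsingleton (LocCoh.H I i M) := by
  refine subsingleton_of_forall_eq 0 fun x => ?_
  obtain ⟨M₀, hM₀, y, rfl⟩ := exists_fg_map_eq (ModuleCat.of R M) i x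
  have : Module.Finite R M₀ := Module.Finite.iff_fg.2 hM₀
  rw [(subsingleton_of_supportDim_lt_of_finite I i M₀
    ((Module.supportDim_le_of_injective M₀.subtype M₀.injective_subtype).trans_lt h)).elim y 0, map_zero]

theorem cdLE_of_ringKrullDim_le (I : Ideal R) (d : ℕ) (hd : ringKrullDim R ≤ d) : LocCoh.CdLE R I d :=
  fun M _ _ i hi => subsingleton_of_supportDim_lt I i M
    (((Module.supportDim_le_ringKrullDim R M).trans hd).trans_lt (by exact_mod_cast hi))

/-- Vanishing in all positive degrees over a family of ideals. -/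
theorem gammaExact_of_family {M : ModuleCat.{u} R} (J : InjectiveResolution M) (P : R → Prop)
    (h : ∀ s : Finset R, (∀ x ∈ s, P x) → GammaExact J (Ideal.span (s : Set R)) 0) :
    ∀ (i : ℕ) (s : Finset R), (∀ x ∈ s, P x) → GammaExact J (Ideal.span (s : Set R)) i := by
  classical
  intro i
  induction i with
  | zero => exact h
  | succ i ih =>
    intro s
    induction s using Finset.induction_on with
    | empty => intro _; rw [Finset.coe_empty, Ideal.span_empty]; exact gammaExact_bot J _
    | @insert a s ha ihs =>
      intro hP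
      have hs : ∀ x ∈ s, P x := fun x hx => hP x (Finset.mem_insert_of_mem hx)
      rw [Finset.coe_insert, Ideal.span_insert, sup_comm]
      exact gammaExact_sup_span_succ J (divModTors_resolution J _ a i) (ihs hs) (ih s hs)

end Groth.Agent.LocH
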