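import Mathlib
import Groth.Prelude.Def_DRing3
import Groth.Agent.LocH.Grothendieck
import Groth.Agent.InjHull.Matlis

/-!
`H^i_m(M)` is artinian; a secondary-type splitting for artinian modules.
-/

namespace Groth.Agent.LocH

universe u

open CategoryTheory CategoryTheory.Limits Opposite CategoryTheory.Abelian

/-- A module which is `r`-power torsion with artinian `r`-socle is artinian. -/
theorem isArtinian_of_smul_torsion {R : Type*} [CommRing R] {H : Type*} [AddCommGroup H] [Module R H] {r : R}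
    (htor : ∀ x : H, ∃ n : ℕ, r ^ n • x = 0) (hker : IsArtinian R (LinearMap.ker (LinearMap.lsmul R H r))) :
    IsArtinian R H := by
  rw [← monotone_stabilizes_iff_artinian]
  intro f
  let N : ℕ → Submodule R H := fun k => OrderDual.ofDual (f k)
  have hN : ∀ {a b}, a ≤ b → N b ≤ N a := fun hab => f.monotone hab
  let K : Submodule R H := LinearMap.ker (LinearMap.lsmul R H r)
  let T : ℕ × ℕ → Submodule R K := fun p => ((N p.2).map (LinearMap.lsmul R H (r ^ p.1))).comap K.subtype
  have hT : ∀ {p q : ℕ × ℕ}, p ≤ q → T q ≤ T p := by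
    rintro ⟨j, k⟩ ⟨j', k'⟩ ⟨hj, hk⟩ y ⟨x, hx, hxy⟩
    refine ⟨r ^ (j' - j) • x, Submodule.smul_mem _ _ (hN hk hx), ?_⟩
    rw [LinearMap.lsmul_apply, smul_smul, ← pow_add, Nat.add_sub_cancel' hj]
    exact hxy
  obtain ⟨_, ⟨⟨j₀, k₀⟩, rfl⟩, hmin⟩ := (IsWellFounded.wf : WellFounded ((· < ·) : Submodule R K → Submodule R K → Prop)).has_min
    (Set.range T) (Set.range_nonempty T)
  have hstab : ∀ p, (j₀, k₀) ≤ p → T p = T (j₀, k₀) := fun p hp =>
    eq_of_le_of_not_lt (hT hp) (hmin _ ⟨p, rfl⟩)
  have hrow : ∀ j, ∃ k, ∀ k', k ≤ k' → T (j, k) = T (j, k') := fun j => by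
    obtain ⟨n, hn⟩ := monotone_stabilizes_iff_artinian.2 hker
      ⟨fun k => OrderDual.toDual (T (j, k)), fun a b hab => hT (p := (j, a)) (q := (j, b)) ⟨le_rfl, hab⟩⟩
    exact ⟨n, fun k' hk' => hn k' hk'⟩
  choose kj hkj using hrow
  refine ⟨max k₀ ((Finset.range j₀).sup kj), fun k hk => ?_⟩
  have key : ∀ j, T (j, max k₀ ((Finset.range j₀).sup kj)) = T (j, k) := fun j => by
    by_cases hj : j₀ ≤ j
    · rw [hstab (j, _) ⟨hj, le_max_left _ _⟩, hstab (j, k) ⟨hj, (le_max_left _ _).trans hk⟩]
    · have hle : kj j ≤ max k₀ ((Finset.range j₀).sup kj) :=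
        (Finset.le_sup (f := kj) (Finset.mem_range.2 (not_le.1 hj))).trans (le_max_right _ _)
      rw [← hkj j _ hle, ← hkj j _ (hle.trans hk)]
  refine le_antisymm (f.monotone hk) ?_
  show N (max k₀ ((Finset.range j₀).sup kj)) ≤ N k
  intro x hx
  obtain ⟨n, hn⟩ := htor x
  induction n generalizing x with
  | zero => rw [pow_zero, one_smul] at hn; rw [hn]; exact Submodule.zero_mem _
  | succ n ih =>
    have hy : r ^ n • x ∈ K := by
      rw [LinearMap.mem_ker, LinearMap.lsmul_apply, ← mul_smul, ← pow_succ']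
      exact hn
    obtain ⟨x', hx', hxx'⟩ : (⟨r ^ n • x, hy⟩ : K) ∈ T (n, k) := key n ▸ ⟨x, hx, rfl⟩
    have := ih (x := x - x') (Submodule.sub_mem _ hx (hN hk hx')) (by
      rw [smul_sub, sub_eq_zero]; exact hxx'.symm)
    exact (sub_add_cancel x x') ▸ Submodule.add_mem _ this hx'

variable {R : Type u} [CommRing R] [IsNoetherianRing R]

theorem isArtinian_localCohomology (m : Ideal R) [m.IsMaximal] : ∀ (i : ℕ) (M : Type u) [AddCommGroup M]
    [Module R M] [Module.Finite R M], IsArtinian R (LocCoh.H m i M)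
  | 0, M, _, _, _ => by
    obtain ⟨k, hk⟩ := InjHull.exists_pow_smul_eq_zero (m := m) (M := ↥(DRing.torsionSub m M))
      (fun x => x.2.imp fun n hn a ha => Subtype.ext (hn a ha))
    have h : IsFiniteLength R ↥(DRing.torsionSub m M) :=
      InjHull.isFiniteLength_of_pow_smul_eq_zero m k _ inferInstance hk
    have : IsArtinian R ↑((DRing.gammaI m).obj (ModuleCat.of R M)) := (isFiniteLength_iff_isNoetherian_isArtinian.1 h).2
    exact isArtinian_of_linearEquiv (((zeroIso m).app (ModuleCat.of R M)).toLinearEquiv.symm)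
  | i + 1, M, _, _, _ => by
    let T := DRing.torsionSub m M
    have hN : DRing.torsionSub (m.map (algebraMap R R)) (M ⧸ T) = ⊥ := by
      rw [Algebra.algebraMap_self, Ideal.map_id]
      refine eq_bot_iff.2 fun z hz => ?_
      obtain ⟨x, rfl⟩ := Submodule.Quotient.mk_surjective T z
      obtain ⟨n, hn⟩ := hz
      exact (Submodule.Quotient.mk_eq_zero T).2 (PowTors.mem_torsionSub_of_pow_smul_mem (IsNoetherian.noetherian m) n
        fun a ha => (Submodule.Quotient.mk_eq_zero T).1 (hn a ha))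
    obtain ⟨r, hr, hreg⟩ := S11610.result R R m (M ⧸ T) hN
    replace hreg : IsSMulRegular (M ⧸ T) r := hreg
    let N := ModuleCat.of R (M ⧸ T)
    let S : ShortComplex (ModuleCat.{u} R) :=
      ShortComplex.mk (X₁ := N) (X₂ := N) (X₃ := ModuleCat.of R (QuotSMulTop r (M ⧸ T)))
        (r • 𝟙 N) (ModuleCat.ofHom (Submodule.mkQ _)) (by
          ext x
          exact (Submodule.Quotient.mk_eq_zero _).2 (Submodule.smul_mem_pointwise_smul (T.mkQ x) r _ Submodule.mem_top))
    have hS : S.ShortExact :=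
      { exact := by
          rw [ShortComplex.moduleCat_exact_iff]
          intro y hy
          obtain ⟨z, -, hz⟩ := (Submodule.Quotient.mk_eq_zero _).1 hy
          exact ⟨z, hz⟩
        mono_f := (ModuleCat.mono_iff_injective _).2 hreg
        epi_g := (ModuleCat.epi_iff_surjective _).2 (Submodule.mkQ_surjective _) }
    have := isArtinian_localCohomology m i (QuotSMulTop r (M ⧸ T))
    have hA : IsArtinian R ↑((localCohomology m (i + 1)).obj N) := by
      refine isArtinian_of_smul_torsion (r := r) (fun x => ?_) ?_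
      · obtain ⟨n, hn⟩ := isPowerTorsion m (i + 1) N x
        exact ⟨n, hn _ (Ideal.pow_mem_pow hr n)⟩
      · let δ : ↑((localCohomology m i).obj S.X₃) →ₗ[R] LinearMap.ker (LinearMap.lsmul R ↑((localCohomology m (i + 1)).obj N) r) :=
          (delta hS i).codRestrict _ fun y => by
            rw [LinearMap.mem_ker, LinearMap.lsmul_apply]
            exact (map_smul_id_apply r (i + 1) _).symm.trans (map_delta hS i y)
        refine isArtinian_of_surjective (↑((localCohomology m i).obj S.X₃)) δ fun x => ?_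
        obtain ⟨y, hy⟩ := exact₁ hS i (x := x.1) ((map_smul_id_apply r (i + 1) x.1).trans x.2)
        exact ⟨y, Subtype.ext hy⟩
    exact isArtinian_of_linearEquiv (LinearEquiv.ofBijective _ (map_mkQ_bijective (I := m) (ModuleCat.of R M) i)).symm

/-- Outside finitely many primes different from `m`, multiplication is surjective up to `m`-power. -/
theorem exists_primes_surjective [IsLocalRing R] (H : Type u) [AddCommGroup H] [Module R H] [IsArtinian R H]
    (K : Submodule R H) : ∃ (P : Finset (Ideal R)) (N : ℕ), (∀ Q ∈ P, Q.IsPrime ∧ Q ≠ IsLocalRing.maximalIdeal R) ∧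
      ∀ x : R, (∀ Q ∈ P, x ∉ Q) → IsLocalRing.maximalIdeal R ^ N • K ≤ K.map (LinearMap.lsmul R H x) := by
  classical
  induction K using WellFoundedLT.induction with
  | ind K ih =>
  by_cases hsplit : ∃ K₁ K₂, K₁ < K ∧ K₂ < K ∧ K₁ ⊔ K₂ = K
  · obtain ⟨K₁, K₂, h₁, h₂, hK⟩ := hsplit
    obtain ⟨P₁, N₁, hP₁, hx₁⟩ := ih K₁ h₁
    obtain ⟨P₂, N₂, hP₂, hx₂⟩ := ih K₂ h₂
    refine ⟨P₁ ∪ P₂, N₁ + N₂, fun Q hQ => (Finset.mem_union.1 hQ).elim (hP₁ Q) (hP₂ Q), fun x hx => ?_⟩
    rw [← hK, Submodule.smul_sup, Submodule.map_sup]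
    exact sup_le_sup
      ((Submodule.smul_mono_left (Ideal.pow_le_pow_right (Nat.le_add_right _ _))).trans
        (hx₁ x fun Q hQ => hx Q (Finset.mem_union_left _ hQ)))
      ((Submodule.smul_mono_left (Ideal.pow_le_pow_right (Nat.le_add_left _ _))).trans
        (hx₂ x fun Q hQ => hx Q (Finset.mem_union_right _ hQ)))
  push Not at hsplit
  let Q : Ideal R := (K.annihilator).radical
  have hdich : ∀ y : R, y ∈ Q ∨ K.map (LinearMap.lsmul R H y) = K := fun y => by
    have hle : ∀ n : ℕ, K.map (LinearMap.lsmul R H (y ^ n)) ≤ K := fun n => by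
      rintro _ ⟨k, hk, rfl⟩
      exact Submodule.smul_mem _ _ hk
    obtain ⟨n, hn⟩ := IsArtinian.monotone_stabilizes
      ⟨fun n => OrderDual.toDual (K.map (LinearMap.lsmul R H (y ^ n))), fun a b hab => by
        rintro _ ⟨k, hk, rfl⟩
        refine ⟨y ^ (b - a) • k, Submodule.smul_mem _ _ hk, ?_⟩
        rw [LinearMap.lsmul_apply, smul_smul, ← pow_add, Nat.add_sub_cancel' hab]
        rfl⟩
    have hsum : K.map (LinearMap.lsmul R H (y ^ n)) ⊔ (K ⊓ LinearMap.ker (LinearMap.lsmul R H (y ^ n))) = K := by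
      refine le_antisymm (sup_le (hle n) inf_le_left) fun k hk => ?_
      have heq : K.map (LinearMap.lsmul R H (y ^ n)) = K.map (LinearMap.lsmul R H (y ^ (n + n))) :=
        congrArg OrderDual.ofDual (hn (n + n) (Nat.le_add_right _ _))
      obtain ⟨k', hk', hkk⟩ : y ^ n • k ∈ K.map (LinearMap.lsmul R H (y ^ (n + n))) := heq.le ⟨k, hk, rfl⟩
      rw [LinearMap.lsmul_apply, pow_add, mul_smul] at hkk
      rw [← add_sub_cancel (y ^ n • k') k]
      refine Submodule.add_mem_sup ⟨k', hk', rfl⟩ ⟨Submodule.sub_mem _ hk (Submodule.smul_mem _ _ hk'), ?_⟩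
      rw [SetLike.mem_coe, LinearMap.mem_ker, LinearMap.lsmul_apply, smul_sub, hkk, sub_self]
    rcases (hle n).eq_or_lt with he | hlt
    · rcases Nat.eq_zero_or_pos n with rfl | hn0
      · right
        have h1 : K.map (LinearMap.lsmul R H (y ^ 0)) = K.map (LinearMap.lsmul R H (y ^ 1)) :=
          congrArg OrderDual.ofDual (hn 1 (Nat.zero_le _))
        rw [← pow_one y, ← h1, he]
      · right
        refine le_antisymm (pow_one y ▸ hle 1) ?_
        conv_lhs => rw [← he]
        rintro _ ⟨k, hk, rfl⟩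
        refine ⟨y ^ (n - 1) • k, Submodule.smul_mem _ _ hk, ?_⟩
        rw [LinearMap.lsmul_apply, smul_smul, ← pow_succ', Nat.sub_add_cancel hn0]
        rfl
    · left
      have h2 : K ⊓ LinearMap.ker (LinearMap.lsmul R H (y ^ n)) = K :=
        (inf_le_left.eq_or_lt).resolve_right fun h => hsplit _ _ hlt h hsum
      exact ⟨n, Submodule.mem_annihilator.2 fun k hk => (h2.ge hk).2⟩
  by_cases hm : IsLocalRing.maximalIdeal R ≤ Q
  · obtain ⟨N, hN⟩ := Ideal.exists_pow_le_of_le_radical_of_fg hm (IsNoetherian.noetherian _)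
    exact ⟨∅, N, by simp, fun x _ => Submodule.smul_le.2 fun a ha k hk => by
      rw [Submodule.mem_annihilator.1 (hN ha) k hk]; exact Submodule.zero_mem _⟩
  · have hQtop : Q ≠ ⊤ := fun h => hm (h ▸ le_top)
    have hQ : Q.IsPrime := by
      refine ⟨hQtop, fun {a b} hab => ?_⟩
      by_contra hne
      push Not at hne
      have hmul : ∀ c e : R, K.map (LinearMap.lsmul R H (c * e)) =
          (K.map (LinearMap.lsmul R H e)).map (LinearMap.lsmul R H c) := fun c e => by
        rw [← Submodule.map_comp]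
        congr 1
        exact LinearMap.ext fun v => mul_smul c e v
      have hab' : K.map (LinearMap.lsmul R H (a * b)) = K := by
        rw [hmul, (hdich b).resolve_left hne.2,
          (hdich a).resolve_left hne.1]
      have hpow : ∀ n : ℕ, K ≤ K.map (LinearMap.lsmul R H ((a * b) ^ n)) := by
        intro n
        induction n with
        | zero => intro k hk; exact ⟨k, hk, by simp⟩
        | succ n ihn =>
          rw [pow_succ, hmul, hab']
          exact ihn
      obtain ⟨n, hn⟩ := hab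
      apply hQtop
      rw [Ideal.eq_top_iff_one]
      refine ⟨1, Submodule.mem_annihilator.2 fun k hk => ?_⟩
      obtain ⟨k', hk', rfl⟩ := hpow n hk
      rw [LinearMap.lsmul_apply, Submodule.mem_annihilator.1 hn k' hk', smul_zero]
    exact ⟨{Q}, 0, by simpa using ⟨hQ, fun h => hm h.ge⟩, fun x hx => by
      rw [(hdich x).resolve_left (hx Q (Finset.mem_singleton_self _))]
      exact Submodule.smul_le_right⟩

end Groth.Agent.LocH
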