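import Mathlib
import Groth.Prelude.Def_DRing3
import Groth.Agent.LocH.Artinian
import Groth.Agent.LocH.Localize

/-!
Grothendieck non-vanishing: `H^d_m(M) ≠ 0` for `d = dim M`.
-/

namespace Groth.Agent.LocH

universe u

open CategoryTheory CategoryTheory.Limits Opposite CategoryTheory.Abelian
open scoped Pointwise

variable {R : Type u} [CommRing R]

/-- The short complex of a surjection and its kernel. -/
noncomputable def kerSES {M N : Type u} [AddCommGroup M] [Module R M] [AddCommGroup N] [Module R N]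
    (g : M →ₗ[R] N) : ShortComplex (ModuleCat.{u} R) :=
  ShortComplex.mk (X₁ := ModuleCat.of R (LinearMap.ker g)) (X₂ := ModuleCat.of R M) (X₃ := ModuleCat.of R N)
    (ModuleCat.ofHom (LinearMap.ker g).subtype) (ModuleCat.ofHom g) (by ext x; exact x.2)

theorem kerSES_shortExact {M N : Type u} [AddCommGroup M] [Module R M] [AddCommGroup N] [Module R N]
    {g : M →ₗ[R] N} (hg : Function.Surjective g) : (kerSES g).ShortExact :=
  { exact := by
      rw [ShortComplex.moduleCat_exact_iff]
      intro y hy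
      exact ⟨⟨y, hy⟩, rfl⟩
    mono_f := (ModuleCat.mono_iff_injective _).2 (LinearMap.ker g).injective_subtype
    epi_g := (ModuleCat.epi_iff_surjective _).2 hg }

variable [IsNoetherianRing R] {I : Ideal R}

/-- Right exactness in the top degree. -/
theorem map_surjective_of_surjective {M N : Type u} [AddCommGroup M] [Module R M] [AddCommGroup N] [Module R N]
    (g : M →ₗ[R] N) (hg : Function.Surjective g) (i : ℕ)
    (h : Module.supportDim R M < ((i + 1 : ℕ) : WithBot ℕ∞)) :
    Function.Surjective ((localCohomology I i).map (ModuleCat.ofHom g)) := fun x => by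
  have := subsingleton_of_supportDim_lt I (i + 1) (LinearMap.ker g)
    ((Module.supportDim_le_of_injective _ (LinearMap.ker g).injective_subtype).trans_lt h)
  exact exact₃ (kerSES_shortExact hg) i (x := x) (this.elim _ _)

theorem supportDim_quotient_lt {q : Ideal R} [q.IsPrime] {x : R} (hx : x ∉ q) {d : ℕ}
    (hd : ringKrullDim (R ⧸ q) ≤ d) : Module.supportDim R (QuotSMulTop x (R ⧸ q)) < (d : WithBot ℕ∞) := by
  have hreg : IsSMulRegular (R ⧸ q) x := by
    rw [isSMulRegular_iff_right_eq_zero_of_smul]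
    intro z hz
    obtain ⟨r, rfl⟩ := Ideal.Quotient.mk_surjective z
    have : x * r ∈ q := Ideal.Quotient.eq_zero_iff_mem.1 hz
    exact Ideal.Quotient.eq_zero_iff_mem.2 ((Ideal.IsPrime.mem_or_mem ‹_› this).resolve_left hx)
  refine lt_of_add_one_le_of_lt_succ (((Module.supportDim_quotSMulTop_succ_le_of_notMem_minimalPrimes
    fun _ => hreg.notMem_of_mem_minimalPrimes).trans
      ((Module.supportDim_quotient_eq_ringKrullDim q).le.trans hd))) ?_
  exact_mod_cast Nat.lt_succ_self d

theorem smul_surjective_of_notMem {q : Ideal R} [q.IsPrime] {x : R} (hx : x ∉ q) {d : ℕ}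
    (hd : ringKrullDim (R ⧸ q) ≤ d) (y : LocCoh.H I d (R ⧸ q)) : ∃ z, x • z = y := by
  have hinj : Function.Injective (LinearMap.lsmul R (R ⧸ q) x) := by
    refine (injective_iff_map_eq_zero _).2 fun z hz => ?_
    obtain ⟨r, rfl⟩ := Ideal.Quotient.mk_surjective z
    have : x * r ∈ q := Ideal.Quotient.eq_zero_iff_mem.1 hz
    exact Ideal.Quotient.eq_zero_iff_mem.2 ((Ideal.IsPrime.mem_or_mem ‹_› this).resolve_left hx)
  let N := ModuleCat.of R (R ⧸ q)
  let S : ShortComplex (ModuleCat.{u} R) :=
    ShortComplex.mk (X₁ := N) (X₂ := N) (X₃ := ModuleCat.of R (QuotSMulTop x (R ⧸ q)))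
      (x • 𝟙 N) (ModuleCat.ofHom (Submodule.mkQ _)) (by
        ext z
        exact (Submodule.Quotient.mk_eq_zero _).2 (Submodule.smul_mem_pointwise_smul _ x _ Submodule.mem_top))
  have hS : S.ShortExact :=
    { exact := by
        rw [ShortComplex.moduleCat_exact_iff]
        intro w hw
        obtain ⟨z, -, hz⟩ := (Submodule.Quotient.mk_eq_zero _).1 hw
        exact ⟨z, hz⟩
      mono_f := (ModuleCat.mono_iff_injective _).2 hinj
      epi_g := (ModuleCat.epi_iff_surjective _).2 (Submodule.mkQ_surjective _) }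
  obtain ⟨z, hz⟩ := exact₂ hS d (x := y)
    ((subsingleton_of_supportDim_lt I d _ (supportDim_quotient_lt hx hd)).elim _ _)
  exact ⟨z, (map_smul_id_apply x d z).symm.trans hz⟩

theorem mem_support_quotient_iff {q : Ideal R} {p : PrimeSpectrum R} :
    p ∈ Module.support R (R ⧸ q) ↔ q ≤ p.asIdeal := by
  rw [Module.mem_support_iff_of_finite, Ideal.annihilator_quotient]

theorem exists_prime_quotient_dim {M : Type u} [AddCommGroup M] [Module R M] {d : ℕ}
    (hd : Module.supportDim R M = d) :
    ∃ p ∈ Module.support R M, ringKrullDim (R ⧸ p.asIdeal) ≥ d := by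
  have : Nonempty (Module.support R M) := by
    by_contra hne
    rw [not_nonempty_iff] at hne
    rw [Module.supportDim, Order.krullDim_eq_bot] at hd
    exact absurd hd (by simp)
  have : FiniteDimensionalOrder (Module.support R M) := Order.finiteDimensionalOrder_iff_krullDim_ne_bot_and_top.2
    ⟨by rw [← Module.supportDim, hd]; simp, by rw [← Module.supportDim, hd]; exact fun h => by simpa using WithBot.coe_inj.1 h⟩
  have hlen : (LTSeries.longestOf (Module.support R M)).length = d := by
    have h1 := Order.krullDim_eq_length_of_finiteDimensionalOrder (α := Module.support R M)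
    rw [← Module.supportDim, hd] at h1
    exact_mod_cast h1.symm
  let s := LTSeries.longestOf (Module.support R M)
  refine ⟨s.head.1, s.head.2, ?_⟩
  rw [← Module.supportDim_quotient_eq_ringKrullDim]
  let s' : LTSeries (Module.support R (R ⧸ s.head.1.asIdeal)) := LTSeries.mk s.length
    (fun i => ⟨(s i).1, mem_support_quotient_iff.2 (LTSeries.head_le s i)⟩) fun i j hij => s.strictMono hij
  exact hlen ▸ Order.LTSeries.length_le_krullDim s'

variable [IsLocalRing R]

omit [IsNoetherianRing R] [IsLocalRing R] in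
theorem eq_of_add_one_eq {a : WithBot ℕ∞} {d : ℕ} (h : a + 1 = (d : WithBot ℕ∞) + 1) : a = (d : WithBot ℕ∞) := by
  induction a with
  | bot =>
    rw [WithBot.bot_add] at h
    exact absurd h.symm (by exact_mod_cast WithBot.coe_ne_bot (a := ((d + 1 : ℕ) : ℕ∞)))
  | coe a =>
    induction a with
    | top =>
      have h' : (⊤ : ℕ∞) + 1 = ((d + 1 : ℕ) : ℕ∞) := by exact_mod_cast h
      rw [top_add] at h'
      exact absurd h'.symm (ENat.natCast_ne_top _)
    | coe a =>
      have h' : a + 1 = d + 1 := by exact_mod_cast h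
      rw [Nat.add_right_cancel h']
      rfl

theorem nontrivial_quotient_prime : ∀ (d : ℕ) (q : Ideal R), q.IsPrime → ringKrullDim (R ⧸ q) = d →
    ¬ Subsingleton (LocCoh.H (IsLocalRing.maximalIdeal R) d (R ⧸ q))
  | 0, q, hq, hd, h => by
    have hmax : q = IsLocalRing.maximalIdeal R := IsLocalRing.eq_maximalIdeal
      ((Ideal.Quotient.maximal_ideal_iff_isField_quotient q).2
        (by
        have : Ring.KrullDimLE 0 (R ⧸ q) := Ring.krullDimLE_iff.2 (by rw [hd])
        exact Ring.KrullDimLE.isField_of_isDomain))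
    let x : DRing.torsionSub (IsLocalRing.maximalIdeal R) (R ⧸ q) := ⟨1, 1, fun a ha => by
      rw [pow_one] at ha
      rw [Algebra.smul_def, mul_one]
      exact Ideal.Quotient.eq_zero_iff_mem.2 (hmax ▸ ha)⟩
    have e := ((zeroIso (IsLocalRing.maximalIdeal R)).app (ModuleCat.of R (R ⧸ q))).toLinearEquiv
    have hx : x = 0 := by
      have := congrArg e (h.elim (e.symm x) 0)
      rwa [LinearEquiv.apply_symm_apply, map_zero] at this
    exact one_ne_zero (α := R ⧸ q) (congrArg Subtype.val hx)
  | d + 1, q, hq, hd, h => by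
    classical
    set m := IsLocalRing.maximalIdeal R with hm
    have hqm : q ≠ m := fun e => by
      subst e
      have := ringKrullDim_eq_zero_of_isField ((Ideal.Quotient.maximal_ideal_iff_isField_quotient m).1 inferInstance)
      rw [this] at hd
      exact absurd hd (by exact_mod_cast (Nat.succ_ne_zero d).symm)
    have hqle : q ≤ m := IsLocalRing.le_maximalIdeal hq.ne_top
    have := isArtinian_localCohomology m d (R ⧸ q)
    obtain ⟨P, N, hP, hsurj⟩ := exists_primes_surjective (R := R) (LocCoh.H m d (R ⧸ q)) ⊤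
    obtain ⟨x, hxm, hx⟩ : ∃ x ∈ m, ∀ Q ∈ insert q P, x ∉ Q := by
      by_contra hcon
      push Not at hcon
      obtain ⟨Q, hQ, hle⟩ := (Ideal.subset_union_prime (f := fun Q : Ideal R => Q) ⊥ ⊥ fun Q hQ _ _ => by
        rcases Finset.mem_insert.1 hQ with rfl | hQ
        exacts [hq, (hP Q hQ).1]).1 (show (m : Set R) ⊆ ⋃ Q ∈ (↑(insert q P) : Set (Ideal R)), (Q : Set R) from fun z hz => by
          obtain ⟨Q, hQ, hzQ⟩ := hcon z hz
          exact Set.mem_biUnion (Finset.mem_coe.2 hQ) hzQ)
      rcases Finset.mem_insert.1 hQ with rfl | hQ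
      · exact hqm (le_antisymm hqle hle)
      · exact (hP Q hQ).2 (le_antisymm (IsLocalRing.le_maximalIdeal (hP Q hQ).1.ne_top) hle)
    have hxq : x ∉ q := hx q (Finset.mem_insert_self _ _)
    have hreg : IsSMulRegular (R ⧸ q) x := by
      rw [isSMulRegular_iff_right_eq_zero_of_smul]
      intro z hz
      obtain ⟨r, rfl⟩ := Ideal.Quotient.mk_surjective z
      have : x * r ∈ q := Ideal.Quotient.eq_zero_iff_mem.1 hz
      exact Ideal.Quotient.eq_zero_iff_mem.2 ((hq.mem_or_mem this).resolve_left hxq)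
    have hdim : Module.supportDim R (QuotSMulTop x (R ⧸ q)) = d := by
      have h1 := Module.supportDim_quotSMulTop_succ_eq_supportDim hreg hxm
      rw [Module.supportDim_quotient_eq_ringKrullDim, hd, Nat.cast_succ] at h1
      exact eq_of_add_one_eq h1
    obtain ⟨p, hp, hpd⟩ := exists_prime_quotient_dim hdim
    rw [Module.support_quotSMulTop] at hp
    have hqp : q ≤ p.asIdeal := mem_support_quotient_iff.1 hp.1
    have hxp : x ∈ p.asIdeal := hp.2 rfl
    have hpd' : ringKrullDim (R ⧸ p.asIdeal) = d := by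
      refine le_antisymm ?_ hpd
      rw [← hdim, ← Module.supportDim_quotient_eq_ringKrullDim]
      exact Order.krullDim_le_of_strictMono (fun a => ⟨a.1, by
        rw [Module.support_quotSMulTop]
        exact ⟨mem_support_quotient_iff.2 (hqp.trans (mem_support_quotient_iff.1 a.2)),
          fun z hz => mem_support_quotient_iff.1 a.2 (Set.mem_singleton_iff.1 hz ▸ hxp)⟩⟩) fun a b hab => hab
    let g₁ : (R ⧸ q) →ₗ[R] QuotSMulTop x (R ⧸ q) := Submodule.mkQ _
    let g₂ : QuotSMulTop x (R ⧸ q) →ₗ[R] (R ⧸ p.asIdeal) := (x • (⊤ : Submodule R (R ⧸ q))).liftQ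
      (Submodule.factor hqp) (by
        rintro _ ⟨z, -, rfl⟩
        obtain ⟨r, rfl⟩ := Ideal.Quotient.mk_surjective z
        exact Ideal.Quotient.eq_zero_iff_mem.2 (Ideal.mul_mem_right r _ hxp))
    have hg₂ : Function.Surjective g₂ := fun z => by
      obtain ⟨w, rfl⟩ := Submodule.factor_surjective hqp z
      exact ⟨g₁ w, rfl⟩
    have hsurj1 : Function.Surjective ((localCohomology m d).map (ModuleCat.ofHom g₁)) := by
      let N' := ModuleCat.of R (R ⧸ q)
      let S : ShortComplex (ModuleCat.{u} R) :=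
        ShortComplex.mk (X₁ := N') (X₂ := N') (X₃ := ModuleCat.of R (QuotSMulTop x (R ⧸ q)))
          (x • 𝟙 N') (ModuleCat.ofHom g₁) (by
            ext z
            exact (Submodule.Quotient.mk_eq_zero _).2 (Submodule.smul_mem_pointwise_smul _ x _ Submodule.mem_top))
      have hS : S.ShortExact :=
        { exact := by
            rw [ShortComplex.moduleCat_exact_iff]
            intro w hw
            obtain ⟨z, -, hz⟩ := (Submodule.Quotient.mk_eq_zero _).1 hw
            exact ⟨z, hz⟩
          mono_f := (ModuleCat.mono_iff_injective _).2 hreg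
          epi_g := (ModuleCat.epi_iff_surjective _).2 (Submodule.mkQ_surjective _) }
      intro y
      exact exact₃ hS d (x := y) (h.elim _ _)
    have hsurj2 : Function.Surjective ((localCohomology m d).map (ModuleCat.ofHom g₂)) :=
      map_surjective_of_surjective g₂ hg₂ d (by rw [hdim]; exact_mod_cast Nat.lt_succ_self d)
    have hzero : ∀ a ∈ m ^ N, ∀ y : LocCoh.H m d (R ⧸ p.asIdeal), a • y = 0 := fun a ha y => by
      obtain ⟨y₂, rfl⟩ := hsurj2 y
      obtain ⟨y₁, rfl⟩ := hsurj1 y₂
      obtain ⟨w, -, hw⟩ := hsurj x (fun Q hQ => hx Q (Finset.mem_insert_of_mem hQ))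
        (Submodule.smul_mem_smul ha (Submodule.mem_top (x := y₁)))
      rw [← map_smul, ← map_smul, ← hw, LinearMap.lsmul_apply, map_smul, map_smul]
      refine smul_eq_zero_of_smul_eq_zero (M := ModuleCat.of R (R ⧸ p.asIdeal)) (fun z => ?_) d _
      obtain ⟨r, rfl⟩ := Ideal.Quotient.mk_surjective z
      exact Ideal.Quotient.eq_zero_iff_mem.2 (Ideal.mul_mem_right r _ hxp)
    refine nontrivial_quotient_prime d p.asIdeal p.isPrime hpd' ?_
    rcases Nat.eq_zero_or_pos d with rfl | hd0
    · have h0 : Subsingleton (LocCoh.H m 0 (R ⧸ q)) := by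
        have e := ((zeroIso m).app (ModuleCat.of R (R ⧸ q))).toLinearEquiv
        have : Subsingleton ↑((DRing.gammaI m).obj (ModuleCat.of R (R ⧸ q))) := ⟨fun a b => Subtype.ext (by
          obtain ⟨n, hn⟩ := (DRing.torsionSub m (R ⧸ q)).sub_mem a.2 b.2
          exact sub_eq_zero.1 ((hreg.pow n).right_eq_zero_of_smul (hn _ (Ideal.pow_mem_pow hxm n))))⟩
        exact e.toEquiv.subsingleton
      refine subsingleton_of_forall_eq 0 fun y => ?_
      obtain ⟨y₂, rfl⟩ := hsurj2 y
      obtain ⟨y₁, rfl⟩ := hsurj1 y₂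
      rw [h0.elim y₁ 0, map_zero, map_zero]
    · have hpm : p.asIdeal ≠ m := fun e => by
        rw [e, ringKrullDim_eq_zero_of_isField ((Ideal.Quotient.maximal_ideal_iff_isField_quotient m).1 inferInstance)] at hpd'
        exact hd0.ne' (by exact_mod_cast hpd'.symm)
      obtain ⟨x', hx'm, hx'p⟩ := SetLike.not_le_iff_exists.1
        (fun hle => hpm (le_antisymm (IsLocalRing.le_maximalIdeal p.isPrime.ne_top) hle))
      have hpow : ∀ (n : ℕ) (y : LocCoh.H m d (R ⧸ p.asIdeal)), ∃ z, x' ^ n • z = y := by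
        intro n
        induction n with
        | zero => exact fun y => ⟨y, by rw [pow_zero, one_smul]⟩
        | succ n ihn =>
          intro y
          obtain ⟨z, rfl⟩ := ihn y
          obtain ⟨w, rfl⟩ := smul_surjective_of_notMem hx'p hpd'.le z
          exact ⟨w, by rw [pow_succ, mul_smul]⟩
      refine subsingleton_of_forall_eq 0 fun y => ?_
      obtain ⟨z, rfl⟩ := hpow N y
      exact hzero _ (Ideal.pow_mem_pow hx'm N) z

omit [IsLocalRing R] in
theorem exists_hom_ne_zero {M : Type u} [AddCommGroup M] [Module R M] [Module.Finite R M] (q : PrimeSpectrum R)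
    (hq : q ∈ Module.support R M) : ∃ φ : M →ₗ[R] (R ⧸ q.asIdeal), φ ≠ 0 := by
  induction ‹Module.Finite R M› using IsNoetherianRing.induction_on_isQuotientEquivQuotientPrime with
  | subsingleton N => exact absurd hq (by rw [Module.support_eq_empty]; exact Set.notMem_empty _)
  | quotient N p e =>
    have hle : p.asIdeal ≤ q.asIdeal := mem_support_quotient_iff.1 (e.support_eq ▸ hq)
    exact ⟨Submodule.factor hle ∘ₗ e.toLinearMap, fun h0 => by
      obtain ⟨z, hz⟩ := Submodule.factor_surjective hle 1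
      obtain ⟨w, rfl⟩ := e.surjective z
      exact one_ne_zero (α := R ⧸ q.asIdeal) (hz.symm.trans (LinearMap.congr_fun h0 w))⟩
  | exact N₁ N₂ N₃ f g hf hg hfg ih₁ ih₃ =>
    by_cases h3 : q ∈ Module.support R N₃
    · obtain ⟨φ, hφ⟩ := ih₃ h3
      exact ⟨φ ∘ₗ g, fun h0 => hφ (LinearMap.ext fun z => by
        obtain ⟨w, rfl⟩ := hg z
        exact LinearMap.congr_fun h0 w)⟩
    · have h1 : q ∈ Module.support R N₁ := by
        rw [Module.support_of_exact hfg hf hg] at hq
        exact hq.resolve_right h3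
      obtain ⟨φ, hφ⟩ := ih₁ h1
      rw [Module.support_eq_zeroLocus, PrimeSpectrum.mem_zeroLocus] at h3
      obtain ⟨s, hs, hsq⟩ := Set.not_subset.1 h3
      let f' : N₁ ≃ₗ[R] LinearMap.range f := LinearEquiv.ofInjective f hf
      have hmem : ∀ z : N₂, s • z ∈ LinearMap.range f := fun z => by
        have : g (s • z) = 0 := by rw [map_smul]; exact Module.mem_annihilator.1 hs (g z)
        exact (hfg _).1 this
      refine ⟨φ ∘ₗ f'.symm.toLinearMap ∘ₗ (LinearMap.lsmul R N₂ s).codRestrict (LinearMap.range f) hmem,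
        fun h0 => hφ (LinearMap.ext fun w => ?_)⟩
      have h2 := LinearMap.congr_fun h0 (f w)
      have h4 : (LinearMap.lsmul R N₂ s).codRestrict (LinearMap.range f) hmem (f w) = f' (s • w) :=
        Subtype.ext (map_smul f s w).symm
      rw [LinearMap.comp_apply, LinearMap.comp_apply, h4, LinearEquiv.coe_coe, f'.symm_apply_apply, map_smul,
        LinearMap.zero_apply] at h2
      obtain ⟨r, hr⟩ := Ideal.Quotient.mk_surjective (φ w)
      rw [← hr] at h2
      have : s * r ∈ q.asIdeal := Ideal.Quotient.eq_zero_iff_mem.1 h2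
      rw [LinearMap.zero_apply, ← hr]
      exact Ideal.Quotient.eq_zero_iff_mem.2 ((q.isPrime.mem_or_mem this).resolve_left hsq)

/-- Grothendieck's non-vanishing theorem. -/
theorem nontrivial_at_supportDim (M : Type u) [AddCommGroup M] [Module R M] [Module.Finite R M] (n : ℕ)
    (hn : Module.supportDim R M = n) : Nontrivial (LocCoh.H (IsLocalRing.maximalIdeal R) n M) := by
  set m := IsLocalRing.maximalIdeal R
  obtain ⟨q, hq, hqd⟩ := exists_prime_quotient_dim hn
  have hqd' : ringKrullDim (R ⧸ q.asIdeal) = n := by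
    refine le_antisymm ?_ hqd
    rw [← hn, ← Module.supportDim_quotient_eq_ringKrullDim]
    exact Order.krullDim_le_of_strictMono (fun a => ⟨a.1, Module.mem_support_iff_of_finite.2
      ((Module.mem_support_iff_of_finite.1 hq).trans (mem_support_quotient_iff.1 a.2))⟩) fun a b hab => hab
  rw [← not_subsingleton_iff_nontrivial]
  intro h
  obtain ⟨φ, hφ⟩ := exists_hom_ne_zero q hq
  refine nontrivial_quotient_prime n q.asIdeal q.isPrime hqd' ?_
  have hsurj : Function.Surjective φ.rangeRestrict := LinearMap.surjective_rangeRestrict φ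
  have h1 := map_surjective_of_surjective (I := m) φ.rangeRestrict hsurj n (by rw [hn]; exact_mod_cast Nat.lt_succ_self n)
  obtain ⟨w, hw⟩ : ∃ w, φ w ≠ 0 := by
    by_contra hcon
    push Not at hcon
    exact hφ (LinearMap.ext hcon)
  obtain ⟨c, hc⟩ := Ideal.Quotient.mk_surjective (φ w)
  have hcq : c ∉ q.asIdeal := fun hmem => hw (hc ▸ Ideal.Quotient.eq_zero_iff_mem.2 hmem)
  refine subsingleton_of_forall_eq 0 fun y => ?_
  have hlt : Module.supportDim R ((R ⧸ q.asIdeal) ⧸ LinearMap.range φ) < (n : WithBot ℕ∞) := by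
    refine (Module.supportDim_le_of_surjective (R := R) ((c • (⊤ : Submodule R (R ⧸ q.asIdeal))).liftQ
      (LinearMap.range φ).mkQ ?_) ?_).trans_lt (supportDim_quotient_lt hcq hqd'.le)
    · rintro _ ⟨z, -, rfl⟩
      obtain ⟨r, rfl⟩ := Ideal.Quotient.mk_surjective z
      refine (Submodule.Quotient.mk_eq_zero _).2 ⟨r • w, ?_⟩
      show φ (r • w) = c • Ideal.Quotient.mk q.asIdeal r
      rw [map_smul, ← hc]
      show Ideal.Quotient.mk _ (r * c) = Ideal.Quotient.mk _ (c * r)
      rw [mul_comm]
    · intro z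
      obtain ⟨z', rfl⟩ := Submodule.mkQ_surjective _ z
      exact ⟨Submodule.Quotient.mk z', rfl⟩
  have h3 := subsingleton_of_supportDim_lt m n _ hlt
  let S : ShortComplex (ModuleCat.{u} R) :=
    ShortComplex.mk (X₁ := ModuleCat.of R (LinearMap.range φ)) (X₂ := ModuleCat.of R (R ⧸ q.asIdeal))
      (X₃ := ModuleCat.of R ((R ⧸ q.asIdeal) ⧸ LinearMap.range φ))
      (ModuleCat.ofHom (LinearMap.range φ).subtype) (ModuleCat.ofHom (LinearMap.range φ).mkQ) (by
        ext z
        exact (Submodule.Quotient.mk_eq_zero _).2 z.2)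
  have hS : S.ShortExact :=
    { exact := by
        rw [ShortComplex.moduleCat_exact_iff]
        intro v hv
        exact ⟨⟨v, (Submodule.Quotient.mk_eq_zero _).1 hv⟩, rfl⟩
      mono_f := (ModuleCat.mono_iff_injective _).2 (LinearMap.range φ).injective_subtype
      epi_g := (ModuleCat.epi_iff_surjective _).2 (Submodule.mkQ_surjective _) }
  obtain ⟨y', rfl⟩ := exact₂ hS n (x := y) (h3.elim _ _)
  obtain ⟨y'', rfl⟩ := h1 y'
  rw [h.elim y'' 0, map_zero, map_zero]

end Groth.Agent.LocH
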