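import Mathlib
import Groth.Prelude.Def_DRing3
import Groth.Agent.LocH.Localize
import Groth.Agent.LocH.NonVanishing

/-!
Local cohomology depends only on the radical; supports inside a closed set.
-/

namespace Groth.Agent.LocH

universe u

open CategoryTheory CategoryTheory.Limits Opposite CategoryTheory.Abelian

variable {R : Type u} [CommRing R] [IsNoetherianRing R]

theorem torsionSub_le_of_le_radical {I K : Ideal R} (h : I ≤ K.radical) (M : Type u) [AddCommGroup M] [Module R M] :
    DRing.torsionSub K M ≤ DRing.torsionSub I M := by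
  obtain ⟨n, hn⟩ := Ideal.exists_pow_le_of_le_radical_of_fg h (IsNoetherian.noetherian I)
  rintro x ⟨k, hk⟩
  exact ⟨n * k, fun a ha => hk a (Ideal.pow_right_mono hn k (pow_mul I n k ▸ ha))⟩

theorem boundary_eq_of_torsionSub_eq {M : ModuleCat.{u} R} (J : InjectiveResolution M) {I K : Ideal R}
    (h : ∀ n, DRing.torsionSub I (J.cocomplex.X n) = DRing.torsionSub K (J.cocomplex.X n)) :
    ∀ j, boundary J I j = boundary J K j
  | 0 => rfl
  | k + 1 => congrArg (Submodule.map _) (h k)

theorem vanish_iff_of_torsionSub_eq {M : ModuleCat.{u} R} (J : InjectiveResolution M) {I K : Ideal R}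
    (h : ∀ n, DRing.torsionSub I (J.cocomplex.X n) = DRing.torsionSub K (J.cocomplex.X n)) (j : ℕ) :
    Vanish J I j ↔ Vanish J K j := by
  rw [Vanish, Vanish, h, boundary_eq_of_torsionSub_eq J h j]

theorem subsingleton_iff_of_radical_eq {I K : Ideal R} (h : I.radical = K.radical) (M : Type u) [AddCommGroup M]
    [Module R M] (i : ℕ) : Subsingleton (LocCoh.H I i M) ↔ Subsingleton (LocCoh.H K i M) :=
  (subsingleton_iff_vanish (injectiveResolution (ModuleCat.of R M)) I i).trans
    ((vanish_iff_of_torsionSub_eq _ (fun _ => le_antisymm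
      (torsionSub_le_of_le_radical (h ▸ Ideal.le_radical : K ≤ I.radical) _)
      (torsionSub_le_of_le_radical (h ▸ Ideal.le_radical : I ≤ K.radical) _)) i).trans
      (subsingleton_iff_vanish (injectiveResolution (ModuleCat.of R M)) K i).symm)

/-- A module killed by `p` has the same local cohomology for `I` and `I ⊔ p`. -/
theorem subsingleton_sup_iff {I p : Ideal R} (M : Type u) [AddCommGroup M] [Module R M]
    (hp : LocCoh.IsPowerTorsion p M) (i : ℕ) :
    Subsingleton (LocCoh.H I i M) ↔ Subsingleton (LocCoh.H (I ⊔ p) i M) := by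
  obtain ⟨J, hJ⟩ := exists_torsion_injectiveResolution (I := p) (ModuleCat.of R M) hp
  refine (subsingleton_iff_vanish J I i).trans ((vanish_iff_of_torsionSub_eq J (fun n => ?_) i).trans
    (subsingleton_iff_vanish J (I ⊔ p) i).symm)
  exact le_antisymm (fun x hx => torsionSub_sup hx (hJ n x)) (torsionSub_anti le_sup_left _)

theorem isPowerTorsion_quotient (p : Ideal R) : LocCoh.IsPowerTorsion p (R ⧸ p) := fun x =>
  ⟨1, fun a ha => by
    obtain ⟨r, rfl⟩ := Ideal.Quotient.mk_surjective x
    exact Ideal.Quotient.eq_zero_iff_mem.2 (Ideal.mul_mem_right r p (pow_one p ▸ ha))⟩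

omit [IsNoetherianRing R] in
theorem supportDim_localized_lt [IsLocalRing R] {M : Type u} [AddCommGroup M] [Module R M] [Module.Finite R M]
    (p : Ideal R) [p.IsPrime] (hp : p ≠ IsLocalRing.maximalIdeal R) {n : ℕ} (hn : Module.supportDim R M = n) :
    Module.supportDim (Localization.AtPrime p) (LocalizedModule p.primeCompl M) < (n : WithBot ℕ∞) := by
  cases isEmpty_or_nonempty (Module.support (Localization.AtPrime p) (LocalizedModule p.primeCompl M)) with
  | inl h =>
    rw [Module.supportDim, Order.krullDim_eq_bot]
    exact WithBot.bot_lt_coe _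
  | inr h =>
    refine lt_of_add_one_le_of_lt_succ (b := Module.supportDim R M) ?_ (by rw [hn]; exact_mod_cast Nat.lt_succ_self n)
    rw [Module.supportDim, Module.supportDim, Order.krullDim_eq_iSup_length (α := Module.support (Localization.AtPrime p) _)]
    have hR : Nonempty (Module.support R M) := by
      obtain ⟨q, hq⟩ := h
      exact ⟨⟨PrimeSpectrum.comap (algebraMap R _) q, Module.mem_support_iff_of_finite.2 fun a ha => by
        refine Module.mem_support_iff_of_finite.1 hq (Module.mem_annihilator.2 fun z => ?_)
        induction z using LocalizedModule.induction_on with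
        | h m s => rw [algebraMap_smul, LocalizedModule.smul'_mk, Module.mem_annihilator.1 ha m, LocalizedModule.zero_mk]⟩⟩
    rw [Order.krullDim_eq_iSup_length]
    refine WithBot.coe_le_coe.2 ?_
    simp only [ENat.iSup_add]
    refine iSup_le fun s => ?_
    let f : Module.support (Localization.AtPrime p) (LocalizedModule p.primeCompl M) → Module.support R M := fun q =>
      ⟨PrimeSpectrum.comap (algebraMap R _) q.1, Module.mem_support_iff_of_finite.2 fun a ha => by
        refine Module.mem_support_iff_of_finite.1 q.2 (Module.mem_annihilator.2 fun z => ?_)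
        induction z using LocalizedModule.induction_on with
        | h m s => rw [algebraMap_smul, LocalizedModule.smul'_mk, Module.mem_annihilator.1 ha m, LocalizedModule.zero_mk]⟩
    have hf : StrictMono f := fun a b hab => by
      refine lt_of_le_of_ne (Ideal.comap_mono hab.le) fun e => hab.ne (Subtype.ext ?_)
      exact PrimeSpectrum.localization_comap_injective (Localization.AtPrime p) p.primeCompl (congrArg Subtype.val e)
    have hm : (⟨IsLocalRing.maximalIdeal R, inferInstance⟩ : PrimeSpectrum R) ∈ Module.support R M :=
      Module.mem_support_iff_of_finite.2 ((Module.mem_support_iff_of_finite.1 (f s.last).2).trans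
        (IsLocalRing.le_maximalIdeal (f s.last).1.isPrime.ne_top))
    have hlast : (s.map f hf).last < ⟨_, hm⟩ := by
      rw [LTSeries.last_map]
      refine lt_of_le_of_ne (IsLocalRing.le_maximalIdeal (f s.last).1.isPrime.ne_top) fun e => hp ?_
      refine le_antisymm (IsLocalRing.le_maximalIdeal ‹p.IsPrime›.ne_top) ?_
      have hle : (f s.last).1.asIdeal ≤ p := fun a ha => by
        by_contra hap
        exact s.last.1.isPrime.ne_top (Ideal.eq_top_of_isUnit_mem _ ha
          (IsLocalization.map_units (Localization.AtPrime p) (⟨a, hap⟩ : p.primeCompl)))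
      exact (congrArg (fun q => q.1.asIdeal) e).ge.trans hle
    exact le_of_eq_of_le (by simp) (le_iSup (fun l : LTSeries (Module.support R M) => (l.length : ℕ∞)) ((s.map f hf).snoc _ hlast))

end Groth.Agent.LocH
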