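import Mathlib
import Groth.Prelude.Def_DRing3
import Groth.Agent.LocH.Radical

/-!
Top local cohomology: surjectivity of multiplication, localization at minimal primes of the support ideal.
-/

namespace Groth.Agent.LocH

universe u

open CategoryTheory CategoryTheory.Limits Opposite CategoryTheory.Abelian
open scoped Pointwise

variable {R : Type u} [CommRing R] [IsNoetherianRing R]

theorem supportDim_quotSMulTop_lt {f : R} {d : ℕ} (hd : ringKrullDim R ≤ d)
    (hf : ∀ p ∈ minimalPrimes R, ringKrullDim (R ⧸ p) = d → f ∉ p)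
    (M : Type u) [AddCommGroup M] [Module R M] [Module.Finite R M] :
    Module.supportDim R (QuotSMulTop f M) < (d : WithBot ℕ∞) := by
  refine lt_of_le_of_ne ((Module.supportDim_le_ringKrullDim R _).trans hd) fun he => ?_
  obtain ⟨p, hp, hpd⟩ := exists_prime_quotient_dim he
  rw [Module.support_quotSMulTop] at hp
  have hpd' : ringKrullDim (R ⧸ p.asIdeal) = d :=
    le_antisymm ((ringKrullDim_quotient_le p.asIdeal).trans hd) hpd
  refine hf p.asIdeal ⟨⟨p.isPrime, bot_le⟩, fun q hq hqp => ?_⟩ hpd' (hp.2 rfl)
  by_contra hne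
  have := hq.1
  obtain ⟨x, hxp, hxq⟩ := SetLike.not_le_iff_exists.1 hne
  have h1 := supportDim_quotient_lt hxq ((ringKrullDim_quotient_le q).trans hd)
  have h2 : Module.supportDim R (R ⧸ p.asIdeal) ≤ Module.supportDim R (QuotSMulTop x (R ⧸ q)) := by
    refine Order.krullDim_le_of_strictMono (fun a => ⟨a.1, ?_⟩) fun a b hab => hab
    rw [Module.support_quotSMulTop]
    exact ⟨mem_support_quotient_iff.2 (hqp.trans (mem_support_quotient_iff.1 a.2)),
      fun z hz => mem_support_quotient_iff.1 a.2 (Set.mem_singleton_iff.1 hz ▸ hxp)⟩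
  rw [Module.supportDim_quotient_eq_ringKrullDim, hpd'] at h2
  exact absurd (h2.trans_lt h1) (lt_irrefl _)

theorem smul_surjective_top (I : Ideal R) {f : R} {d : ℕ} (hd : ringKrullDim R ≤ d)
    (hf : ∀ p ∈ minimalPrimes R, ringKrullDim (R ⧸ p) = d → f ∉ p)
    (M : Type u) [AddCommGroup M] [Module R M] [Module.Finite R M] :
    Function.Surjective (fun x : LocCoh.H I d M => f • x) := by
  intro y
  let F : M →ₗ[R] LinearMap.range (LinearMap.lsmul R M f) := (LinearMap.lsmul R M f).rangeRestrict
  let S : ShortComplex (ModuleCat.{u} R) :=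
    ShortComplex.mk (X₁ := ModuleCat.of R (LinearMap.range (LinearMap.lsmul R M f))) (X₂ := ModuleCat.of R M)
      (X₃ := ModuleCat.of R (M ⧸ LinearMap.range (LinearMap.lsmul R M f)))
      (ModuleCat.ofHom (LinearMap.range (LinearMap.lsmul R M f)).subtype)
      (ModuleCat.ofHom (LinearMap.range (LinearMap.lsmul R M f)).mkQ) (by
        ext z
        exact (Submodule.Quotient.mk_eq_zero _).2 z.2)
  have hS : S.ShortExact :=
    { exact := by
        rw [ShortComplex.moduleCat_exact_iff]
        intro v hv
        exact ⟨⟨v, (Submodule.Quotient.mk_eq_zero _).1 hv⟩, rfl⟩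
      mono_f := (ModuleCat.mono_iff_injective _).2 (LinearMap.range (LinearMap.lsmul R M f)).injective_subtype
      epi_g := (ModuleCat.epi_iff_surjective _).2 (Submodule.mkQ_surjective _) }
  have h3 : Subsingleton ↑((localCohomology I d).obj S.X₃) :=
    subsingleton_of_supportDim_lt I d _ ((Module.supportDim_le_of_surjective
      ((f • (⊤ : Submodule R M)).liftQ (LinearMap.range (LinearMap.lsmul R M f)).mkQ (by
        rintro _ ⟨z, -, rfl⟩
        exact (Submodule.Quotient.mk_eq_zero _).2 ⟨z, rfl⟩)) (fun z => by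
        obtain ⟨z', rfl⟩ := Submodule.mkQ_surjective _ z
        exact ⟨Submodule.Quotient.mk z', rfl⟩)).trans_lt (supportDim_quotSMulTop_lt hd hf M))
  obtain ⟨y', rfl⟩ := exact₂ hS d (x := y) (h3.elim _ _)
  obtain ⟨z, rfl⟩ := map_surjective_of_surjective (I := I) F (LinearMap.surjective_rangeRestrict _) d
    (((Module.supportDim_le_ringKrullDim R M).trans hd).trans_lt (by exact_mod_cast Nat.lt_succ_self d)) y'
  refine ⟨z, (map_smul_id_apply f d z).symm.trans ?_⟩
  have e : (f • 𝟙 (ModuleCat.of R M)) = ModuleCat.ofHom F ≫ S.f := by ext v; rfl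
  rw [e]
  erw [Functor.map_comp]
  rfl

/-- The localization of the ring as a localized module. -/
noncomputable def localizedSelf (S : Submonoid R) : LocalizedModule S R ≃ₗ[Localization S] Localization S :=
  LinearEquiv.extendScalarsOfIsLocalization S (Localization S)
    (IsLocalizedModule.iso S (Algebra.linearMap R (Localization S)))

theorem nontrivial_localized_self {I p : Ideal R} [p.IsPrime] (hp : p ∈ I.minimalPrimes) {h : ℕ}
    (hh : p.height = h) :
    Nontrivial (LocCoh.H (I.map (algebraMap R (Localization.AtPrime p))) h (LocalizedModule p.primeCompl R)) := by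
  rw [← not_subsingleton_iff_nontrivial, subsingleton_iff_of_radical_eq
    (K := IsLocalRing.maximalIdeal (Localization.AtPrime p)) (by
      rw [IsLocalization.AtPrime.radical_map_of_mem_minimalPrimes (Localization.AtPrime p) p I hp,
        IsLocalization.AtPrime.map_eq_maximalIdeal p (Localization.AtPrime p),
        (IsLocalRing.maximalIdeal.isMaximal _).isPrime.radical])]
  rw [not_subsingleton_iff_nontrivial]
  refine nontrivial_at_supportDim _ h ?_
  rw [Module.supportDim_eq_of_equiv (localizedSelf p.primeCompl), Module.supportDim_self_eq_ringKrullDim,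
    IsLocalization.AtPrime.ringKrullDim_eq_height p (Localization.AtPrime p), hh]
  rfl

theorem height_le_of_cdLE {I p : Ideal R} {d : ℕ} (hI : LocCoh.CdLE R I d) (hp : p ∈ I.minimalPrimes) :
    p.height ≤ d := by
  have := hp.1.1
  obtain ⟨h, hh⟩ := ENat.ne_top_iff_exists.1 (p.height_ne_top hp.1.1.ne_top)
  rw [← hh]
  by_contra hlt
  have := (cdLE_iff_localizations I d).1 hI p (LocalizedModule p.primeCompl R) h
    (by exact_mod_cast not_le.1 hlt)
  exact not_subsingleton_iff_nontrivial.2 (nontrivial_localized_self hp hh.symm) this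

end Groth.Agent.LocH
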