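import Mathlib
import Groth.Prelude.Def_DRing3
import Groth.Prelude.Def_CAlg
import Groth.Agent.LocH.TopDegree
import Groth.Agent.LocH.CompareLE

/-!
Depth and local cohomology.
-/

namespace Groth.Agent.LocH

universe u

open CategoryTheory CategoryTheory.Limits Opposite CategoryTheory.Abelian
open RingTheory.Sequence
open scoped Pointwise

variable {R : Type u} [CommRing R]

/-- Multiplication by a regular element. -/
noncomputable def smulSES (M : Type u) [AddCommGroup M] [Module R M] (r : R) : ShortComplex (ModuleCat.{u} R) :=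
  ShortComplex.mk (X₁ := ModuleCat.of R M) (X₂ := ModuleCat.of R M) (X₃ := ModuleCat.of R (QuotSMulTop r M))
    (r • 𝟙 (ModuleCat.of R M)) (ModuleCat.ofHom (Submodule.mkQ _)) (by
      ext x
      exact (Submodule.Quotient.mk_eq_zero _).2 (Submodule.smul_mem_pointwise_smul x r _ Submodule.mem_top))

theorem smulSES_shortExact {M : Type u} [AddCommGroup M] [Module R M] {r : R} (hr : IsSMulRegular M r) :
    (smulSES M r).ShortExact :=
  { exact := by
      rw [ShortComplex.moduleCat_exact_iff]
      intro y hy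
      obtain ⟨z, -, hz⟩ := (Submodule.Quotient.mk_eq_zero _).1 hy
      exact ⟨z, hz⟩
    mono_f := (ModuleCat.mono_iff_injective _).2 hr
    epi_g := (ModuleCat.epi_iff_surjective _).2 (Submodule.mkQ_surjective _) }

/-- A regular sequence in `I` kills low local cohomology. -/
theorem subsingleton_of_isWeaklyRegular (I : Ideal R) : ∀ (rs : List R) (M : Type u) [AddCommGroup M] [Module R M],
    IsWeaklyRegular M rs → (∀ r ∈ rs, r ∈ I) → ∀ i, i < rs.length → Subsingleton (LocCoh.H I i M)
  | [], _, _, _, _, _, i, hi => absurd hi (Nat.not_lt_zero i)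
  | r :: rs, M, _, _, h, hI, i, hi => by
    rw [isWeaklyRegular_cons_iff] at h
    have hrI : r ∈ I := hI r (List.mem_cons_self ..)
    have hinj : ∀ x : LocCoh.H I i M, r • x = 0 → x = 0 := by
      intro x hx
      cases i with
      | zero =>
        have e := ((zeroIso I).app (ModuleCat.of R M)).toLinearEquiv
        apply e.injective
        rw [map_zero]
        refine Subtype.ext (h.1.right_eq_zero_of_smul ?_)
        have h2 : r • e x = 0 := by rw [← map_smul, hx, map_zero]
        exact congrArg Subtype.val h2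
      | succ k =>
        obtain ⟨y, rfl⟩ := exact₁ (smulSES_shortExact h.1) k (x := x) ((map_smul_id_apply r (k + 1) x).trans hx)
        have := subsingleton_of_isWeaklyRegular I rs (QuotSMulTop r M) h.2
          (fun s hs => hI s (List.mem_cons_of_mem _ hs)) k (by simpa using hi)
        have h0 : y = 0 := this.elim _ _
        rw [h0, map_zero]
        rfl
    refine subsingleton_of_forall_eq 0 fun x => ?_
    obtain ⟨n, hn⟩ := isPowerTorsion I i (ModuleCat.of R M) x
    have hz : ∀ (n : ℕ) (x : LocCoh.H I i M), r ^ n • x = 0 → x = 0 := by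
      intro n
      induction n with
      | zero => intro x hx; rwa [pow_zero, one_smul] at hx
      | succ n ih => intro x hx; exact hinj x (ih _ (by rwa [← mul_smul, ← pow_succ]))
    exact hz n x (hn _ (Ideal.pow_mem_pow hrI n))

theorem subsingleton_of_smul_top_eq_top {I : Ideal R} {M : Type u} [AddCommGroup M] [Module R M] [Module.Finite R M]
    (hIM : I • (⊤ : Submodule R M) = ⊤) (i : ℕ) : Subsingleton (LocCoh.H I i M) := by
  obtain ⟨b, hb, hbM⟩ := Submodule.exists_mem_and_smul_eq_self_of_fg_of_le_smul I ⊤ Module.Finite.fg_top hIM.ge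
  refine subsingleton_of_forall_eq 0 fun x => ?_
  obtain ⟨n, hn⟩ := isPowerTorsion I i (ModuleCat.of R M) x
  have h0 : (1 - b) • x = 0 := smul_eq_zero_of_smul_eq_zero (M := ModuleCat.of R M)
    (fun m => by rw [sub_smul, one_smul, hbM m Submodule.mem_top, sub_self]) i x
  rw [sub_smul, one_smul, sub_eq_zero] at h0
  have h1 : ∀ k : ℕ, b ^ k • x = x := by
    intro k
    induction k with
    | zero => rw [pow_zero, one_smul]
    | succ k ih => rw [pow_succ, mul_smul, ← h0, ih]
  rw [← h1 n]
  exact hn _ (Ideal.pow_mem_pow hb n)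

variable [IsNoetherianRing R]

theorem torsionSub_eq_bot_of_subsingleton {I : Ideal R} {M : Type u} [AddCommGroup M] [Module R M]
    (h : Subsingleton (LocCoh.H I 0 M)) : DRing.torsionSub I M = ⊥ := by
  have e := ((zeroIso I).app (ModuleCat.of R M)).toLinearEquiv
  have : Subsingleton ↑((DRing.gammaI I).obj (ModuleCat.of R M)) := e.symm.toEquiv.subsingleton
  rw [Submodule.eq_bot_iff]
  exact fun x hx => congrArg Subtype.val (this.elim ⟨x, hx⟩ 0)

/-- Vanishing of low local cohomology produces a regular sequence. -/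
theorem exists_isWeaklyRegular (I : Ideal R) : ∀ (n : ℕ) (M : Type u) [AddCommGroup M] [Module R M]
    [Module.Finite R M], (∀ i, i < n → Subsingleton (LocCoh.H I i M)) →
      ∃ rs : List R, rs.length = n ∧ IsWeaklyRegular M rs ∧ ∀ r ∈ rs, r ∈ I
  | 0, M, _, _, _, _ => ⟨[], rfl, IsWeaklyRegular.nil R M, by simp⟩
  | n + 1, M, _, _, _, h => by
    have hbot : DRing.torsionSub (I.map (algebraMap R R)) M = ⊥ := by
      rw [Algebra.algebraMap_self, Ideal.map_id]
      exact torsionSub_eq_bot_of_subsingleton (h 0 (Nat.succ_pos n))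
    obtain ⟨r, hr, hreg⟩ := S11610.result R R I M hbot
    replace hreg : IsSMulRegular M r := hreg
    obtain ⟨rs, hlen, hrs, hmem⟩ := exists_isWeaklyRegular I n (QuotSMulTop r M) fun i hi =>
      subsingleton_X₃ (smulSES_shortExact hreg) i (h i (by lia)) (h (i + 1) (by lia))
    exact ⟨r :: rs, by simp [hlen], IsWeaklyRegular.cons hreg hrs, List.forall_mem_cons.2 ⟨hr, hmem⟩⟩

theorem exists_nontrivial {I : Ideal R} {M : Type u} [AddCommGroup M] [Module R M] [Module.Finite R M]
    (hIM : I • (⊤ : Submodule R M) ≠ ⊤) : ∃ i, Nontrivial (LocCoh.H I i M) := by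
  let K := I ⊔ Module.annihilator R M
  have hK : K ≠ ⊤ := fun htop => hIM <| eq_top_iff.2 fun m _ => by
    obtain ⟨b, hb, a, ha, hba⟩ := Submodule.mem_sup.1 (htop.ge (Submodule.mem_top (x := (1 : R))))
    rw [← one_smul R m, ← hba, add_smul, Module.mem_annihilator.1 ha m, add_zero]
    exact Submodule.smul_mem_smul hb Submodule.mem_top
  obtain ⟨p, hp⟩ := Ideal.nonempty_minimalPrimes hK
  have := hp.1.1
  have hsupp : (⟨p, hp.1.1⟩ : PrimeSpectrum R) ∈ Module.support R M :=
    Module.mem_support_iff_of_finite.2 (le_sup_right.trans hp.1.2)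
  have hnt : Nontrivial (LocalizedModule p.primeCompl M) := hsupp
  obtain ⟨d, hd⟩ : ∃ d : ℕ, Module.supportDim (Localization.AtPrime p) (LocalizedModule p.primeCompl M) = d := by
    have h1 : Module.supportDim (Localization.AtPrime p) (LocalizedModule p.primeCompl M) ≠ ⊥ :=
      (Module.supportDim_ne_bot_iff_nontrivial _ _).2 hnt
    have h2 : Module.supportDim (Localization.AtPrime p) (LocalizedModule p.primeCompl M) ≤ (p.height : WithBot ℕ∞) :=
      (Module.supportDim_le_ringKrullDim _ _).trans (IsLocalization.AtPrime.ringKrullDim_eq_height p _).le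
    obtain ⟨a, ha⟩ := WithBot.ne_bot_iff_exists.1 h1
    rw [← ha] at h2
    obtain ⟨d, hd⟩ := ENat.ne_top_iff_exists.1 (ne_top_of_le_ne_top (p.height_ne_top hp.1.1.ne_top) (WithBot.coe_le_coe.1 h2))
    exact ⟨d, by rw [← ha, ← hd]; rfl⟩
  refine ⟨d, ?_⟩
  rw [← not_subsingleton_iff_nontrivial]
  intro hs
  have h1 := subsingleton_localized p.primeCompl M I d hs
  let Am := (Module.annihilator R M).map (algebraMap R (Localization.AtPrime p))
  have htor : LocCoh.IsPowerTorsion Am (LocalizedModule p.primeCompl M) := fun z => ⟨1, fun a ha => by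
    rw [pow_one] at ha
    induction ha using Submodule.span_induction with
    | mem a ha =>
      obtain ⟨c, hc, rfl⟩ := ha
      induction z using LocalizedModule.induction_on with
      | h m s => rw [algebraMap_smul, LocalizedModule.smul'_mk, Module.mem_annihilator.1 hc m, LocalizedModule.zero_mk]
    | zero => exact zero_smul _ _
    | add a b _ _ ha hb => rw [add_smul, ha, hb, add_zero]
    | smul c a _ ha => rw [smul_eq_mul, mul_smul, ha, smul_zero]⟩
  rw [subsingleton_sup_iff (p := Am) _ htor, ← Ideal.map_sup,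
    subsingleton_iff_of_radical_eq (K := IsLocalRing.maximalIdeal (Localization.AtPrime p)) (by
      rw [IsLocalization.AtPrime.radical_map_of_mem_minimalPrimes (Localization.AtPrime p) p K hp,
        IsLocalization.AtPrime.map_eq_maximalIdeal p (Localization.AtPrime p),
        (IsLocalRing.maximalIdeal.isMaximal _).isPrime.radical])] at h1
  exact not_subsingleton_iff_nontrivial.2 (nontrivial_at_supportDim _ d hd) h1

theorem le_idealDepth_iff (I : Ideal R) (M : Type u) [AddCommGroup M] [Module R M] [Module.Finite R M] (n : ℕ) :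
    (n : ℕ∞) ≤ LocCoh.idealDepth I M ↔ ∀ i, i < n → Subsingleton (LocCoh.H I i M) := by
  by_cases hIM : I • (⊤ : Submodule R M) = ⊤
  · rw [LocCoh.idealDepth, if_pos hIM]
    exact iff_of_true le_top fun i _ => subsingleton_of_smul_top_eq_top hIM i
  rw [LocCoh.idealDepth, if_neg hIM]
  constructor
  · intro h i hi
    by_contra hne
    have hb : (⨆ (rs : List R) (_ : IsWeaklyRegular M rs ∧ ∀ r ∈ rs, r ∈ I), (rs.length : ℕ∞)) ≤ (i : ℕ∞) :=
      iSup₂_le fun rs hrs => by
        rw [Nat.cast_le]
        by_contra hlt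
        exact hne (subsingleton_of_isWeaklyRegular I rs M hrs.1 hrs.2 i (by lia))
    have := Nat.cast_le.1 (h.trans hb)
    lia
  · intro h
    obtain ⟨rs, hlen, hrs, hmem⟩ := exists_isWeaklyRegular I n M h
    exact le_iSup₂_of_le rs ⟨hrs, hmem⟩ (by rw [hlen])

theorem idealDepth_ne_top {I : Ideal R} {M : Type u} [AddCommGroup M] [Module R M] [Module.Finite R M]
    (hIM : I • (⊤ : Submodule R M) ≠ ⊤) : LocCoh.idealDepth I M ≠ ⊤ := fun htop => by
  obtain ⟨i, hi⟩ := exists_nontrivial hIM
  exact not_subsingleton_iff_nontrivial.2 hi ((le_idealDepth_iff I M (i + 1)).1 (htop ▸ le_top) i (by lia))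

theorem idealDepth_eq_iff {I : Ideal R} {M : Type u} [AddCommGroup M] [Module R M] [Module.Finite R M] (n : ℕ) :
    LocCoh.idealDepth I M = n ↔
      (∀ i, i < n → Subsingleton (LocCoh.H I i M)) ∧ Nontrivial (LocCoh.H I n M) := by
  constructor
  · intro h
    refine ⟨(le_idealDepth_iff I M n).1 h.ge, ?_⟩
    rw [← not_subsingleton_iff_nontrivial]
    intro hs
    have := (le_idealDepth_iff I M (n + 1)).2 fun i hi => by
      rcases Nat.lt_succ_iff_lt_or_eq.1 hi with hi' | rfl
      exacts [(le_idealDepth_iff I M n).1 h.ge i hi', hs]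
    rw [h] at this
    exact absurd (Nat.cast_le.1 this) (by lia)
  · rintro ⟨h1, h2⟩
    refine le_antisymm ?_ ((le_idealDepth_iff I M n).2 h1)
    refine ENat.forall_natCast_le_iff_le.1 fun k hk => ?_
    rw [Nat.cast_le]
    by_contra hlt
    exact not_subsingleton_iff_nontrivial.2 h2 ((le_idealDepth_iff I M k).1 hk n (by lia))

/-- Depth is local. -/
theorem le_idealDepth_iff_forall_prime (I : Ideal R) (M : Type u) [AddCommGroup M] [Module R M] [Module.Finite R M]
    (n : ℕ) : (n : ℕ∞) ≤ LocCoh.idealDepth I M ↔ ∀ p : PrimeSpectrum R, I ≤ p.asIdeal →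
      (n : ℕ∞) ≤ LocCoh.depth (Localization.AtPrime p.asIdeal) (LocalizedModule p.asIdeal.primeCompl M) := by
  constructor
  · intro h p hp
    obtain ⟨rs, hlen, hrs, hmem⟩ := exists_isWeaklyRegular I n M ((le_idealDepth_iff I M n).1 h)
    rw [LocCoh.depth, le_idealDepth_iff]
    intro i hi
    exact subsingleton_of_isWeaklyRegular _ (rs.map (algebraMap R (Localization.AtPrime p.asIdeal))) _
      (IsWeaklyRegular.of_isLocalizedModule (Localization.AtPrime p.asIdeal) p.asIdeal.primeCompl
        (LocalizedModule.mkLinearMap p.asIdeal.primeCompl M) hrs)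
      (fun r hr => by
        obtain ⟨a, ha, rfl⟩ := List.mem_map.1 hr
        exact (IsLocalization.AtPrime.to_map_mem_maximal_iff (Localization.AtPrime p.asIdeal) p.asIdeal a).2 (hp (hmem a ha)))
      i (by rw [List.length_map, hlen]; exact hi)
  · intro h
    rw [le_idealDepth_iff]
    intro i hi
    have hsur := HmapOfLE_surjective_of_vanish (I' := ⊤) (le_top : I ≤ ⊤) (injectiveResolution (ModuleCat.of R M)) i
      fun p _ hIp _ => (subsingleton_localized_iff p.primeCompl M _ _ i).1
        ((le_idealDepth_iff _ _ n).1 (h ⟨p, ‹_›⟩ hIp) i hi)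
    refine subsingleton_of_forall_eq 0 fun x => ?_
    obtain ⟨y, rfl⟩ := hsur x
    obtain ⟨k, hk⟩ := isPowerTorsion (⊤ : Ideal R) i (ModuleCat.of R M) y
    have hy : y = 0 := (one_smul R y).symm.trans (hk 1 (by rw [Ideal.top_pow]; exact Submodule.mem_top))
    rw [hy, map_zero]

theorem idealDepth_eq_iInf (I : Ideal R) (M : Type u) [AddCommGroup M] [Module R M] [Module.Finite R M] :
    LocCoh.idealDepth I M = ⨅ (p : PrimeSpectrum R) (_ : I ≤ p.asIdeal),
      LocCoh.depth (Localization.AtPrime p.asIdeal) (LocalizedModule p.asIdeal.primeCompl M) := by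
  refine ENat.eq_of_forall_natCast_le_iff fun n => ?_
  rw [le_iInf₂_iff]
  exact le_idealDepth_iff_forall_prime I M n

end Groth.Agent.LocH
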