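import Mathlib
import Groth.Prelude.Def_DRing3
import Groth.Agent.LocH.Depth

/-!
Multiplication on local cohomology; how depth changes between neighbouring primes.
-/

namespace Groth.Agent.LocH

universe u

open CategoryTheory CategoryTheory.Limits Opposite CategoryTheory.Abelian
open RingTheory.Sequence
open scoped Pointwise

variable {R : Type u} [CommRing R]

theorem cycleVal_sub {M : ModuleCat.{u} R} (J : InjectiveResolution M) {I : Ideal R} (i : ℕ)
    (a b : (gammaComplex J I).cycles i) : cycleVal J i (a - b) = cycleVal J i a - cycleVal J i b :=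
  (congrArg _ (map_sub _ a b)).trans (map_sub _ _ _)

theorem cycleVal_smul {M : ModuleCat.{u} R} (J : InjectiveResolution M) {I : Ideal R} (i : ℕ) (r : R)
    (a : (gammaComplex J I).cycles i) : cycleVal J i (r • a) = r • cycleVal J i a :=
  (congrArg _ (map_smul _ r a)).trans (map_smul _ _ _)

variable [IsNoetherianRing R]

theorem exists_smul_sub_mem_boundary {M : ModuleCat.{u} R} (J : InjectiveResolution M) (K : Ideal R) (x : R) (i : ℕ)
    (h₀ : Vanish J (K ⊔ Ideal.span {x}) i) (h₁ : Vanish J (K ⊔ Ideal.span {x}) (i + 1))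
    {z : J.cocomplex.X i} (hz : z ∈ DRing.torsionSub K (J.cocomplex.X i)) (hd : J.cocomplex.d i (i + 1) z = 0) :
    ∃ w ∈ DRing.torsionSub K (J.cocomplex.X i), J.cocomplex.d i (i + 1) w = 0 ∧ x • w - z ∈ boundary J K i := by
  obtain ⟨⟨w, hw⟩, m, h⟩ := divModTors_resolution J K x i 1 ⟨z, hz⟩
  have h' : x ^ m • (x • w - z) = 0 := by
    have h1 := congrArg Subtype.val h
    rw [pow_one] at h1
    exact h1
  have hdw : x ^ m • x • J.cocomplex.d i (i + 1) w = 0 := by
    have := congrArg (J.cocomplex.d i (i + 1)).hom h'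
    rw [map_smul, map_sub, map_smul, hd, sub_zero, map_zero] at this
    exact this
  obtain ⟨v, hv, hvd⟩ := h₁ _ (torsionSub_sup (DRing.map_mem_torsionSub K (J.cocomplex.d i (i + 1)).hom hw)
    (mem_torsionSub_span_singleton_iff.2 ⟨m + 1, by rw [pow_succ, mul_smul]; exact hdw⟩))
    (congrArg (fun φ : J.cocomplex.X i ⟶ J.cocomplex.X (i + 1 + 1) => φ.hom w) (J.cocomplex.d_comp_d i (i + 1) (i + 1 + 1)))
  obtain ⟨k, hk⟩ := mem_torsionSub_span_singleton_iff.1 (torsionSub_anti le_sup_right _ hv)
  have hw' : w - v ∈ DRing.torsionSub K (J.cocomplex.X i) :=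
    Submodule.sub_mem _ hw (torsionSub_anti le_sup_left _ hv)
  have hd' : J.cocomplex.d i (i + 1) (w - v) = 0 := by rw [map_sub, ← hvd, sub_self]
  refine ⟨w - v, hw', hd', boundary_anti J le_sup_left i (h₀ _
    (torsionSub_sup (Submodule.sub_mem _ (Submodule.smul_mem _ _ hw') hz)
      (mem_torsionSub_span_singleton_iff.2 ⟨m + k, ?_⟩)) (by rw [map_sub, map_smul, hd', hd, smul_zero, sub_zero]))⟩
  have e1 : x ^ (m + k) • (x • w - z) = 0 := by rw [add_comm, pow_add, mul_smul, h', smul_zero]
  have e2 : x ^ (m + k) • (x • v) = 0 := by rw [smul_comm, pow_add, mul_smul, hk, smul_zero, smul_zero]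
  rw [show x • (w - v) - z = (x • w - z) - x • v by rw [smul_sub]; abel, smul_sub, e1, e2, sub_zero]

theorem smul_bijective_H (K : Ideal R) (x : R) (M : Type u) [AddCommGroup M] [Module R M] (i : ℕ)
    (h₀ : Subsingleton (LocCoh.H (K ⊔ Ideal.span {x}) i M))
    (h₁ : Subsingleton (LocCoh.H (K ⊔ Ideal.span {x}) (i + 1) M)) :
    Function.Bijective (fun z : LocCoh.H K i M => x • z) := by
  let J := injectiveResolution (ModuleCat.of R M)
  have v₀ := (subsingleton_iff_vanish J _ i).1 h₀
  have v₁ := (subsingleton_iff_vanish J _ (i + 1)).1 h₁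
  constructor
  · refine (injective_iff_map_eq_zero (LinearMap.lsmul R (LocCoh.H K i M) x)).2 fun z hz => ?_
    obtain ⟨c, rfl⟩ := cyclesToH_surjective J i z
    rw [LinearMap.lsmul_apply, ← map_smul, cyclesToH_eq_zero_iff_mem, cycleVal_smul] at hz
    rw [cyclesToH_eq_zero_iff_mem]
    obtain ⟨b, hb, m, hm⟩ := exists_boundary_killed_correction J hz
    rw [← sub_add_cancel (cycleVal J i c) b]
    refine Submodule.add_mem _ (boundary_anti J le_sup_left i (v₀ _ (torsionSub_sup
      (Submodule.sub_mem _ ((gammaComplex J K).iCycles i c).2 (boundary_le_torsionSub J K i hb))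
      (mem_torsionSub_span_singleton_iff.2 ⟨m, hm⟩)) ?_)) hb
    rw [map_sub, d_cycleVal, d_boundary J K hb, sub_zero]
  · intro z
    obtain ⟨c, rfl⟩ := cyclesToH_surjective J i z
    obtain ⟨w, hw, hdw, hb⟩ := exists_smul_sub_mem_boundary J K x i v₀ v₁ ((gammaComplex J K).iCycles i c).2 (d_cycleVal J i c)
    obtain ⟨c', hc'⟩ := exists_cycle (I := K) J i w hw hdw
    refine ⟨cyclesToH J i c', ?_⟩
    show x • cyclesToH J i c' = cyclesToH J i c
    rw [← sub_eq_zero, ← map_smul, ← map_sub, cyclesToH_eq_zero_iff_mem, cycleVal_sub, cycleVal_smul, hc']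
    exact hb

/-- The socle of the lowest local cohomology is finite. -/
theorem exists_fg_socle (K : Ideal R) : ∀ (t : ℕ) (M : Type u) [AddCommGroup M] [Module R M] [Module.Finite R M],
    (∀ i, i < t → Subsingleton (LocCoh.H K i M)) →
      ∃ S : Submodule R (LocCoh.H K t M), S.FG ∧ Submodule.torsionBySet R (LocCoh.H K t M) (K : Set R) ≤ S
  | 0, M, _, _, _, _ => by
    have e := ((zeroIso K).app (ModuleCat.of R M)).toLinearEquiv
    have : Module.Finite R ↑((DRing.gammaI K).obj (ModuleCat.of R M)) :=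
      Module.Finite.iff_fg.2 (IsNoetherian.noetherian (DRing.torsionSub K M))
    have : Module.Finite R (LocCoh.H K 0 M) := Module.Finite.equiv e.symm
    exact ⟨⊤, Module.Finite.fg_top, le_top⟩
  | t + 1, M, _, _, _, h => by
    have hbot : DRing.torsionSub (K.map (algebraMap R R)) M = ⊥ := by
      rw [Algebra.algebraMap_self, Ideal.map_id]
      exact torsionSub_eq_bot_of_subsingleton (h 0 (Nat.succ_pos t))
    obtain ⟨r, hr, hreg⟩ := S11610.result R R K M hbot
    replace hreg : IsSMulRegular M r := hreg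
    have hS := smulSES_shortExact hreg
    obtain ⟨S', hS', hle⟩ := exists_fg_socle K t (QuotSMulTop r M) fun i hi =>
      subsingleton_X₃ hS i (h i (by lia)) (h (i + 1) (by lia))
    have hinj : Function.Injective (delta (I := K) hS t) := (injective_iff_map_eq_zero _).2 fun y hy => by
      obtain ⟨y', rfl⟩ := exact₃ hS t hy
      have h0 : y' = 0 := (h t (by lia)).elim _ _
      rw [h0, map_zero]
    refine ⟨S'.map (delta hS t), hS'.map _, fun z hz => ?_⟩
    rw [Submodule.mem_torsionBySet_iff] at hz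
    obtain ⟨y, rfl⟩ := exact₁ hS t (x := z) ((map_smul_id_apply r (t + 1) z).trans (hz ⟨r, hr⟩))
    refine ⟨y, hle ((Submodule.mem_torsionBySet_iff _ _).2 fun a => hinj ?_), rfl⟩
    refine ((delta hS t).map_smul (a : R) y).trans (Eq.trans ?_ (map_zero _).symm)
    exact hz a

theorem subsingleton_of_smul_bijective (K : Ideal R) (M : Type u) [AddCommGroup M] [Module R M] [Module.Finite R M]
    (t : ℕ) (hlow : ∀ i, i < t → Subsingleton (LocCoh.H K i M)) {x : R} (hx : x ∈ (⊥ : Ideal R).jacobson)
    (hb : Function.Bijective (fun z : LocCoh.H K t M => x • z)) : Subsingleton (LocCoh.H K t M) := by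
  obtain ⟨S, hS, hle⟩ := exists_fg_socle K t M hlow
  let T := Submodule.torsionBySet R (LocCoh.H K t M) (K : Set R)
  have hT : T.FG := by
    have : Module.Finite R S := Module.Finite.iff_fg.2 hS
    have h := (IsNoetherian.noetherian (T.comap S.subtype)).map S.subtype
    rwa [Submodule.map_comap_eq_self (by rw [Submodule.range_subtype]; exact hle)] at h
  have hT0 : T = ⊥ := by
    refine Submodule.eq_bot_of_le_smul_of_le_jacobson_bot (Ideal.span {x}) T hT (fun z hz => ?_)
      (by rw [Ideal.span_le, Set.singleton_subset_iff]; exact hx)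
    obtain ⟨w, rfl⟩ := hb.2 z
    refine Submodule.smul_mem_smul (Ideal.mem_span_singleton_self x) ((Submodule.mem_torsionBySet_iff _ _).2 fun a => hb.1 ?_)
    show x • (a : R) • w = x • (0 : LocCoh.H K t M)
    rw [smul_zero, smul_comm, (Submodule.mem_torsionBySet_iff _ _).1 hz a]
  refine subsingleton_of_forall_eq 0 fun z => ?_
  obtain ⟨n, hn⟩ := isPowerTorsion K t (ModuleCat.of R M) z
  have key : ∀ (n : ℕ) (z : LocCoh.H K t M), (∀ a ∈ K ^ n, a • z = 0) → z = 0 := by
    intro n
    induction n with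
    | zero => exact fun z hz => (one_smul R z).symm.trans (hz 1 (by rw [pow_zero, Ideal.one_eq_top]; exact Submodule.mem_top))
    | succ n ih =>
      intro z hz
      refine ih z fun a ha => ?_
      have : a • z ∈ T := (Submodule.mem_torsionBySet_iff _ _).2 fun b => by
        rw [← mul_smul]; exact hz _ (by rw [pow_succ']; exact Ideal.mul_mem_mul b.2 ha)
      rw [hT0, Submodule.mem_bot] at this
      exact this
  exact key n z hn

/-- Removing one generator lowers the depth by at most one. -/
theorem subsingleton_of_sup_span (K : Ideal R) {x : R} (hx : x ∈ (⊥ : Ideal R).jacobson)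
    (M : Type u) [AddCommGroup M] [Module R M] [Module.Finite R M] (n : ℕ)
    (h : ∀ j, j ≤ n → Subsingleton (LocCoh.H (K ⊔ Ideal.span {x}) j M)) :
    ∀ j, j < n → Subsingleton (LocCoh.H K j M) := by
  intro j
  induction j using Nat.strong_induction_on with
  | _ j ih =>
    intro hj
    exact subsingleton_of_smul_bijective K M j (fun i hi => ih i hi (by lia)) hx
      (smul_bijective_H K x M j (h j (by lia)) (h (j + 1) hj))

theorem exists_isWeaklyRegular_append (I : Ideal R) (n : ℕ) : ∀ (rs : List R) (M : Type u) [AddCommGroup M] [Module R M]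
    [Module.Finite R M], IsWeaklyRegular M rs → (∀ r ∈ rs, r ∈ I) →
      (∀ i, i < rs.length + n → Subsingleton (LocCoh.H I i M)) →
      ∃ rs' : List R, rs'.length = n ∧ IsWeaklyRegular M (rs ++ rs') ∧ ∀ r ∈ rs', r ∈ I
  | [], M, _, _, _, _, _, h => by
    obtain ⟨rs', h1, h2, h3⟩ := exists_isWeaklyRegular I n M fun i hi => h i (by simpa using hi)
    exact ⟨rs', h1, by simpa using h2, h3⟩
  | r :: rs, M, _, _, _, hrs, hI, h => by
    rw [isWeaklyRegular_cons_iff] at hrs
    have hS := smulSES_shortExact hrs.1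
    obtain ⟨rs', h1, h2, h3⟩ := exists_isWeaklyRegular_append I n rs (QuotSMulTop r M) hrs.2
      (fun s hs => hI s (List.mem_cons_of_mem _ hs)) fun i hi =>
        subsingleton_X₃ hS i (h i (by simp only [List.length_cons]; lia)) (h (i + 1) (by simp only [List.length_cons]; lia))
    exact ⟨rs', h1, IsWeaklyRegular.cons hrs.1 h2, h3⟩

end Groth.Agent.LocH
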