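import Mathlib
import Groth.Agent.LocH.DepthStep
import Groth.Agent.LocH.Noetherian
import Groth.Agent.PowTors.Basic

/-!
Finiteness of local cohomology from annihilation (Faltings).
-/

set_option autoImplicit false

namespace Groth.Agent.LocH

universe u

open CategoryTheory CategoryTheory.Limits

variable {R : Type u} [CommRing R] [IsNoetherianRing R]

/-- The elements that `I` moves into `F`. -/
def intoSub (I : Ideal R) {H : Type u} [AddCommGroup H] [Module R H] (F : Submodule R H) : Submodule R H where
  carrier := {h | ∀ a ∈ I, a • h ∈ F}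
  add_mem' hx hy a ha := by rw [smul_add]; exact F.add_mem (hx a ha) (hy a ha)
  zero_mem' a _ := by rw [smul_zero]; exact F.zero_mem
  smul_mem' c x hx a ha := by rw [smul_comm]; exact F.smul_mem c (hx a ha)

theorem fg_intoSub (I : Ideal R) {H : Type u} [AddCommGroup H] [Module R H] {F : Submodule R H} (hF : F.FG)
    (hs : (Submodule.torsionBySet R H (I : Set R)).FG) : (intoSub I F).FG := by
  have : Module.Finite R F := Module.Finite.iff_fg.2 hF
  have : Module.Finite R (Submodule.torsionBySet R H (I : Set R)) := Module.Finite.iff_fg.2 hs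
  have : Module.Finite R I := Module.Finite.iff_fg.2 (IsNoetherian.noetherian I)
  let T := intoSub I F
  let φ : T →ₗ[R] (I →ₗ[R] F) :=
    { toFun := fun h => { toFun := fun a => ⟨(a : R) • (h : H), h.2 a a.2⟩
                          map_add' := fun a b => Subtype.ext (add_smul (a : R) (b : R) (h : H))
                          map_smul' := fun c a => Subtype.ext (mul_smul c (a : R) (h : H)) }
      map_add' := fun x y => LinearMap.ext fun a => Subtype.ext (smul_add (a : R) (x : H) (y : H))
      map_smul' := fun c x => LinearMap.ext fun a => Subtype.ext (smul_comm (a : R) c (x : H)) }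
  have : IsNoetherian R T := isNoetherian_of_range_eq_ker
    (Submodule.inclusion (show Submodule.torsionBySet R H (I : Set R) ≤ T from fun x hx a ha => by
      rw [Submodule.mem_torsionBySet_iff] at hx
      rw [hx ⟨a, ha⟩]; exact F.zero_mem)) φ (by
    ext x
    constructor
    · rintro ⟨y, rfl⟩
      refine LinearMap.ext fun a => Subtype.ext ?_
      exact (Submodule.mem_torsionBySet_iff _ _).1 y.2 a
    · intro hx
      refine ⟨⟨x, (Submodule.mem_torsionBySet_iff _ _).2 fun a => ?_⟩, Subtype.ext rfl⟩
      exact congrArg Subtype.val (LinearMap.congr_fun hx a))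
  exact Module.Finite.iff_fg.1 inferInstance

/-- The `I`-socle of `H^t_I(M)` is finite if the lower local cohomology is finite. -/
theorem fg_socle (I : Ideal R) : ∀ (t : ℕ) (M : Type u) [AddCommGroup M] [Module R M] [Module.Finite R M],
    (∀ i, i < t → Module.Finite R (LocCoh.H I i M)) →
      (Submodule.torsionBySet R (LocCoh.H I t M) (I : Set R)).FG
  | 0, M, _, _, _, _ => by
    have e := ((zeroIso I).app (ModuleCat.of R M)).toLinearEquiv
    have : Module.Finite R ↑((DRing.gammaI I).obj (ModuleCat.of R M)) :=
      Module.Finite.iff_fg.2 (IsNoetherian.noetherian (DRing.torsionSub I M))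
    have : Module.Finite R (LocCoh.H I 0 M) := Module.Finite.equiv e.symm
    exact IsNoetherian.noetherian _
  | t + 1, M, _, _, _, h => by
    let M' := M ⧸ DRing.torsionSub I M
    let e : ∀ i : ℕ, LocCoh.H I (i + 1) M ≃ₗ[R] LocCoh.H I (i + 1) M' := fun i =>
      LinearEquiv.ofBijective _ (map_mkQ_bijective (I := I) (ModuleCat.of R M) i)
    have hbot : DRing.torsionSub I M' = ⊥ := by
      rw [Submodule.eq_bot_iff]
      intro x hx
      obtain ⟨m, rfl⟩ := Submodule.Quotient.mk_surjective _ x
      obtain ⟨n, hn⟩ := hx
      refine (Submodule.Quotient.mk_eq_zero _).2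
        (PowTors.mem_torsionSub_of_pow_smul_mem (IsNoetherian.noetherian I) (n := n) fun a ha => ?_)
      exact (Submodule.Quotient.mk_eq_zero _).1 (hn a ha)
    have hfin : ∀ i, i < t + 1 → Module.Finite R (LocCoh.H I i M') := by
      intro i hi
      cases i with
      | zero =>
        have e := ((zeroIso I).app (ModuleCat.of R M')).toLinearEquiv
        have : Module.Finite R ↑((DRing.gammaI I).obj (ModuleCat.of R M')) :=
          Module.Finite.iff_fg.2 (IsNoetherian.noetherian (DRing.torsionSub I M'))
        exact Module.Finite.equiv e.symm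
      | succ i =>
        have := h (i + 1) hi
        exact Module.Finite.equiv (e i)
    obtain ⟨r, hr, hreg⟩ := S11610.result R R I M' (by rw [Algebra.algebraMap_self, Ideal.map_id]; exact hbot)
    replace hreg : IsSMulRegular M' r := hreg
    have hS := smulSES_shortExact hreg
    let mp : ∀ i, LocCoh.H I i M' →ₗ[R] LocCoh.H I i (QuotSMulTop r M') := fun i =>
      ((localCohomology I i).map (smulSES M' r).g).hom
    have hker : ∀ i, LinearMap.range (mp i) = LinearMap.ker (delta (I := I) hS i) := fun i => by
      ext y
      exact ⟨fun ⟨x, hx⟩ => hx ▸ delta_map hS i x, fun hy => exact₃ hS i hy⟩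
    have hF : ∀ i, i < t → Module.Finite R (LocCoh.H I i (QuotSMulTop r M')) := fun i hi => by
      have := hfin i (by omega)
      have := hfin (i + 1) (by omega)
      have : IsNoetherian R ↑((localCohomology I (i + 1)).obj (smulSES M' r).X₁) :=
        inferInstanceAs (IsNoetherian R (LocCoh.H I (i + 1) M'))
      have : IsNoetherian R (LocCoh.H I i M') := inferInstance
      have : IsNoetherian R (LocCoh.H I i (QuotSMulTop r M')) := isNoetherian_of_range_eq_ker (mp i) (delta hS i) (hker i)
      infer_instance
    have hs := fg_socle I t (QuotSMulTop r M') hF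
    have := hfin t t.lt_succ_self
    have hker' : (LinearMap.ker (delta (I := I) hS t)).FG := by
      have h' : (LinearMap.range (mp t)).FG := by
        rw [LinearMap.range_eq_map]; exact Module.Finite.fg_top.map _
      rw [← hker t]; exact h'
    have hd : ((intoSub I (LinearMap.ker (delta (I := I) hS t))).map (delta hS t)).FG := (fg_intoSub I hker' hs).map _
    have hle : (Submodule.torsionBySet R (LocCoh.H I (t + 1) M') (I : Set R)) ≤
        (intoSub I (LinearMap.ker (delta (I := I) hS t))).map (delta hS t) := fun z hz => by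
      rw [Submodule.mem_torsionBySet_iff] at hz
      obtain ⟨y, rfl⟩ := exact₁ hS t (x := z) ((map_smul_id_apply r (t + 1) z).trans (hz ⟨r, hr⟩))
      refine ⟨y, fun a ha => ?_, rfl⟩
      exact ((delta hS t).map_smul a y).trans (hz ⟨a, ha⟩)
    have hfg : (Submodule.torsionBySet R (LocCoh.H I (t + 1) M') (I : Set R)).FG := by
      have : Module.Finite R ((intoSub I (LinearMap.ker (delta (I := I) hS t))).map (delta hS t)) := Module.Finite.iff_fg.2 hd
      exact Submodule.FG.of_le hd hle
    have heq : Submodule.torsionBySet R (LocCoh.H I (t + 1) M) (I : Set R) =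
        (Submodule.torsionBySet R (LocCoh.H I (t + 1) M') (I : Set R)).map (e t).symm.toLinearMap := by
      ext x
      rw [Submodule.mem_map_equiv, Submodule.mem_torsionBySet_iff, Submodule.mem_torsionBySet_iff]
      refine forall_congr' fun a => ?_
      rw [LinearEquiv.symm_symm, ← map_smul, LinearEquiv.map_eq_zero_iff]
    rw [heq]
    exact hfg.map _

theorem fg_torsion_pow (I : Ideal R) {t : ℕ} (M : Type u) [AddCommGroup M] [Module R M] [Module.Finite R M]
    (h : ∀ i, i < t → Module.Finite R (LocCoh.H I i M)) :
    ∀ k : ℕ, (Submodule.torsionBySet R (LocCoh.H I t M) ((I ^ k : Ideal R) : Set R)).FG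
  | 0 => by
    convert Submodule.fg_bot (R := R) (M := LocCoh.H I t M)
    rw [Submodule.eq_bot_iff]
    intro x hx
    simpa using (Submodule.mem_torsionBySet_iff _ _).1 hx ⟨1, by simp⟩
  | k + 1 => by
    refine Submodule.FG.of_le (fg_intoSub I (fg_torsion_pow I M h k) (fg_socle I t M h)) fun x hx a ha => ?_
    rw [Submodule.mem_torsionBySet_iff] at hx ⊢
    rintro ⟨b, hb⟩
    rw [← mul_smul]
    exact hx ⟨b * a, pow_succ I k ▸ Ideal.mul_mem_mul hb ha⟩

theorem finite_of_killed (I : Ideal R) (M : Type u) [AddCommGroup M] [Module R M] [Module.Finite R M] (n : ℕ)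
    (hk : ∀ i, i ≤ n → ∃ k : ℕ, ∀ a ∈ I ^ k, ∀ x : LocCoh.H I i M, a • x = 0) :
    ∀ i, i ≤ n → Module.Finite R (LocCoh.H I i M) := by
  intro i
  induction i using Nat.strong_induction_on with
  | _ i ih =>
    intro hi
    obtain ⟨k, hk⟩ := hk i hi
    have h := fg_torsion_pow I M (fun j hj => ih j hj (by omega)) k
    have : Submodule.torsionBySet R (LocCoh.H I i M) ((I ^ k : Ideal R) : Set R) = ⊤ :=
      eq_top_iff.2 fun x _ => (Submodule.mem_torsionBySet_iff _ _).2 fun a => hk a a.2 x
    exact ⟨this ▸ h⟩

theorem exists_pow_killed_of_finite (I : Ideal R) (i : ℕ) (M : ModuleCat.{u} R)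
    [Module.Finite R ↑((localCohomology I i).obj M)] :
    ∃ k : ℕ, ∀ a ∈ I ^ k, ∀ x : ↑((localCohomology I i).obj M), a • x = 0 := by
  classical
  obtain ⟨s, hs⟩ := Module.Finite.fg_top (R := R) (M := ↑((localCohomology I i).obj M))
  choose f hf using isPowerTorsion I i M
  refine ⟨s.sup f, fun a ha x => ?_⟩
  have hx : x ∈ Submodule.span R (s : Set ↑((localCohomology I i).obj M)) := hs ▸ Submodule.mem_top
  induction hx using Submodule.span_induction with
  | mem y hy => exact hf y a (Ideal.pow_le_pow_right (Finset.le_sup (Finset.mem_coe.1 hy)) ha)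
  | zero => exact smul_zero _
  | add x y _ _ hx hy => rw [smul_add, hx, hy, add_zero]
  | smul c y _ hy => rw [smul_comm, hy, smul_zero]

end Groth.Agent.LocH
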