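import Mathlib
import Groth.Prelude.Def_DRing3
import Groth.Agent.LocH.Noetherian
import Groth.Agent.LocTrans.Universal

/-!
The relation between the ideal transform and local cohomology.
-/

namespace Groth.Agent.LocH

universe u

open CategoryTheory CategoryTheory.Limits Opposite CategoryTheory.Abelian

variable {R : Type u} [CommRing R] {I : Ideal R}

/-- The short exact sequence `0 → M → E → E/M → 0` of an embedding into an injective. -/
noncomputable def injSES (M : ModuleCat.{u} R) : ShortComplex (ModuleCat.{u} R) :=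
  ShortComplex.mk (X₁ := M) (X₂ := Injective.under M)
    (X₃ := ModuleCat.of R (↑(Injective.under M) ⧸ LinearMap.range (Injective.ι M).hom))
    (Injective.ι M) (ModuleCat.ofHom (LinearMap.range (Injective.ι M).hom).mkQ) (by
      ext x
      exact (Submodule.Quotient.mk_eq_zero _).2 (LinearMap.mem_range_self _ x))

theorem injSES_shortExact (M : ModuleCat.{u} R) : (injSES M).ShortExact :=
  { exact := by
      rw [ShortComplex.moduleCat_exact_iff]
      intro y hy
      exact (Submodule.Quotient.mk_eq_zero _).1 hy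
    mono_f := Injective.ι_mono M
    epi_g := (ModuleCat.epi_iff_surjective _).2 (Submodule.mkQ_surjective _) }

theorem zero_map_apply {X Y : ModuleCat.{u} R} (f : X ⟶ Y) (y : DRing.torsionSub I X) :
    (localCohomology I 0).map f ((zeroIso I).inv.app X y) =
      (zeroIso I).inv.app Y ((DRing.gammaI I).map f y) :=
  (congrArg (fun φ => φ.hom y) ((zeroIso I).inv.naturality f)).symm

theorem subsingleton_H_one_of_surjective_toDT (G : ModuleCat.{u} R)
    (h : Function.Surjective (LocCoh.toDT I G)) :
    Subsingleton ↑((localCohomology I 1).obj G) := by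
  refine subsingleton_of_forall_eq 0 fun x => ?_
  have hinj : Subsingleton ↑((localCohomology I (0 + 1)).obj (injSES G).X₂) :=
    subsingleton_of_injective (Injective.under G) 0
  obtain ⟨y, rfl⟩ := exact₁ (injSES_shortExact G) 0 (x := x) (Subsingleton.elim _ _)
  obtain ⟨e₀, he₀⟩ := Submodule.Quotient.mk_surjective _ ((zeroIso I).hom.app _ y).1
  obtain ⟨n, hn⟩ := ((zeroIso I).hom.app _ y).2
  have hmem : ∀ a : ↥(I ^ n), ∃ g : G, (Injective.ι G).hom g = (a : R) • e₀ := fun a =>
    (Submodule.Quotient.mk_eq_zero _).1 ((congrArg ((a : R) • ·) he₀).trans (hn a a.2))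
  choose g hg using hmem
  have hι : Function.Injective (Injective.ι G).hom :=
    (ModuleCat.mono_iff_injective _).1 (Injective.ι_mono G)
  let f : ↥(I ^ n) →ₗ[R] G :=
    { toFun := g
      map_add' := fun a b => hι (by rw [map_add, hg, hg, hg, Submodule.coe_add, add_smul])
      map_smul' := fun r a => hι (by
        rw [RingHom.id_apply, map_smul, hg, hg, Submodule.coe_smul, smul_eq_mul, mul_smul]) }
  obtain ⟨g₀, hg₀⟩ := h (LocTrans.dι I G n f)
  rw [LocTrans.toDT_eq_dι, ← LocTrans.dι_res (Nat.zero_le n), ← sub_eq_zero, ← map_sub,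
    LocTrans.dι_eq_zero_iff] at hg₀
  obtain ⟨m, hm, hres⟩ := hg₀
  have hgam : e₀ - (Injective.ι G).hom g₀ ∈ DRing.torsionSub I ↑(injSES G).X₂ := by
    refine ⟨m, fun a ha => ?_⟩
    have := LinearMap.congr_fun hres ⟨a, ha⟩
    simp only [LocTrans.res_apply, LinearMap.sub_apply, LinearMap.zero_apply, sub_eq_zero] at this
    show (HSMul.hSMul a (e₀ - (Injective.ι G).hom g₀) : ↑(Injective.under G)) = 0
    rw [smul_sub, ← map_smul, sub_eq_zero, ← hg ⟨a, Ideal.pow_le_pow_right hm ha⟩]
    exact congrArg _ this.symm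
  have hy : (localCohomology I 0).map (injSES G).g ((zeroIso I).inv.app _ ⟨_, hgam⟩) = y := by
    rw [zero_map_apply]
    refine Eq.trans ?_ (congrArg (fun φ => φ.hom y) ((zeroIso I).hom_inv_id_app (injSES G).X₃))
    show (zeroIso I).inv.app _ _ = (zeroIso I).inv.app _ ((zeroIso I).hom.app _ y)
    congr 1
    refine Subtype.ext ?_
    show Submodule.Quotient.mk (e₀ - (Injective.ι G).hom g₀) = ((zeroIso I).hom.app _ y).1
    rw [Submodule.Quotient.mk_sub, (Submodule.Quotient.mk_eq_zero _).2 (LinearMap.mem_range_self _ g₀),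
      sub_zero]
    exact he₀
  rw [← hy]
  exact delta_map (injSES_shortExact G) 0 _

variable [IsNoetherianRing R]

theorem subsingleton_H_one_DT (M : Type u) [AddCommGroup M] [Module R M] :
    Subsingleton ↑((localCohomology I 1).obj (ModuleCat.of R (LocCoh.DT I M))) :=
  subsingleton_H_one_of_surjective_toDT _ LocTrans.toDT_DT_bijective.2

variable (I) (M : Type u) [AddCommGroup M] [Module R M]

/-- The map `M/Γ_I M → D_I M`. -/
noncomputable def toDTBar : (M ⧸ DRing.torsionSub I M) →ₗ[R] LocCoh.DT I M :=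
  (DRing.torsionSub I M).liftQ (LocCoh.toDT I M) LocTrans.ker_toDT.ge

theorem toDTBar_injective : Function.Injective (toDTBar I M) :=
  LinearMap.ker_eq_bot.1 (Submodule.ker_liftQ_eq_bot _ _ _ LocTrans.ker_toDT.le)

theorem range_toDTBar : LinearMap.range (toDTBar I M) = LinearMap.range (LocCoh.toDT I M) :=
  Submodule.range_liftQ _ _ _

/-- The short exact sequence `0 → M/Γ_I M → D_I M → coker → 0`. -/
noncomputable def dtSES : ShortComplex (ModuleCat.{u} R) :=
  ShortComplex.mk (X₁ := ModuleCat.of R (M ⧸ DRing.torsionSub I M))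
    (X₂ := ModuleCat.of R (LocCoh.DT I M))
    (X₃ := ModuleCat.of R (LocCoh.DT I M ⧸ LinearMap.range (LocCoh.toDT I M)))
    (ModuleCat.ofHom (toDTBar I M)) (ModuleCat.ofHom (LinearMap.range (LocCoh.toDT I M)).mkQ) (by
      ext x
      exact (Submodule.Quotient.mk_eq_zero _).2 (range_toDTBar I M ▸ LinearMap.mem_range_self _ _))

theorem dtSES_shortExact : (dtSES I M).ShortExact :=
  { exact := by
      rw [ShortComplex.moduleCat_exact_iff]
      intro y hy
      exact (range_toDTBar I M ▸ (Submodule.Quotient.mk_eq_zero _).1 hy :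
        y ∈ LinearMap.range (toDTBar I M))
    mono_f := (ModuleCat.mono_iff_injective _).2 (toDTBar_injective I M)
    epi_g := (ModuleCat.epi_iff_surjective _).2 (Submodule.mkQ_surjective _) }

theorem subsingleton_H_zero_DT : Subsingleton ↑((localCohomology I 0).obj (ModuleCat.of R (LocCoh.DT I M))) := by
  refine subsingleton_of_forall_eq 0 fun x => ?_
  have h : (zeroIso I).hom.app (ModuleCat.of R (LocCoh.DT I M)) x = 0 := Subtype.ext
    ((Submodule.mem_bot R).1 (LocTrans.torsionSub_DT (I := I) (M := M) ▸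
      ((zeroIso I).hom.app (ModuleCat.of R (LocCoh.DT I M)) x).2))
  exact ((zeroIso I).app (ModuleCat.of R (LocCoh.DT I M))).toLinearEquiv.injective
    (h.trans (map_zero _).symm)

theorem nonempty_coker_toDT_equiv :
    Nonempty ((LocCoh.DT I M ⧸ LinearMap.range (LocCoh.toDT I M)) ≃ₗ[R]
      ↑((localCohomology I 1).obj (ModuleCat.of R M))) := by
  have h0 := subsingleton_H_zero_DT I M
  have h1 := subsingleton_H_one_DT (I := I) M
  have hd : Function.Bijective (delta (I := I) (dtSES_shortExact I M) 0) := by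
    refine ⟨(injective_iff_map_eq_zero _).2 fun x hx => ?_,
      fun x => exact₁ (dtSES_shortExact I M) 0 (x := x) (h1.elim _ _)⟩
    obtain ⟨y, rfl⟩ := exact₃ (dtSES_shortExact I M) 0 hx
    have : Subsingleton ↑((localCohomology I 0).obj (dtSES I M).X₂) := h0
    rw [Subsingleton.elim y 0, map_zero]
  exact ⟨((zeroEquiv (dtSES I M).X₃ LocTrans.isPowerTorsion_coker_toDT).symm.trans
    (LinearEquiv.ofBijective _ hd)).trans
      (LinearEquiv.ofBijective _ (map_mkQ_bijective (I := I) (ModuleCat.of R M) 0)).symm⟩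

theorem map_toDT_bijective (i : ℕ) :
    Function.Bijective ((localCohomology I (i + 2)).map (ModuleCat.ofHom (LocCoh.toDT I M))).hom := by
  have e : (ModuleCat.ofHom (LocCoh.toDT I M)) =
      (ModuleCat.ofHom (DRing.torsionSub I M).mkQ : ModuleCat.of R M ⟶ (dtSES I M).X₁) ≫
        (dtSES I M).f := by
    ext x
    rfl
  have hC : LocCoh.IsPowerTorsion I (dtSES I M).X₃ := LocTrans.isPowerTorsion_coker_toDT
  have hf : Function.Bijective ((localCohomology I (i + 2)).map (dtSES I M).f).hom := by
    refine ⟨(injective_iff_map_eq_zero _).2 fun x hx => ?_, fun x => ?_⟩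
    · obtain ⟨y, rfl⟩ := exact₁ (dtSES_shortExact I M) (i + 1) (x := x) hx
      rw [(subsingleton_of_isPowerTorsion i _ hC).elim y 0, map_zero]
    · exact exact₂ (dtSES_shortExact I M) (i + 2) (x := x)
        ((subsingleton_of_isPowerTorsion (i + 1) _ hC).elim _ _)
  rw [e]
  erw [Functor.map_comp]
  exact hf.comp (map_mkQ_bijective (I := I) (ModuleCat.of R M) (i + 1))

end Groth.Agent.LocH
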