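import Mathlib
import Groth.Prelude.Def_DRing3
import Groth.Agent.LocH.Cd
import Groth.Agent.LocH.Transform

/-!
Independence of the ring for local cohomology, and flat base change of injective modules.
-/

namespace Groth.Agent.LocH

universe u

open CategoryTheory CategoryTheory.Limits Opposite CategoryTheory.Abelian TensorProduct

variable {R : Type u} [CommRing R] {R' : Type u} [CommRing R'] [Algebra R R']

theorem exists_semilinear_of_surjective {A' A B' B : Type u} [AddCommGroup A'] [Module R' A']
    [AddCommGroup A] [Module R A] [AddCommGroup B'] [Module R' B'] [AddCommGroup B] [Module R B]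
    (ψ : A' ≃+ A) (hψ : ∀ (r : R) (x : A'), ψ (algebraMap R R' r • x) = r • ψ x)
    (p' : A' →ₗ[R'] B') (p : A →ₗ[R] B) (hp' : Function.Surjective p') (hp : Function.Surjective p)
    (hker : ∀ x, p' x = 0 ↔ p (ψ x) = 0) :
    ∃ φ : B' ≃+ B, ∀ (r : R) (y : B'), φ (algebraMap R R' r • y) = r • φ y := by
  have hcongr : ∀ x y, p' x = p' y → p (ψ x) = p (ψ y) := fun x y h => sub_eq_zero.1 (by
    rw [← map_sub, ← map_sub, ← hker, map_sub, h, sub_self])
  let g : B' → B := fun y => p (ψ (Function.surjInv hp' y))
  have hg : ∀ x, g (p' x) = p (ψ x) := fun x => hcongr _ _ (Function.surjInv_eq hp' _)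
  let φ : B' →+ B := AddMonoidHom.mk' g fun y z => by
    obtain ⟨a, rfl⟩ := hp' y
    obtain ⟨b, rfl⟩ := hp' z
    rw [← map_add, hg, hg, hg, map_add, map_add]
  refine ⟨AddEquiv.ofBijective φ ⟨(injective_iff_map_eq_zero _).2 fun y hy => ?_, fun b => ?_⟩,
    fun r y => ?_⟩
  · obtain ⟨a, rfl⟩ := hp' y
    exact (hker a).2 ((hg a).symm.trans hy)
  · obtain ⟨a, rfl⟩ := hp b
    exact ⟨p' (ψ.symm a), (hg _).trans (by rw [ψ.apply_symm_apply])⟩
  · obtain ⟨a, rfl⟩ := hp' y
    show g _ = r • g _
    rw [← map_smul, hg, hg, hψ, map_smul]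

variable [IsNoetherianRing R] [IsNoetherianRing R'] (I : Ideal R)

theorem exists_gammaEquiv (M' : Type u) [AddCommGroup M'] [Module R' M'] [Module R M']
    [IsScalarTower R R' M'] :
    ∃ φ : ↑((localCohomology (I.map (algebraMap R R')) 0).obj (ModuleCat.of R' M')) ≃+
        ↑((localCohomology I 0).obj (ModuleCat.of R M')),
      (∀ (r : R) x, φ (algebraMap R R' r • x) = r • φ x) ∧
      ∀ x, ((zeroIso I).hom.app (ModuleCat.of R M') (φ x)).1 =
        ((zeroIso (I.map (algebraMap R R'))).hom.app (ModuleCat.of R' M') x).1 := by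
  let e' : _ ≃ₗ[R'] ↥(DRing.torsionSub (I.map (algebraMap R R')) M') :=
    ((zeroIso (I.map (algebraMap R R'))).app (ModuleCat.of R' M')).toLinearEquiv
  let e : _ ≃ₗ[R] ↥(DRing.torsionSub I M') :=
    ((zeroIso I).app (ModuleCat.of R M')).toLinearEquiv
  let mid : ↥(DRing.torsionSub (I.map (algebraMap R R')) M') ≃+ ↥(DRing.torsionSub I M') :=
    { toFun := fun x => ⟨x.1, (mem_torsionSub_map_iff I).1 x.2⟩
      invFun := fun x => ⟨x.1, (mem_torsionSub_map_iff I).2 x.2⟩
      map_add' := fun _ _ => rfl }
  refine ⟨e'.toAddEquiv.trans (mid.trans e.symm.toAddEquiv), fun r x => ?_, fun x => ?_⟩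
  · show e.symm (mid (e' (algebraMap R R' r • x))) = r • e.symm (mid (e' x))
    rw [← map_smul e.symm]
    congr 1
    rw [map_smul]
    exact Subtype.ext (algebraMap_smul R' r ((e' x).1 : M'))
  · show (e (e.symm (mid (e' x)))).1 = (e' x).1
    rw [e.apply_symm_apply]
    rfl

theorem exists_semilinearEquiv : ∀ (i : ℕ) (M' : Type u) [AddCommGroup M'] [Module R' M'] [Module R M']
    [IsScalarTower R R' M'],
    ∃ φ : ↑((localCohomology (I.map (algebraMap R R')) i).obj (ModuleCat.of R' M')) ≃+
        ↑((localCohomology I i).obj (ModuleCat.of R M')),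
      ∀ (r : R) x, φ (algebraMap R R' r • x) = r • φ x := by
  intro i
  induction i with
  | zero =>
    intro M' _ _ _ _
    obtain ⟨φ, hφ, -⟩ := exists_gammaEquiv (R' := R') I M'
    exact ⟨φ, hφ⟩
  | succ i ih =>
    intro M' _ _ _ _
    let S' := injSES (ModuleCat.of R' M')
    let E := (Injective.under (ModuleCat.of R' M') : ModuleCat.{u} R')
    have hS' : S'.ShortExact := injSES_shortExact _
    let Q := ↑E ⧸ LinearMap.range (Injective.ι (ModuleCat.of R' M')).hom
    let modE : Module R E := Module.compHom E (algebraMap R R')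
    have : IsScalarTower R R' E := IsScalarTower.of_algebraMap_smul fun _ _ => rfl
    let ι : M' →ₗ[R] E := (Injective.ι (ModuleCat.of R' M')).hom.restrictScalars R
    let q : E →ₗ[R] Q := (LinearMap.range (Injective.ι (ModuleCat.of R' M')).hom).mkQ.restrictScalars R
    let S : ShortComplex (ModuleCat.{u} R) :=
      ShortComplex.mk (X₁ := ModuleCat.of R M') (X₂ := ModuleCat.of R E) (X₃ := ModuleCat.of R Q)
        (ModuleCat.ofHom ι) (ModuleCat.ofHom q) (by
          ext x
          exact (Submodule.Quotient.mk_eq_zero _).2 (LinearMap.mem_range_self _ x))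
    have hS : S.ShortExact :=
      { exact := by
          rw [ShortComplex.moduleCat_exact_iff]
          intro y hy
          obtain ⟨x, hx⟩ := (Submodule.Quotient.mk_eq_zero _).1 hy
          exact ⟨x, hx⟩
        mono_f := (ModuleCat.mono_iff_injective _).2
          ((ModuleCat.mono_iff_injective (Injective.ι (ModuleCat.of R' M'))).1 (Injective.ι_mono _))
        epi_g := (ModuleCat.epi_iff_surjective (ModuleCat.ofHom q)).2
          (fun z => Submodule.Quotient.mk_surjective (LinearMap.range (Injective.ι (ModuleCat.of R' M')).hom) z) }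
    have : Module.Injective R' E :=
      Module.injective_module_of_injective_object R' E (inj := Injective.injective_under _)
    have h' : ∀ j, Subsingleton ↑((localCohomology (I.map (algebraMap R R')) (j + 1)).obj S'.X₂) :=
      fun j => subsingleton_of_injective (Injective.under (ModuleCat.of R' M')) j
    have h : ∀ j, Subsingleton ↑((localCohomology I (j + 1)).obj S.X₂) :=
      fun j => subsingleton_of_injective_algebra R' E I j
    have hd' : Function.Surjective (delta (I := I.map (algebraMap R R')) hS' i) := fun x =>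
      exact₁ hS' i (x := x) ((h' i).elim _ _)
    have hd : Function.Surjective (delta (I := I) hS i) := fun x =>
      exact₁ hS i (x := x) ((h i).elim _ _)
    cases i with
    | zero =>
      obtain ⟨ψ, hψ, hψv⟩ := exists_gammaEquiv (R' := R') I Q
      obtain ⟨χ, -, hχv⟩ := exists_gammaEquiv (R' := R') I E
      have hnat' : ∀ x, ((zeroIso (I.map (algebraMap R R'))).hom.app S'.X₃
          ((localCohomology (I.map (algebraMap R R')) 0).map S'.g x)).1 =
          S'.g ((zeroIso (I.map (algebraMap R R'))).hom.app S'.X₂ x).1 := fun x =>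
        congrArg (fun φ => (φ.hom x).1) ((zeroIso (I.map (algebraMap R R'))).hom.naturality S'.g)
      have hnat : ∀ x, ((zeroIso I).hom.app S.X₃ ((localCohomology I 0).map S.g x)).1 =
          S.g ((zeroIso I).hom.app S.X₂ x).1 := fun x =>
        congrArg (fun φ => (φ.hom x).1) ((zeroIso I).hom.naturality S.g)
      have comm : ∀ x, ψ ((localCohomology (I.map (algebraMap R R')) 0).map S'.g x) =
          (localCohomology I 0).map S.g (χ x) := fun x =>
        ((zeroIso I).app S.X₃).toLinearEquiv.injective (Subtype.ext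
          ((hψv _).trans ((hnat' x).trans ((congrArg q (hχv x).symm).trans (hnat (χ x)).symm))))
      refine exists_semilinear_of_surjective ψ hψ _ _ hd' hd fun x => ⟨fun hx => ?_, fun hx => ?_⟩
      · obtain ⟨e, rfl⟩ := exact₃ hS' 0 (x := x) hx
        exact (congrArg _ (comm e)).trans (delta_map hS 0 _)
      · obtain ⟨e, he⟩ := exact₃ hS 0 hx
        obtain ⟨e', rfl⟩ := χ.surjective e
        rw [← ψ.injective ((comm e').trans he)]
        exact delta_map hS' 0 _
    | succ j =>
      obtain ⟨ψ, hψ⟩ := ih Q
      refine exists_semilinear_of_surjective ψ hψ _ _ hd' hd fun x => ⟨fun hx => ?_, fun hx => ?_⟩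
      · obtain ⟨e, rfl⟩ := exact₃ hS' (j + 1) (x := x) hx
        rw [(h' j).elim e 0, map_zero]
        exact (congrArg _ (map_zero ψ)).trans (map_zero _)
      · obtain ⟨e, he⟩ := exact₃ hS (j + 1) hx
        rw [(h j).elim e 0, map_zero] at he
        rw [ψ.map_eq_zero_iff.1 he.symm]
        exact map_zero _

omit [IsNoetherianRing R'] in
theorem injective_tensor_flat [Module.Flat R R'] (E : Type u) [AddCommGroup E] [Module R E]
    [Module.Injective R E] : Module.Injective R (R' ⊗[R] E) := by
  refine Module.Baer.injective fun J f => ?_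
  obtain ⟨s, π, hπ⟩ := Module.Finite.exists_fin' R J
  obtain ⟨t, k, hk⟩ := Module.Finite.exists_fin' R (LinearMap.ker π)
  let a : Fin s → R := fun j => (π (Pi.single j 1) : J).1
  let u : E →ₗ[R] (Fin s → E) := LinearMap.pi fun j => LinearMap.lsmul R E (a j)
  let c : Fin t → Fin s → R := fun l => (k (Pi.single l 1) : LinearMap.ker π).1
  let v : (Fin s → E) →ₗ[R] (Fin t → E) := LinearMap.pi fun l => ∑ j, c l j • LinearMap.proj j
  have hπs : ∀ b : Fin s → R, π b = ∑ j, b j • π (Pi.single j 1) := fun b => by
    conv_lhs => rw [← Finset.univ_sum_single b]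
    rw [map_sum]
    refine Finset.sum_congr rfl fun j _ => ?_
    rw [← map_smul, ← Pi.single_smul', smul_eq_mul, mul_one]
  have hcv : ∀ l, ∑ j, c l j • a j = 0 := fun l => by
    have := congrArg Subtype.val ((hπs (c l)).symm.trans (k (Pi.single l 1)).2)
    simpa [a] using this
  have hex : Function.Exact u v := by
    intro w
    constructor
    · intro hw
      let Φ : (Fin s → R) →ₗ[R] E := Fintype.linearCombination R w
      have hker : LinearMap.ker π ≤ LinearMap.ker Φ := by
        intro b hb
        obtain ⟨d, hd⟩ := hk ⟨b, hb⟩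
        have hz : ∀ l, Φ (c l) = 0 := fun l => by
          simpa [Φ, v, Fintype.linearCombination_apply] using congrFun hw l
        have : b = ∑ l, d l • c l := by
          have := congrArg (Submodule.subtype (LinearMap.ker π)) hd
          rw [← Finset.univ_sum_single d, map_sum, map_sum] at this
          refine this.symm.trans (Finset.sum_congr rfl fun l _ => ?_)
          rw [show Pi.single l (d l) = d l • (Pi.single l 1 : Fin t → R) by
            rw [← Pi.single_smul', smul_eq_mul, mul_one], map_smul, map_smul]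
          rfl
        rw [LinearMap.mem_ker, this, map_sum]
        exact Finset.sum_eq_zero fun l _ => by rw [map_smul, hz, smul_zero]
      let g : J →ₗ[R] E := (LinearMap.ker π).liftQ Φ hker ∘ₗ
        (π.quotKerEquivOfSurjective hπ).symm.toLinearMap
      obtain ⟨g', hg'⟩ := Module.Injective.out (R := R) J.subtype J.injective_subtype g
      refine ⟨g' 1, funext fun j => ?_⟩
      have h1 : g (π (Pi.single j 1)) = w j := by
        have h2 : (π.quotKerEquivOfSurjective hπ).symm (π (Pi.single j 1)) =
            Submodule.Quotient.mk (Pi.single j 1) := by rw [LinearEquiv.symm_apply_eq]; rfl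
        show (LinearMap.ker π).liftQ Φ hker _ = _
        rw [LinearEquiv.coe_coe, h2, Submodule.liftQ_apply]
        simp [Φ, Fintype.linearCombination_apply, Pi.single_apply]
      rw [← h1, ← hg']
      show a j • g' 1 = g' (a j)
      rw [← map_smul, smul_eq_mul, mul_one]
    · rintro ⟨e, rfl⟩
      funext l
      have := congrArg (· • e) (hcv l)
      simpa [u, v, Finset.sum_smul, mul_smul] using this
  let P := piRight R R R' (fun _ : Fin s => E)
  let P' := piRight R R R' (fun _ : Fin t => E)
  let y : R' ⊗[R] (Fin s → E) := P.symm fun j => f (π (Pi.single j 1))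
  have hPv : ∀ (z : R' ⊗[R] (Fin s → E)) (l : Fin t),
      P' (v.lTensor R' z) l = ∑ j, c l j • P z j := by
    intro z l
    induction z using TensorProduct.induction_on with
    | zero => simp
    | tmul x w => simp [P, P', v, tmul_sum, ← tmul_smul]
    | add z₁ z₂ h₁ h₂ => simp [h₁, h₂, Finset.sum_add_distrib]
  have hy : v.lTensor R' y = 0 := P'.injective (funext fun l => by
    rw [hPv, map_zero, Pi.zero_apply, P.apply_symm_apply]
    have : ∑ j, c l j • π (Pi.single j 1) = 0 := (hπs (c l)).symm.trans (k (Pi.single l 1)).2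
    simpa [map_sum] using congrArg f this)
  obtain ⟨Y, hY⟩ := (Module.Flat.lTensor_exact R' hex y).1 hy
  have hPu : ∀ (z : R' ⊗[R] E) (j : Fin s), P (u.lTensor R' z) j = a j • z := by
    intro z j
    induction z using TensorProduct.induction_on with
    | zero => simp
    | tmul x e => simp [P, u, tmul_smul]
    | add z₁ z₂ h₁ h₂ => simp [h₁, h₂]
  refine ⟨LinearMap.toSpanSingleton R (R' ⊗[R] E) Y, fun x hx => ?_⟩
  obtain ⟨b, hb⟩ := hπ ⟨x, hx⟩
  rw [← hb, LinearMap.toSpanSingleton_apply, show x = (π b).1 by rw [hb], hπs b, map_sum]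
  simp only [map_smul, Submodule.coe_sum, Submodule.coe_smul, Finset.sum_smul, smul_assoc]
  refine Finset.sum_congr rfl fun j _ => ?_
  congr 1
  rw [← hPu Y j, hY, P.apply_symm_apply]

theorem subsingleton_baseChange_injective [Module.Flat R R'] (E : Type u) [AddCommGroup E] [Module R E]
    [Module.Injective R E] (i : ℕ) :
    Subsingleton ↑((localCohomology (I.map (algebraMap R R')) (i + 1)).obj
      (ModuleCat.of R' (R' ⊗[R] E))) := by
  obtain ⟨φ, -⟩ := exists_semilinearEquiv (R' := R') I (i + 1) (R' ⊗[R] E)
  have := injective_tensor_flat (R' := R') (R := R) E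
  have : Injective (ModuleCat.of R (R' ⊗[R] E)) := Module.injective_object_of_injective_module R _
  have := subsingleton_of_injective (I := I) (ModuleCat.of R (R' ⊗[R] E)) i
  exact φ.toEquiv.subsingleton

end Groth.Agent.LocH
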