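import Mathlib
import Groth.Prelude.Def_DRing3
import Groth.Agent.LocH.DepthStep
import Groth.Agent.LocH.ChangeRings

/-!
Depth under equivalences, restriction of scalars and flat base change.
-/

namespace Groth.Agent.LocH

universe u v w

open CategoryTheory CategoryTheory.Limits Opposite CategoryTheory.Abelian
open RingTheory.Sequence
open TensorProduct

theorem smul_top_eq_top_of_equiv {R : Type u} [CommRing R] {M : Type v} [AddCommGroup M] [Module R M]
    {N : Type w} [AddCommGroup N] [Module R N] (e : M ≃ₗ[R] N) {I : Ideal R}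
    (h : I • (⊤ : Submodule R M) = ⊤) : I • (⊤ : Submodule R N) = ⊤ := by
  have h1 := congrArg (Submodule.map e.toLinearMap) h
  rwa [Submodule.map_smul'', Submodule.map_top, LinearEquiv.range] at h1

theorem idealDepth_congr {R : Type u} [CommRing R] {M : Type v} [AddCommGroup M] [Module R M]
    {N : Type w} [AddCommGroup N] [Module R N] (e : M ≃ₗ[R] N) (I : Ideal R) :
    LocCoh.idealDepth I M = LocCoh.idealDepth I N := by
  by_cases h : I • (⊤ : Submodule R M) = ⊤
  · rw [LocCoh.idealDepth, LocCoh.idealDepth, if_pos h, if_pos (smul_top_eq_top_of_equiv e h)]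
  · rw [LocCoh.idealDepth, LocCoh.idealDepth, if_neg h, if_neg fun h' => h (smul_top_eq_top_of_equiv e.symm h')]
    simp only [e.isWeaklyRegular_congr]

/-- A finite module in any universe has a copy in the universe of the ring. -/
theorem exists_small_copy (R : Type u) [CommRing R] (M : Type v) [AddCommGroup M] [Module R M] [Module.Finite R M] :
    ∃ (N : Type u) (_ : AddCommGroup N) (_ : Module R N) (_ : Module.Finite R N), Nonempty (M ≃ₗ[R] N) := by
  obtain ⟨n, f, hf⟩ := Module.Finite.exists_fin' R M
  exact ⟨_, inferInstance, inferInstance, inferInstance, ⟨(f.quotKerEquivOfSurjective hf).symm⟩⟩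

variable {R : Type u} [CommRing R] [IsNoetherianRing R]

theorem idealDepth_map_eq {R' : Type u} [CommRing R'] [IsNoetherianRing R'] [Algebra R R'] (I : Ideal R)
    (M : Type u) [AddCommGroup M] [Module R' M] [Module R M] [IsScalarTower R R' M] [Module.Finite R' M]
    [Module.Finite R M] : LocCoh.idealDepth I M = LocCoh.idealDepth (I.map (algebraMap R R')) M := by
  refine ENat.eq_of_forall_natCast_le_iff fun n => ?_
  rw [le_idealDepth_iff, le_idealDepth_iff]
  refine forall₂_congr fun i _ => ?_
  obtain ⟨φ, -⟩ := exists_semilinearEquiv (R' := R') (I := I) i M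
  exact φ.toEquiv.symm.subsingleton_congr

variable {S : Type u} [CommRing S] [IsNoetherianRing S] [Algebra R S]

theorem idealDepth_le_baseChange [Module.Flat R S] (I : Ideal R) (M : Type u) [AddCommGroup M] [Module R M]
    [Module.Finite R M] : LocCoh.idealDepth I M ≤ LocCoh.idealDepth (I.map (algebraMap R S)) (S ⊗[R] M) := by
  refine ENat.forall_natCast_le_iff_le.1 fun n hn => ?_
  obtain ⟨rs, hlen, hrs, hmem⟩ := exists_isWeaklyRegular I n M ((le_idealDepth_iff I M n).1 hn)
  rw [le_idealDepth_iff]
  intro i hi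
  exact subsingleton_of_isWeaklyRegular _ (rs.map (algebraMap R S)) _
    (hrs.of_flat_of_isBaseChange (TensorProduct.isBaseChange R M S))
    (fun r hr => by
      obtain ⟨a, ha, rfl⟩ := List.mem_map.1 hr
      exact Ideal.mem_map_of_mem _ (hmem a ha)) i (by rw [List.length_map, hlen]; exact hi)

theorem idealDepth_baseChange_le [Module.FaithfullyFlat R S] (I : Ideal R) (M : Type u) [AddCommGroup M] [Module R M]
    [Module.Finite R M] : LocCoh.idealDepth (I.map (algebraMap R S)) (S ⊗[R] M) ≤ LocCoh.idealDepth I M := by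
  by_cases hIM : I • (⊤ : Submodule R M) = ⊤
  · rw [LocCoh.idealDepth, LocCoh.idealDepth, if_pos hIM]
    exact le_top
  obtain ⟨t, ht⟩ := ENat.ne_top_iff_exists.1 (idealDepth_ne_top hIM)
  obtain ⟨rs, hlen, hrs, hmem⟩ := exists_isWeaklyRegular I t M ((le_idealDepth_iff I M t).1 ht.le)
  let N := M ⧸ (Ideal.ofList rs • ⊤ : Submodule R M)
  obtain ⟨z, hz0, hz⟩ : ∃ z : N, z ≠ 0 ∧ ∀ a ∈ I, a • z = 0 := by
    by_contra hcon
    push Not at hcon
    have hbot : DRing.torsionSub (I.map (algebraMap R R)) N = ⊥ := by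
      rw [Algebra.algebraMap_self, Ideal.map_id, Submodule.eq_bot_iff]
      rintro x ⟨n, hn⟩
      induction n generalizing x with
      | zero => simpa using hn 1 (by simp)
      | succ n ih =>
        refine ih x fun a ha => ?_
        by_contra hne
        obtain ⟨b, hb, hb0⟩ := hcon _ hne
        exact hb0 (by rw [← mul_smul]; exact hn _ (by rw [pow_succ']; exact Ideal.mul_mem_mul hb ha))
    obtain ⟨r, hr, hreg⟩ := S11610.result R R I N hbot
    replace hreg : IsSMulRegular N r := hreg
    have happ : IsWeaklyRegular M (rs ++ [r]) := (isWeaklyRegular_append_iff M rs [r]).2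
      ⟨hrs, IsWeaklyRegular.cons hreg (IsWeaklyRegular.nil R _)⟩
    have h1 : ((t + 1 : ℕ) : ℕ∞) ≤ LocCoh.idealDepth I M := (le_idealDepth_iff _ _ _).2 fun i hi =>
      subsingleton_of_isWeaklyRegular I (rs ++ [r]) M happ
        (fun s hs => (List.mem_append.1 hs).elim (hmem s) fun h => by rwa [List.mem_singleton.1 h]) i (by simpa [hlen] using hi)
    rw [← ht, Nat.cast_le] at h1
    lia
  refine ENat.forall_natCast_le_iff_le.1 fun n hn => ?_
  rw [← ht, Nat.cast_le]
  by_contra hlt
  rw [le_idealDepth_iff] at hn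
  have hrsS : IsWeaklyRegular (S ⊗[R] M) (rs.map (algebraMap R S)) :=
    hrs.of_flat_of_isBaseChange (TensorProduct.isBaseChange R M S)
  have hmemS : ∀ r ∈ rs.map (algebraMap R S), r ∈ I.map (algebraMap R S) := fun r hr => by
    obtain ⟨a, ha, rfl⟩ := List.mem_map.1 hr
    exact Ideal.mem_map_of_mem _ (hmem a ha)
  obtain ⟨rs', hlen', hreg', hmem'⟩ := exists_isWeaklyRegular_append _ 1 _ (S ⊗[R] M) hrsS hmemS
    fun i hi => hn i (by rw [List.length_map, hlen] at hi; lia)
  obtain ⟨r, rfl⟩ := List.length_eq_one_iff.1 hlen'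
  have hreg : IsSMulRegular _ r :=
    ((isWeaklyRegular_cons_iff _ _ _).1 ((isWeaklyRegular_append_iff _ _ _).1 hreg').2).1
  let q : M →ₗ[R] N := Submodule.mkQ _
  let P : Submodule S (S ⊗[R] M) := Ideal.ofList (rs.map (algebraMap R S)) • ⊤
  let φ : S ⊗[R] M →ₗ[S] S ⊗[R] N := q.baseChange S
  have hφ : P ≤ LinearMap.ker φ := by
    refine Submodule.smul_le.2 fun b hb w _ => ?_
    rw [LinearMap.mem_ker, map_smul]
    rw [← Ideal.map_ofList] at hb
    induction hb using Submodule.span_induction with
    | mem c hc =>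
      obtain ⟨a, ha, rfl⟩ := hc
      rw [← map_smul φ, algebraMap_smul]
      induction w using TensorProduct.induction_on with
      | zero => rw [smul_zero, map_zero]
      | tmul s m =>
        rw [← TensorProduct.tmul_smul]
        show s ⊗ₜ[R] q (a • m) = 0
        rw [show q (a • m) = 0 from (Submodule.Quotient.mk_eq_zero _).2 (Submodule.smul_mem_smul ha Submodule.mem_top), TensorProduct.tmul_zero]
      | add x y hx hy => rw [smul_add, map_add, hx Submodule.mem_top, hy Submodule.mem_top, add_zero]
    | zero => exact zero_smul _ _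
    | add a b _ _ ha hb => rw [add_smul, ha, hb, add_zero]
    | smul c a _ ha => rw [smul_eq_mul, mul_smul, ha, smul_zero]
  obtain ⟨m, rfl⟩ := Submodule.Quotient.mk_surjective _ z
  have hne : (P.mkQ (1 ⊗ₜ[R] m)) ≠ 0 := fun h0 => hz0 <| by
    have h1 : (1 : S) ⊗ₜ[R] (q m) = 0 := hφ ((Submodule.Quotient.mk_eq_zero P).1 h0)
    exact (Module.FaithfullyFlat.tensorProduct_mk_injective (A := R) (B := S) N) (h1.trans (TensorProduct.tmul_zero N (1 : S)).symm)
  have hrI : r ∈ I.map (algebraMap R S) := hmem' r (by simp)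
  refine hne (hreg.right_eq_zero_of_smul ?_)
  clear hreg hreg' hne hlen' hmem'
  induction hrI using Submodule.span_induction with
  | mem c hc =>
    obtain ⟨a, ha, rfl⟩ := hc
    rw [← map_smul, algebraMap_smul, ← TensorProduct.tmul_smul]
    have ham : a • m ∈ (Ideal.ofList rs • ⊤ : Submodule R M) := (Submodule.Quotient.mk_eq_zero _).1 (hz a ha)
    refine (Submodule.Quotient.mk_eq_zero P).2 ?_
    refine Submodule.smul_induction_on ham (fun b hb w _ => ?_) fun x y hx hy => by
      rw [TensorProduct.tmul_add]; exact Submodule.add_mem _ hx hy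
    rw [TensorProduct.tmul_smul, ← algebraMap_smul S b]
    refine Submodule.smul_mem_smul ?_ Submodule.mem_top
    rw [← Ideal.map_ofList]
    exact Ideal.mem_map_of_mem _ hb
  | zero => exact zero_smul _ _
  | add a b _ _ ha hb => rw [add_smul, ha, hb, add_zero]
  | smul c a _ ha => rw [smul_eq_mul, mul_smul, ha, smul_zero]

end Groth.Agent.LocH
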