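import Mathlib
import Groth.Prelude.Def_DRing3
import Groth.Prelude.Def_W4bk5brsh7111920
import Groth.Agent.LocH.DepthMisc

/-!
Depth and adjusted depth under change of rings and localization.
-/

namespace Groth.Agent.LocH

universe u

open CategoryTheory

theorem map_maximalIdeal_of_surjective {A B : Type*} [CommRing A] [CommRing B] [IsLocalRing A] [IsLocalRing B]
    {f : A →+* B} (hf : Function.Surjective f) :
    (IsLocalRing.maximalIdeal A).map f = IsLocalRing.maximalIdeal B := by
  have hmax : ((IsLocalRing.maximalIdeal B).comap f).IsMaximal := Ideal.comap_isMaximal_of_surjective f hf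
  rw [← IsLocalRing.eq_maximalIdeal hmax, Ideal.map_comap_of_surjective f hf]

theorem depth_eq_of_surjective {A B : Type u} [CommRing A] [CommRing B] [IsLocalRing A] [IsLocalRing B]
    [IsNoetherianRing A] [IsNoetherianRing B] [Algebra A B] (hsurj : Function.Surjective (algebraMap A B))
    (M : Type u) [AddCommGroup M] [Module B M] [Module A M] [IsScalarTower A B M] [Module.Finite A M] :
    LocCoh.depth A M = LocCoh.depth B M := by
  have : Module.Finite B M := Module.Finite.of_restrictScalars_finite A B M
  unfold LocCoh.depth
  rw [idealDepth_map_eq (R' := B) (IsLocalRing.maximalIdeal A) M, map_maximalIdeal_of_surjective hsurj]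

variable {R : Type u} [CommRing R] [IsNoetherianRing R]

/-- The depth of a localization at a prime may be computed on any surjective image of the local ring. -/
theorem depth_eq_of_isLocalizedModule (M : Type u) [AddCommGroup M] [Module R M] [Module.Finite R M]
    (p : Ideal R) [p.IsPrime] (A : Type u) [CommRing A] [IsLocalRing A] [IsNoetherianRing A] [Algebra R A]
    (hunit : ∀ x : p.primeCompl, IsUnit (algebraMap R A x))
    (hsurj : ∀ a : A, ∃ (r : R) (s : p.primeCompl), a * algebraMap R A s = algebraMap R A r)
    (N : Type u) [AddCommGroup N] [Module A N] [Module R N] [IsScalarTower R A N]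
    (f : M →ₗ[R] N) [IsLocalizedModule p.primeCompl f] :
    LocCoh.depth A N = LocCoh.depth (Localization.AtPrime p) (LocalizedModule p.primeCompl M) := by
  let Rp := Localization.AtPrime p
  let φ : Rp →+* A := IsLocalization.lift (M := p.primeCompl) hunit
  algebraize [φ]
  have : IsScalarTower R Rp A := IsScalarTower.of_algebraMap_eq fun r => (IsLocalization.lift_eq hunit r).symm
  letI : Module Rp N := Module.compHom N φ
  have : IsScalarTower Rp A N := ⟨fun a b c => by rw [Algebra.smul_def, mul_smul]; rfl⟩
  have : IsScalarTower R Rp N := ⟨fun a b c => by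
    show φ (a • b) • c = a • φ b • c
    rw [Algebra.smul_def, map_mul, mul_smul, IsLocalization.lift_eq hunit, algebraMap_smul]⟩
  have hφ : Function.Surjective (algebraMap Rp A) := fun a => by
    obtain ⟨r, s, h⟩ := hsurj a
    refine ⟨IsLocalization.mk' Rp r s, ?_⟩
    refine (IsLocalization.lift_mk'_spec hunit _ _ _).2 ?_
    rw [mul_comm, h]
  let e : LocalizedModule p.primeCompl M ≃ₗ[R] N :=
    IsLocalizedModule.linearEquiv p.primeCompl (LocalizedModule.mkLinearMap p.primeCompl M) f
  let e' : LocalizedModule p.primeCompl M ≃ₗ[Rp] N := e.extendScalarsOfIsLocalization p.primeCompl Rp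
  have : Module.Finite Rp N := Module.Finite.equiv e'
  rw [← depth_eq_of_surjective hφ N]
  exact (idealDepth_congr e' _).symm

variable (M : Type u) [AddCommGroup M] [Module R M] [Module.Finite R M]

/-- Killing a submodule that vanishes at `p` does not change the depth at `p`. -/
theorem depth_quotient_eq (N : Submodule R M) (p : Ideal R) [p.IsPrime] (hN : ∀ x ∈ N, ∃ u ∉ p, u • x = 0) :
    LocCoh.depth (Localization.AtPrime p) (LocalizedModule p.primeCompl (M ⧸ N)) =
      LocCoh.depth (Localization.AtPrime p) (LocalizedModule p.primeCompl M) := by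
  let g := LocalizedModule.mkLinearMap p.primeCompl (M ⧸ N)
  have : IsLocalizedModule p.primeCompl (g.comp N.mkQ) :=
    { map_units := IsLocalizedModule.map_units g
      surj := fun z => by
        obtain ⟨⟨m, s⟩, h⟩ := IsLocalizedModule.surj p.primeCompl g z
        obtain ⟨m, rfl⟩ := N.mkQ_surjective m
        exact ⟨⟨m, s⟩, h⟩
      exists_of_eq := fun {x y} h => by
        obtain ⟨c, hc⟩ := IsLocalizedModule.exists_of_eq (S := p.primeCompl) (f := g) h
        have hmem : (c : R) • x - (c : R) • y ∈ N := by
          rw [← Submodule.Quotient.eq]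
          exact hc
        obtain ⟨u, hu, hu0⟩ := hN _ hmem
        refine ⟨⟨u, hu⟩ * c, ?_⟩
        rwa [smul_sub, sub_eq_zero, smul_smul, smul_smul] at hu0 }
  exact depth_eq_of_isLocalizedModule M p (Localization.AtPrime p)
    (fun x => IsLocalization.map_units _ x)
    (fun a => let ⟨⟨r, s⟩, h⟩ := IsLocalization.surj p.primeCompl a; ⟨r, s, h⟩) _ (g.comp N.mkQ)

theorem isLocalizedModule_comp_prime (S : Submonoid R) (P : Ideal (Localization S)) [P.IsPrime] :
    IsLocalizedModule (P.comap (algebraMap R (Localization S))).primeCompl
      (((LocalizedModule.mkLinearMap P.primeCompl (LocalizedModule S M)).restrictScalars R).comp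
        (LocalizedModule.mkLinearMap S M)) := by
  rw [isLocalizedModule_iff_isBaseChange (P.comap (algebraMap R (Localization S))).primeCompl (Localization.AtPrime P)]
  refine IsBaseChange.comp (S := Localization S) ?_ ?_
  · rw [← isLocalizedModule_iff_isBaseChange S]
    infer_instance
  · rw [← isLocalizedModule_iff_isBaseChange P.primeCompl]
    infer_instance

/-- The depth of a localized module at a prime of the localized ring. -/
theorem depth_localization_localization (S : Submonoid R) (P : Ideal (Localization S)) [P.IsPrime] :
    LocCoh.depth (Localization.AtPrime P) (LocalizedModule P.primeCompl (LocalizedModule S M)) =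
      LocCoh.depth (Localization.AtPrime (P.comap (algebraMap R (Localization S))))
        (LocalizedModule (P.comap (algebraMap R (Localization S))).primeCompl M) := by
  have := isLocalizedModule_comp_prime M S P
  exact depth_eq_of_isLocalizedModule M (P.comap (algebraMap R (Localization S))) (Localization.AtPrime P)
    (fun x => IsLocalization.map_units _ x)
    (fun a => let ⟨⟨r, s⟩, h⟩ := IsLocalization.surj (P.comap (algebraMap R (Localization S))).primeCompl a; ⟨r, s, h⟩)
    _ (((LocalizedModule.mkLinearMap P.primeCompl (LocalizedModule S M)).restrictScalars R).comp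
        (LocalizedModule.mkLinearMap S M))

/-- An associated prime gives depth zero. -/
theorem depth_eq_zero_of_associated {q : Ideal R} [hq : q.IsPrime] (h : q ∈ associatedPrimes R M) :
    LocCoh.depth (Localization.AtPrime q) (LocalizedModule q.primeCompl M) = 0 := by
  obtain ⟨-, y, hy⟩ := (isAssociatedPrime_iff_exists_injective_linearMap q M).1 h
  refine ENat.lt_one_iff_eq_zero.1 (lt_of_not_ge fun h1 => ?_)
  have h0 := torsionSub_eq_bot_of_subsingleton
    ((le_idealDepth_iff _ (LocalizedModule q.primeCompl M) 1).1 (by exact_mod_cast h1) 0 one_pos)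
  let m : M := y (Ideal.Quotient.mk q 1)
  have hkill : ∀ a ∈ q, a • m = 0 := fun a ha => by
    show a • y (Ideal.Quotient.mk q 1) = 0
    rw [← map_smul, ← Ideal.Quotient.mk_eq_mk, ← Submodule.Quotient.mk_smul, smul_eq_mul, mul_one,
      (Submodule.Quotient.mk_eq_zero _).2 ha, map_zero]
  let f := LocalizedModule.mkLinearMap q.primeCompl M
  have hm : f m ∈ DRing.torsionSub (IsLocalRing.maximalIdeal (Localization.AtPrime q)) (LocalizedModule q.primeCompl M) := by
    refine ⟨1, fun a ha => ?_⟩
    rw [pow_one, ← IsLocalization.AtPrime.map_eq_maximalIdeal q] at ha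
    induction ha using Submodule.span_induction with
    | mem c hc =>
      obtain ⟨r, hr, rfl⟩ := hc
      rw [algebraMap_smul, ← map_smul, hkill r hr, map_zero]
    | zero => exact zero_smul _ _
    | add a b _ _ ha hb => rw [add_smul, ha, hb, add_zero]
    | smul c a _ ha => rw [smul_eq_mul, mul_smul, ha, smul_zero]
  rw [h0, Submodule.mem_bot] at hm
  obtain ⟨c, hc⟩ := (IsLocalizedModule.eq_zero_iff q.primeCompl f).1 hm
  have h2 : y (Ideal.Quotient.mk q (c : R)) = 0 := by
    have e : (c : R) • m = 0 := hc
    rw [show Ideal.Quotient.mk q (c : R) = (c : R) • Ideal.Quotient.mk q 1 by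
      rw [← Ideal.Quotient.mk_eq_mk, ← Ideal.Quotient.mk_eq_mk, ← Submodule.Quotient.mk_smul, smul_eq_mul, mul_one],
      map_smul]
    exact e
  exact c.2 (Ideal.Quotient.eq_zero_iff_mem.1 (hy (h2.trans (map_zero y).symm)))

omit [IsNoetherianRing R] in
/-- Heights of a sum with a prime increase under localization. -/
theorem height_le_height_localization (S : Submonoid R) (a p : Ideal R) (P : Ideal (Localization S))
    (hP : P = p.map (algebraMap R (Localization S))) :
    ((a ⊔ p).map (Ideal.Quotient.mk p)).height ≤
      ((a.map (algebraMap R (Localization S)) ⊔ P).map (Ideal.Quotient.mk P)).height := by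
  subst hP
  rw [← IsLocalization.height_under (Algebra.algebraMapSubmonoid (R ⧸ p) S)
    ((a.map (algebraMap R (Localization S)) ⊔ p.map (algebraMap R (Localization S))).map
      (Ideal.Quotient.mk (p.map (algebraMap R (Localization S)))))]
  refine Ideal.height_mono ?_
  rw [Ideal.map_le_iff_le_comap]
  intro x hx
  show (Ideal.Quotient.mk (p.map (algebraMap R (Localization S)))) (algebraMap R (Localization S) x) ∈
    (a.map (algebraMap R (Localization S)) ⊔ p.map (algebraMap R (Localization S))).map
      (Ideal.Quotient.mk (p.map (algebraMap R (Localization S))))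
  refine Ideal.mem_map_of_mem _ ?_
  rw [← Ideal.map_sup]
  exact Ideal.mem_map_of_mem _ hx

end Groth.Agent.LocH
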