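import Mathlib
import Groth.Prelude.Def_DualLC
import Groth.Agent.LocH.CompareLE
import Groth.Agent.LocH.Vanishing
import Groth.Agent.LocH.Sequence

/-!
Local cohomology and inverting one element `b`: `H^i_a(M_b) = H^i_a(M)_b`, the image of
`H^i_{a+(b)} → H^i_a` is the `b`-power torsion and the kernel one degree up is the cokernel of
`H^i_a(M) → H^i_a(M)_b`.
-/

namespace Groth.Agent.LocH

universe u

open CategoryTheory CategoryTheory.Limits

variable {R : Type u} [CommRing R]

theorem map_smul_id (I : Ideal R) (i : ℕ) (r : R) (M : ModuleCat.{u} R)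
    (x : ↑((localCohomology I i).obj M)) : (localCohomology I i).map (r • 𝟙 M) x = r • x := by
  obtain ⟨n, α, rfl⟩ := exists_hι x
  rw [map_hι, Abelian.Ext.mk₀_smul, Abelian.Ext.comp_smul, Abelian.Ext.comp_mk₀_id, map_smul]

theorem map_injective_zero (I : Ideal R) {M N : ModuleCat.{u} R} (f : M ⟶ N)
    (hf : Function.Injective f.hom) : Function.Injective ((localCohomology I 0).map f).hom := by
  have : PreservesFiniteLimits (localCohomology I 0) :=
    preservesFiniteLimits_of_natIso (zeroIso I).symm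
  have : Mono f := (ModuleCat.mono_iff_injective _).2 hf
  exact (ModuleCat.mono_iff_injective _).1 inferInstance

variable [IsNoetherianRing R]

theorem exists_pow_smul_eq_zero (I : Ideal R) (i : ℕ) (b : R) (M : ModuleCat.{u} R)
    (hM : ∀ m : M, ∃ n : ℕ, b ^ n • m = 0) (x : ↑((localCohomology I i).obj M)) :
    ∃ n : ℕ, b ^ n • x = 0 := by
  obtain ⟨M₀, hM₀, y, rfl⟩ := exists_fg_map_eq M i x
  have hn : ∃ n : ℕ, ∀ m ∈ M₀, b ^ n • m = 0 := by
    obtain ⟨G, hG⟩ := hM₀
    choose n hn using hM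
    refine ⟨G.sup n, fun m hm => ?_⟩
    rw [← hG] at hm
    induction hm using Submodule.span_induction with
    | mem c hc =>
      rw [← Nat.sub_add_cancel (Finset.le_sup hc : n c ≤ G.sup n), pow_add, mul_smul, hn, smul_zero]
    | zero => rw [smul_zero]
    | add c d _ _ hc hd => rw [smul_add, hc, hd, add_zero]
    | smul r c _ hc => rw [smul_comm, hc, smul_zero]
  obtain ⟨n, hn⟩ := hn
  refine ⟨n, ?_⟩
  rw [← map_smul, smul_eq_zero_of_smul_eq_zero (fun m : M₀ => Subtype.ext (hn m.1 m.2)) i y, map_zero]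

/-- `H^i_I` commutes with inverting `b`. -/
theorem isLocalizedModule_map (I : Ideal R) (i : ℕ) (b : R) {M L : ModuleCat.{u} R} (f : M ⟶ L)
    [IsLocalizedModule (Submonoid.powers b) f.hom] :
    IsLocalizedModule (Submonoid.powers b) ((localCohomology I i).map f).hom := by
  set H := localCohomology I i with hH
  let S₁ : ShortComplex (ModuleCat.{u} R) :=
    ShortComplex.mk (X₁ := ModuleCat.of R (LinearMap.ker f.hom)) (X₂ := M)
      (X₃ := ModuleCat.of R (LinearMap.range f.hom)) (ModuleCat.ofHom (LinearMap.ker f.hom).subtype)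
      (ModuleCat.ofHom f.hom.rangeRestrict) (by ext x; exact x.2)
  let S₂ : ShortComplex (ModuleCat.{u} R) :=
    ShortComplex.mk (X₁ := ModuleCat.of R (LinearMap.range f.hom)) (X₂ := L)
      (X₃ := ModuleCat.of R (L ⧸ LinearMap.range f.hom)) (ModuleCat.ofHom (LinearMap.range f.hom).subtype)
      (ModuleCat.ofHom (LinearMap.range f.hom).mkQ)
      (by ext x; exact (Submodule.Quotient.mk_eq_zero _).2 x.2)
  have hS₁ : S₁.ShortExact :=
    { exact := by
        rw [ShortComplex.moduleCat_exact_iff]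
        intro y hy
        exact ⟨⟨y, congrArg Subtype.val hy⟩, rfl⟩
      mono_f := (ModuleCat.mono_iff_injective _).2 (LinearMap.ker f.hom).injective_subtype
      epi_g := (ModuleCat.epi_iff_surjective _).2 f.hom.surjective_rangeRestrict }
  have hS₂ : S₂.ShortExact :=
    { exact := by
        rw [ShortComplex.moduleCat_exact_iff]
        intro y hy
        exact ⟨⟨y, (Submodule.Quotient.mk_eq_zero _).1 hy⟩, rfl⟩
      mono_f := (ModuleCat.mono_iff_injective _).2 (LinearMap.range f.hom).injective_subtype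
      epi_g := (ModuleCat.epi_iff_surjective _).2 (Submodule.mkQ_surjective _) }
  have hK : ∀ m : (LinearMap.ker f.hom), ∃ n : ℕ, b ^ n • m = 0 := fun m => by
    obtain ⟨⟨_, n, rfl⟩, hn⟩ :=
      (IsLocalizedModule.eq_zero_iff (Submonoid.powers b) f.hom).1 m.2
    exact ⟨n, Subtype.ext hn⟩
  have hT : ∀ m : (L ⧸ LinearMap.range f.hom), ∃ n : ℕ, b ^ n • m = 0 := fun m => by
    obtain ⟨l, rfl⟩ := Submodule.mkQ_surjective _ m
    obtain ⟨⟨m, ⟨_, n, rfl⟩⟩, hn⟩ := IsLocalizedModule.surj (Submonoid.powers b) f.hom l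
    exact ⟨n, (Submodule.Quotient.mk_eq_zero _).2 ⟨m, hn.symm⟩⟩
  have hfac : ∀ x, H.map f x = H.map S₂.f (H.map S₁.g x) := fun x => by
    rw [← ConcreteCategory.comp_apply, ← H.map_comp]
    rfl
  constructor
  · rintro ⟨c, hc⟩
    rw [Module.End.isUnit_iff]
    have hu : IsIso (c • 𝟙 L) := (ConcreteCategory.isIso_iff_bijective _).2
      ((Module.End.isUnit_iff _).1 (IsLocalizedModule.map_units f.hom ⟨c, hc⟩))
    have h2 := (ConcreteCategory.isIso_iff_bijective (H.map (c • 𝟙 L))).1 inferInstance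
    have e : (⇑(H.map (c • 𝟙 L))) = fun x => c • x := funext fun x => map_smul_id I i c L x
    rw [e] at h2
    exact h2
  · intro y
    obtain ⟨n, hn⟩ := exists_pow_smul_eq_zero I i b S₂.X₃ hT (H.map S₂.g y)
    obtain ⟨z, hz⟩ := exact₂ hS₂ i (x := b ^ n • y) (by rw [map_smul, hn])
    obtain ⟨m, hm⟩ := exists_pow_smul_eq_zero I (i + 1) b S₁.X₁ hK (delta hS₁ i z)
    obtain ⟨x, hx⟩ := exact₃ hS₁ i (x := b ^ m • z) (by rw [map_smul, hm])
    refine ⟨⟨x, ⟨b ^ (m + n), m + n, rfl⟩⟩, ?_⟩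
    show b ^ (m + n) • y = H.map f x
    rw [hfac, hx, map_smul, hz, pow_add, mul_smul]
  · intro x₁ x₂ h
    have h0 : H.map S₂.f (H.map S₁.g (x₁ - x₂)) = 0 := by
      rw [← hfac, map_sub]
      exact sub_eq_zero.2 h
    have h1 : ∃ n : ℕ, H.map S₁.g (b ^ n • (x₁ - x₂)) = 0 := by
      cases i with
      | zero =>
        exact ⟨0, by
          rw [pow_zero, one_smul]
          exact map_injective_zero I S₂.f (LinearMap.range f.hom).injective_subtype
            (h0.trans (map_zero _).symm)⟩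
      | succ j =>
        obtain ⟨w, hw⟩ := exact₁ hS₂ j h0
        obtain ⟨n, hn⟩ := exists_pow_smul_eq_zero I j b S₂.X₃ hT w
        refine ⟨n, ?_⟩
        rw [map_smul, ← hw, ← map_smul, hn, map_zero]
    obtain ⟨n, hn⟩ := h1
    obtain ⟨k, hk⟩ := exact₂ hS₁ i hn
    obtain ⟨m, hm⟩ := exists_pow_smul_eq_zero I i b S₁.X₁ hK k
    refine ⟨⟨b ^ (m + n), m + n, rfl⟩, ?_⟩
    show b ^ (m + n) • x₁ = b ^ (m + n) • x₂
    rw [← sub_eq_zero, ← smul_sub, pow_add, mul_smul, ← hk, ← map_smul, hm, map_zero]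

section Resolution

variable {M : ModuleCat.{u} R} (J : InjectiveResolution M) (a : Ideal R) (b : R)

omit [IsNoetherianRing R] in
theorem boundary_le (i : ℕ) : boundary J a i ≤ DRing.torsionSub a (J.cocomplex.X i) := by
  cases i with
  | zero => exact bot_le
  | succ k =>
    rintro _ ⟨w, ⟨n, hn⟩, rfl⟩
    exact ⟨n, fun c hc => by rw [← map_smul, hn c hc, map_zero]⟩

omit [IsNoetherianRing R] in
theorem mem_torsionSub_sup_span {i : ℕ} {x : J.cocomplex.X i}
    (hx : x ∈ DRing.torsionSub a (J.cocomplex.X i)) {n : ℕ} (hn : b ^ n • x = 0) :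
    x ∈ DRing.torsionSub (a ⊔ Ideal.span {b}) (J.cocomplex.X i) :=
  torsionSub_sup hx (mem_torsionSub_span_singleton_iff.2 ⟨n, hn⟩)

omit [IsNoetherianRing R] in
theorem exists_pow_smul_of_mem {i : ℕ} {x : J.cocomplex.X i}
    (hx : x ∈ DRing.torsionSub (a ⊔ Ideal.span {b}) (J.cocomplex.X i)) : ∃ n : ℕ, b ^ n • x = 0 :=
  mem_torsionSub_span_singleton_iff.1 (torsionSub_anti le_sup_right _ hx)

/-- Dividing boundaries by `b`. -/
theorem exists_boundary_correction {i : ℕ} {y : J.cocomplex.X i}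
    (hy : y ∈ DRing.torsionSub a (J.cocomplex.X i)) {n : ℕ} (h : b ^ n • y ∈ boundary J a i) :
    ∃ c ∈ boundary J a i, y - c ∈ DRing.torsionSub (a ⊔ Ideal.span {b}) (J.cocomplex.X i) := by
  cases i with
  | zero =>
    refine ⟨0, Submodule.zero_mem _, ?_⟩
    rw [sub_zero]
    exact mem_torsionSub_sup_span J a b hy ((Submodule.mem_bot R).1 h)
  | succ k =>
    obtain ⟨w, hw, e⟩ := h
    obtain ⟨v, m, hv⟩ := exists_killed_correction (divModTors_resolution J a b k)
      ((J.cocomplex.d k (k + 1)).hom.comp (DRing.torsionSub a (J.cocomplex.X k)).subtype)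
      (z := ⟨w, hw⟩) (n := n) (y₀ := y) e
    exact ⟨_, ⟨v.1, v.2, rfl⟩,
      mem_torsionSub_sup_span J a b (Submodule.sub_mem _ hy (boundary_le J a _ ⟨v.1, v.2, rfl⟩)) hv⟩

include J in
theorem mem_range_HmapOfLE_iff (i : ℕ) (x : ↑((localCohomology a i).obj M)) :
    x ∈ LinearMap.range ((Dual2.HmapOfLE (le_sup_left : a ≤ a ⊔ Ideal.span {b}) i).app M).hom ↔
      ∃ n : ℕ, b ^ n • x = 0 := by
  constructor
  · rintro ⟨y, rfl⟩
    obtain ⟨n, hn⟩ := isPowerTorsion (a ⊔ Ideal.span {b}) i M y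
    refine ⟨n, ?_⟩
    rw [← map_smul, hn _ (Ideal.pow_mem_pow (Ideal.mem_sup_right (Ideal.mem_span_singleton_self b)) n),
      map_zero]
  · rintro ⟨n, hn⟩
    obtain ⟨z, rfl⟩ := cyclesToH_surjective J i x
    rw [← map_smul, cyclesToH_eq_zero_iff_mem] at hn
    have e : cycleVal J i (b ^ n • z) = b ^ n • cycleVal J i z :=
      (congrArg _ (map_smul _ _ z)).trans (map_smul _ _ _)
    obtain ⟨c, hc, ht⟩ := exists_boundary_correction J a b
      ((gammaComplex J a).iCycles i z).2 (n := n) (e ▸ hn)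
    have hd : J.cocomplex.d i (i + 1) (cycleVal J i z - c) = 0 := by
      rw [map_sub, d_cycleVal, d_boundary J a hc, sub_zero]
    obtain ⟨z', hz'⟩ := exists_cycle J i _ ht hd
    obtain ⟨z'', hz''⟩ := exists_cycle (I := a) J i _ (torsionSub_anti le_sup_left _ ht) hd
    refine ⟨cyclesToH J i z', ?_⟩
    show (Dual2.HmapOfLE _ i).app M (cyclesToH J i z') = cyclesToH J i z
    rw [HmapOfLE_cyclesToH (le_sup_left : a ≤ a ⊔ Ideal.span {b}) J i z' z'' (hz''.trans hz'.symm),
      ← sub_eq_zero, ← map_sub, cyclesToH_eq_zero_iff_mem]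
    have e2 : cycleVal J i (z'' - z) = -c := by
      refine ((congrArg _ (map_sub _ z'' z)).trans (map_sub _ _ _)).trans ?_
      show cycleVal J i z'' - cycleVal J i z = -c
      rw [hz'']
      exact sub_sub_cancel_left (cycleVal J i z) c
    rw [e2]
    exact Submodule.neg_mem _ hc

omit [IsNoetherianRing R] in
/-- A linear family of cycles. -/
theorem exists_cycleLift {V : Type u} [AddCommGroup V] [Module R V] (I : Ideal R) (i : ℕ)
    (g : V →ₗ[R] J.cocomplex.X i) (hg : ∀ v, g v ∈ DRing.torsionSub I (J.cocomplex.X i))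
    (hd : ∀ v, J.cocomplex.d i (i + 1) (g v) = 0) :
    ∃ G : V →ₗ[R] ↑((gammaComplex J I).cycles i), ∀ v, cycleVal J i (G v) = g v := by
  choose G hG using fun v => exists_cycle J i (g v) (hg v) (hd v)
  refine ⟨{ toFun := G, map_add' := fun v w => cycleVal_injective J i ?_,
            map_smul' := fun r v => cycleVal_injective J i ?_ }, hG⟩
  · refine (hG _).trans (Eq.trans ?_ ((congrArg _ (map_add _ _ _)).trans (map_add _ _ _)).symm)
    rw [map_add, ← hG v, ← hG w]
    rfl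
  · refine (hG _).trans (Eq.trans ?_ ((congrArg _ (map_smul _ _ _)).trans (map_smul _ _ _)).symm)
    rw [map_smul, ← hG v]
    rfl

include J in
theorem nonempty_coker_equiv_ker (i : ℕ) {L : Type u} [AddCommGroup L] [Module R L]
    (f : ↑((localCohomology a i).obj M) →ₗ[R] L) [IsLocalizedModule (Submonoid.powers b) f] :
    Nonempty ((L ⧸ LinearMap.range f) ≃ₗ[R] LinearMap.ker
      ((Dual2.HmapOfLE (le_sup_left : a ≤ a ⊔ Ideal.span {b}) (i + 1)).app M).hom) := by
  let V : Submodule R (J.cocomplex.X i) := DRing.torsionSub a (J.cocomplex.X i) ⊓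
    (DRing.torsionSub (Ideal.span {b}) (J.cocomplex.X (i + 1))).comap (J.cocomplex.d i (i + 1)).hom
  have hdV : ∀ v : V, J.cocomplex.d i (i + 1) v.1 ∈
      DRing.torsionSub (a ⊔ Ideal.span {b}) (J.cocomplex.X (i + 1)) := fun v =>
    torsionSub_sup (by obtain ⟨n, hn⟩ := v.2.1; exact ⟨n, fun c hc => by rw [← map_smul, hn c hc, map_zero]⟩)
      v.2.2
  have hdd : ∀ v : V, J.cocomplex.d (i + 1) (i + 1 + 1) (J.cocomplex.d i (i + 1) v.1) = 0 := fun v => by
    rw [← ConcreteCategory.comp_apply, J.cocomplex.d_comp_d]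
    rfl
  obtain ⟨G, hG⟩ := exists_cycleLift J (a ⊔ Ideal.span {b}) (i + 1)
    ((J.cocomplex.d i (i + 1)).hom.comp V.subtype) hdV hdd
  let P : V →ₗ[R] ↑((localCohomology (a ⊔ Ideal.span {b}) (i + 1)).obj M) := (cyclesToH J (i + 1)).comp G
  have hsm : ∀ {I : Ideal R} (z : ↑((gammaComplex J I).cycles i)) (r : R),
      cycleVal J i (r • z) = r • cycleVal J i z := fun z r =>
    (congrArg _ (map_smul _ r z)).trans (map_smul _ _ _)
  have cancel : ∀ (n : ℕ) {y y' : L}, b ^ n • y = b ^ n • y' → y = y' := fun n _ _ h =>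
    IsLocalizedModule.smul_injective f (⟨b ^ n, n, rfl⟩ : Submonoid.powers b) h
  have hex : ∀ v : V, ∃ y : L, ∀ (n : ℕ) (z : ↑((gammaComplex J a).cycles i)),
      cycleVal J i z = b ^ n • v.1 → b ^ n • y = f (cyclesToH J i z) := fun v => by
    obtain ⟨n₀, hn₀⟩ := mem_torsionSub_span_singleton_iff.1 v.2.2
    obtain ⟨z₀, hz₀⟩ := exists_cycle (I := a) J i (b ^ n₀ • v.1) (Submodule.smul_mem _ _ v.2.1)
      (by rw [map_smul]; exact hn₀)
    refine ⟨IsLocalizedModule.mk' f (cyclesToH J i z₀) (⟨b ^ n₀, n₀, rfl⟩ : Submonoid.powers b),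
      fun n z hz => cancel n₀ ?_⟩
    rw [smul_comm, ← map_smul f (b ^ n₀), ← map_smul (cyclesToH J i) (b ^ n₀)]
    refine (congrArg (b ^ n • ·) (IsLocalizedModule.mk'_cancel' f (cyclesToH J i z₀)
      (⟨b ^ n₀, n₀, rfl⟩ : Submonoid.powers b))).trans ?_
    show b ^ n • f (cyclesToH J i z₀) = _
    rw [← map_smul, ← map_smul, show b ^ n • z₀ = b ^ n₀ • z from cycleVal_injective J i
      (by rw [hsm, hsm, hz₀, hz, smul_comm])]
  choose q hq using hex
  have hcyc : ∀ v : V, ∀ k : ℕ, ∃ n, k ≤ n ∧ ∃ z : ↑((gammaComplex J a).cycles i),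
      cycleVal J i z = b ^ n • v.1 := fun v k => by
    obtain ⟨n₀, hn₀⟩ := mem_torsionSub_span_singleton_iff.1 v.2.2
    refine ⟨k + n₀, le_self_add, exists_cycle (I := a) J i _ (Submodule.smul_mem _ _ v.2.1) ?_⟩
    rw [map_smul, pow_add, mul_smul]
    exact (congrArg (b ^ k • ·) hn₀).trans (smul_zero _)
  have raise : ∀ (v : V) (n m : ℕ), n ≤ m → (∃ z : ↑((gammaComplex J a).cycles i),
      cycleVal J i z = b ^ n • v.1) → ∃ z : ↑((gammaComplex J a).cycles i),
      cycleVal J i z = b ^ m • v.1 := fun v n m hnm ⟨z, hz⟩ =>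
    ⟨b ^ (m - n) • z, by rw [hsm, hz, smul_smul, ← pow_add, Nat.sub_add_cancel hnm]⟩
  let Q : V →ₗ[R] L :=
    { toFun := q
      map_add' := fun v w => by
        obtain ⟨n, -, hn⟩ := hcyc v 0
        obtain ⟨m, -, hm⟩ := hcyc w 0
        obtain ⟨z₁, h₁⟩ := raise v n (n + m) le_self_add hn
        obtain ⟨z₂, h₂⟩ := raise w m (n + m) le_add_self hm
        refine cancel (n + m) ?_
        rw [hq (v + w) _ (z₁ + z₂) (((congrArg _ (map_add _ z₁ z₂)).trans (map_add _ _ _)).trans
          ((congrArg₂ (· + ·) h₁ h₂).trans (smul_add _ _ _).symm)), smul_add, hq v _ z₁ h₁, hq w _ z₂ h₂,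
          map_add, map_add]
      map_smul' := fun r v => by
        obtain ⟨n, -, z, hz⟩ := hcyc v 0
        refine cancel n ?_
        rw [RingHom.id_apply, smul_comm _ r, hq v n z hz,
          hq (r • v) n (r • z) (by rw [hsm, hz, smul_comm]; rfl), map_smul, map_smul] }
  have hQsurj : Function.Surjective ((LinearMap.range f).mkQ.comp Q) := by
    intro y'
    obtain ⟨y, rfl⟩ := Submodule.mkQ_surjective _ y'
    obtain ⟨⟨x, ⟨_, n, rfl⟩⟩, hx⟩ := IsLocalizedModule.surj (Submonoid.powers b) f y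
    obtain ⟨z, rfl⟩ := cyclesToH_surjective J i x
    obtain ⟨v, m, hv⟩ := divModTors_resolution J a b i n ((gammaComplex J a).iCycles i z)
    have hv' : b ^ m • b ^ n • v.1 = b ^ m • cycleVal J i z := by
      have h := congrArg Subtype.val hv
      change b ^ m • (b ^ n • v.1 - cycleVal J i z) = 0 at h
      rw [smul_sub, sub_eq_zero] at h
      exact h
    refine ⟨⟨v.1, v.2, mem_torsionSub_span_singleton_iff.2 ⟨m + n, ?_⟩⟩, ?_⟩
    · rw [← map_smul, pow_add, mul_smul, hv', map_smul, d_cycleVal, smul_zero]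
    · show Submodule.Quotient.mk (q _) = Submodule.Quotient.mk y
      refine congrArg _ (cancel (m + n) ?_)
      rw [hq _ (m + n) (b ^ m • z) (by rw [hsm]; exact hv'.symm.trans ((smul_smul _ _ _).trans (congrArg (· • v.1) (pow_add b m n).symm)))]
      refine Eq.trans ?_ (smul_smul (b ^ m) (b ^ n) y |>.trans (by rw [pow_add]))
      rw [map_smul, map_smul]
      exact congrArg (b ^ m • ·) hx.symm
  have hP : LinearMap.range P = LinearMap.ker
      ((Dual2.HmapOfLE (le_sup_left : a ≤ a ⊔ Ideal.span {b}) (i + 1)).app M).hom := by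
    apply le_antisymm
    · rintro _ ⟨v, rfl⟩
      obtain ⟨z, hz⟩ := exists_cycle (I := a) J (i + 1) (J.cocomplex.d i (i + 1) v.1)
        (torsionSub_anti le_sup_left _ (hdV v)) (hdd v)
      show (Dual2.HmapOfLE _ (i + 1)).app M (cyclesToH J (i + 1) (G v)) = 0
      rw [HmapOfLE_cyclesToH (le_sup_left : a ≤ a ⊔ Ideal.span {b}) J (i + 1) (G v) z
        (hz.trans (hG v).symm), cyclesToH_eq_zero_iff_mem, hz]
      exact ⟨v.1, v.2.1, rfl⟩
    · intro β hβ
      obtain ⟨z', rfl⟩ := cyclesToH_surjective J (i + 1) β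
      have ht : cycleVal J (i + 1) z' ∈ DRing.torsionSub (a ⊔ Ideal.span {b}) (J.cocomplex.X (i + 1)) :=
        ((gammaComplex J _).iCycles (i + 1) z').2
      obtain ⟨z, hz⟩ := exists_cycle (I := a) J (i + 1) (cycleVal J (i + 1) z')
        (torsionSub_anti le_sup_left _ ht) (d_cycleVal J _ z')
      change (Dual2.HmapOfLE _ (i + 1)).app M (cyclesToH J (i + 1) z') = 0 at hβ
      rw [HmapOfLE_cyclesToH (le_sup_left : a ≤ a ⊔ Ideal.span {b}) J (i + 1) z' z hz,
        cyclesToH_eq_zero_iff_mem, hz] at hβ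
      obtain ⟨w, hw, e⟩ := hβ
      refine ⟨⟨w, hw, show J.cocomplex.d i (i + 1) w ∈ _ from e ▸ torsionSub_anti le_sup_right _ ht⟩, ?_⟩
      refine congrArg (cyclesToH J (i + 1)) (cycleVal_injective J _ ?_)
      rw [hG]
      exact e
  have hker : LinearMap.ker ((LinearMap.range f).mkQ.comp Q) = LinearMap.ker P := by
    ext v
    rw [LinearMap.mem_ker, LinearMap.mem_ker, LinearMap.comp_apply, Submodule.mkQ_apply,
      Submodule.Quotient.mk_eq_zero]
    show q v ∈ LinearMap.range f ↔ cyclesToH J (i + 1) (G v) = 0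
    rw [cyclesToH_eq_zero_iff_mem, hG]
    constructor
    · rintro ⟨x, hx⟩
      obtain ⟨z, rfl⟩ := cyclesToH_surjective J i x
      obtain ⟨n, -, z₀, hz₀⟩ := hcyc v 0
      have h1 := hq v n z₀ hz₀
      rw [← hx, ← map_smul] at h1
      obtain ⟨⟨_, m, rfl⟩, hm⟩ := IsLocalizedModule.exists_of_eq (S := Submonoid.powers b) h1
      change b ^ m • b ^ n • cyclesToH J i z = b ^ m • cyclesToH J i z₀ at hm
      rw [← sub_eq_zero, ← smul_sub, ← map_smul, ← map_sub, ← map_smul, cyclesToH_eq_zero_iff_mem, hsm] at hm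
      have e : cycleVal J i (b ^ n • z - z₀) = b ^ n • (cycleVal J i z - v.1) := by
        refine ((congrArg _ (map_sub _ _ z₀)).trans (map_sub _ _ _)).trans ?_
        show cycleVal J i (b ^ n • z) - cycleVal J i z₀ = _
        rw [hsm, hz₀, smul_sub]
      rw [e, smul_smul, ← pow_add] at hm
      obtain ⟨c, hc, ht⟩ := exists_boundary_correction J a b
        (Submodule.sub_mem _ ((gammaComplex J a).iCycles i z).2 v.2.1) hm
      refine ⟨-(cycleVal J i z - v.1 - c), Submodule.neg_mem _ ht, ?_⟩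
      show J.cocomplex.d i (i + 1) (-(cycleVal J i z - v.1 - c)) = J.cocomplex.d i (i + 1) v.1
      rw [map_neg, map_sub, map_sub, d_cycleVal, d_boundary J a hc, zero_sub, sub_zero, neg_neg]
    · rintro ⟨s, hs, e⟩
      obtain ⟨n, hn⟩ := exists_pow_smul_of_mem J a b hs
      obtain ⟨z, hz⟩ := exists_cycle (I := a) J i (v.1 - s)
        (Submodule.sub_mem _ v.2.1 (torsionSub_anti le_sup_left _ hs))
        (by rw [map_sub, sub_eq_zero]; exact e.symm)
      refine ⟨cyclesToH J i z, cancel n ?_⟩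
      rw [hq v n (b ^ n • z) (by rw [hsm, hz, smul_sub, hn, sub_zero]), map_smul, map_smul]
  exact ⟨(LinearMap.quotKerEquivOfSurjective _ hQsurj).symm ≪≫ₗ Submodule.quotEquivOfEq _ _ hker ≪≫ₗ
    P.quotKerEquivRange ≪≫ₗ LinearEquiv.ofEq _ _ hP⟩

end Resolution

end Groth.Agent.LocH
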