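import Mathlib
import Groth.Prelude.Def_EGA4c
import Groth.Agent.LocH.Depth

/-!
Sections of `M~` off a closed subset, and depth two.
-/

namespace Groth.Agent.LocH

universe u

open AlgebraicGeometry CategoryTheory Opposite TopologicalSpace

variable (A : Type u) [CommRing A] (J : Ideal A) (M : Type u) [AddCommGroup M] [Module A M]

/-- The sheaf of `A`-modules attached to `M`. -/
noncomputable abbrev secSheaf : TopCat.Sheaf (ModuleCat A) (Spec (CommRingCat.of A)) :=
  (modulesSpecToSheaf (R := CommRingCat.of A)).obj (EGA4.tildeOf A M)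

/-- Sections over an open set. -/
abbrev Sec (U : (Spec (CommRingCat.of A)).Opens) : Type u := (secSheaf A M).obj.obj (op U)

/-- An element as a section. -/
noncomputable abbrev secOf (U : (Spec (CommRingCat.of A)).Opens) : M →ₗ[A] Sec A M U :=
  (tilde.toOpen (R := CommRingCat.of A) (ModuleCat.of (CommRingCat.of A) M) U).hom

/-- Restriction of sections. -/
noncomputable abbrev secRes {U V : (Spec (CommRingCat.of A)).Opens} (h : V ≤ U) : Sec A M U →ₗ[A] Sec A M V :=
  ((secSheaf A M).obj.map (homOfLE h).op).hom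

variable {A M}

theorem secRes_secOf {U V : (Spec (CommRingCat.of A)).Opens} (h : V ≤ U) (m : M) :
    secRes A M h (secOf A M U m) = secOf A M V m := rfl

theorem secRes_secRes {U V W : (Spec (CommRingCat.of A)).Opens} (h : V ≤ U) (h' : W ≤ V) (t : Sec A M U) :
    secRes A M h' (secRes A M h t) = secRes A M (h'.trans h) t :=
  (congrArg (fun φ => φ t) ((secSheaf A M).obj.map_comp (homOfLE h).op (homOfLE h').op)).symm

instance isLocalizedModule_secOf (f : A) :
    IsLocalizedModule (Submonoid.powers f) (secOf A M (PrimeSpectrum.basicOpen f)) :=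
  tilde.instAwayCarrierCarrierObjOppositeOpensCarrierCarrierCommRingCatSpecModuleCatPresheafModulesSheafModulesSpecToSheafOpBasicOpenHomToOpen
    (R := CommRingCat.of A) (ModuleCat.of (CommRingCat.of A) M) f

theorem sec_ext {U : (Spec (CommRingCat.of A)).Opens} {s t : Sec A M U}
    (h : ∀ x ∈ U, ∃ (f : A) (hf : PrimeSpectrum.basicOpen f ≤ U),
      x ∈ PrimeSpectrum.basicOpen f ∧ secRes A M hf s = secRes A M hf t) : s = t :=
  TopCat.Presheaf.IsSheaf.section_ext (secSheaf A M).2 fun x hx =>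
    let ⟨f, hf, hxf, e⟩ := h x hx
    ⟨PrimeSpectrum.basicOpen f, hf, hxf, e⟩

theorem exists_basicOpen_le {U : (Spec (CommRingCat.of A)).Opens} {x : Spec (CommRingCat.of A)} (hx : x ∈ U) :
    ∃ f : A, x ∈ PrimeSpectrum.basicOpen f ∧ PrimeSpectrum.basicOpen f ≤ U := by
  obtain ⟨_, ⟨_, ⟨f, rfl⟩, rfl⟩, hxf, hfU⟩ :=
    PrimeSpectrum.isBasis_basic_opens.exists_subset_of_mem_open hx U.2
  exact ⟨f, hxf, hfU⟩

theorem smul_injective_sec {x : A} (hx : IsSMulRegular M x) (U : (Spec (CommRingCat.of A)).Opens) :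
    IsSMulRegular (Sec A M U) x := by
  refine (isSMulRegular_iff_right_eq_zero_of_smul).2 fun t ht => sec_ext fun y hy => ?_
  obtain ⟨f, hyf, hfU⟩ := exists_basicOpen_le hy
  refine ⟨f, hfU, hyf, ?_⟩
  rw [map_zero]
  have h0 : x • secRes A M hfU t = 0 := by rw [← map_smul, ht, map_zero]
  obtain ⟨⟨n, c⟩, hc⟩ := IsLocalizedModule.surj (Submonoid.powers f) (secOf A M (PrimeSpectrum.basicOpen f))
    (secRes A M hfU t)
  have h1 : secOf A M (PrimeSpectrum.basicOpen f) (x • n) = 0 := by
    rw [map_smul, ← hc, smul_comm, h0, smul_zero]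
  obtain ⟨d, hd⟩ := (IsLocalizedModule.eq_zero_iff (Submonoid.powers f) _).1 h1
  have h2 : secOf A M (PrimeSpectrum.basicOpen f) n = 0 :=
    (IsLocalizedModule.eq_zero_iff (Submonoid.powers f) _).2
      ⟨d, hx.right_eq_zero_of_smul ((smul_comm x d n).trans hd)⟩
  exact IsLocalizedModule.smul_injective (secOf A M (PrimeSpectrum.basicOpen f)) c
    ((hc.trans h2).trans (smul_zero c).symm)

theorem basicOpen_le_openCompl {f : A} (hf : f ∈ J) : PrimeSpectrum.basicOpen f ≤ EGA4.openCompl A J :=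
  fun _ hq hJ => hq (hJ hf)

theorem openCompl_le_iSup : EGA4.openCompl A J ≤ ⨆ f : J, PrimeSpectrum.basicOpen (f : A) := fun q hq => by
  obtain ⟨f, hf, hfq⟩ := Set.not_subset.1 hq
  exact Opens.mem_iSup.2 ⟨⟨f, hf⟩, hfq⟩

theorem secOf_openCompl_eq_zero_iff (m : M) :
    secOf A M (EGA4.openCompl A J) m = 0 ↔ ∀ f ∈ J, ∃ k : ℕ, f ^ k • m = 0 := by
  constructor
  · intro h f hf
    have h1 := congrArg (secRes A M (basicOpen_le_openCompl J hf)) h
    rw [secRes_secOf, map_zero] at h1
    obtain ⟨⟨_, k, rfl⟩, hk⟩ := (IsLocalizedModule.eq_zero_iff (Submonoid.powers f) _).1 h1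
    exact ⟨k, hk⟩
  · intro h
    refine sec_ext fun q hq => ?_
    obtain ⟨f, hf, hfq⟩ := Set.not_subset.1 hq
    refine ⟨f, basicOpen_le_openCompl J hf, hfq, ?_⟩
    obtain ⟨k, hk⟩ := h f hf
    rw [secRes_secOf, map_zero]
    exact (IsLocalizedModule.eq_zero_iff (Submonoid.powers f) _).2 ⟨⟨_, k, rfl⟩, hk⟩

theorem mem_torsionSub_iff_forall_pow [IsNoetherianRing A] (m : M) :
    m ∈ DRing.torsionSub J M ↔ ∀ f ∈ J, ∃ k : ℕ, f ^ k • m = 0 := by
  refine ⟨fun ⟨n, hn⟩ f hf => ⟨n, hn _ (Ideal.pow_mem_pow hf n)⟩, fun h => ?_⟩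
  let K : Ideal A := LinearMap.ker (LinearMap.toSpanSingleton A M m)
  have hle : J ≤ K.radical := fun f hf => h f hf
  obtain ⟨n, hn⟩ := Ideal.exists_pow_le_of_le_radical_of_fg hle (IsNoetherian.noetherian J)
  exact ⟨n, fun a ha => hn ha⟩

theorem injective_restrCompl_iff [IsNoetherianRing A] :
    Function.Injective (EGA4.restrCompl A J M) ↔ DRing.torsionSub J M = ⊥ := by
  have h1 : Function.Bijective (secOf A M ⊤) :=
    (tilde.isoTop (R := CommRingCat.of A) (ModuleCat.of (CommRingCat.of A) M)).toLinearEquiv.bijective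
  have h2 : Function.Injective (EGA4.restrCompl A J M) ↔ Function.Injective (secOf A M (EGA4.openCompl A J)) :=
    (Function.Injective.of_comp_iff' (secRes A M (le_top : EGA4.openCompl A J ≤ ⊤)) h1).symm
  rw [h2, injective_iff_map_eq_zero, Submodule.eq_bot_iff]
  exact forall_congr' fun m => by rw [secOf_openCompl_eq_zero_iff, mem_torsionSub_iff_forall_pow]

theorem bijective_restrCompl_iff :
    Function.Bijective (EGA4.restrCompl A J M) ↔ Function.Bijective (secOf A M (EGA4.openCompl A J)) := by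
  have h1 : Function.Bijective (secOf A M ⊤) :=
    (tilde.isoTop (R := CommRingCat.of A) (ModuleCat.of (CommRingCat.of A) M)).toLinearEquiv.bijective
  exact (Function.Bijective.of_comp_iff (secRes A M (le_top : EGA4.openCompl A J ≤ ⊤)) h1).symm

open scoped Pointwise in
theorem surjective_secOf_of_regular {x y : A} (hxJ : x ∈ J) (hyJ : y ∈ J) (hx : IsSMulRegular M x)
    (hy : IsSMulRegular (QuotSMulTop x M) y) : Function.Surjective (secOf A M (EGA4.openCompl A J)) := by
  intro s
  have key : ∀ (a : ℕ) (m : M), x ^ a • s = secOf A M (EGA4.openCompl A J) m → ∃ m', secOf A M (EGA4.openCompl A J) m' = s := by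
    intro a
    induction a with
    | zero => exact fun m hm => ⟨m, by rw [← hm, pow_zero, one_smul]⟩
    | succ a ih =>
      intro m hm
      have hle := basicOpen_le_openCompl J hyJ
      obtain ⟨⟨n, ⟨_, b, rfl⟩⟩, hn⟩ := IsLocalizedModule.surj (Submonoid.powers y)
        (secOf A M (PrimeSpectrum.basicOpen y)) (secRes A M hle s)
      have h1 : secOf A M (PrimeSpectrum.basicOpen y) (y ^ b • m - x ^ (a + 1) • n) = 0 := by
        rw [map_sub, map_smul, map_smul, ← secRes_secOf hle m, ← hm, map_smul, ← hn]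
        change y ^ b • x ^ (a + 1) • secRes A M hle s - x ^ (a + 1) • y ^ b • secRes A M hle s = 0
        rw [smul_comm, sub_self]
      obtain ⟨⟨_, k, rfl⟩, hk⟩ := (IsLocalizedModule.eq_zero_iff (Submonoid.powers y) _).1 h1
      change y ^ k • (y ^ b • m - x ^ (a + 1) • n) = 0 at hk
      rw [smul_sub, sub_eq_zero, ← mul_smul, ← pow_add] at hk
      have h2 : (Submodule.Quotient.mk m : QuotSMulTop x M) = 0 := (hy.pow (k + b)).right_eq_zero_of_smul <| by
        rw [← Submodule.Quotient.mk_smul, hk, Submodule.Quotient.mk_eq_zero, Submodule.mem_smul_pointwise_iff_exists]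
        exact ⟨x ^ a • y ^ k • n, Submodule.mem_top, by rw [← mul_smul x, ← pow_succ', smul_comm]⟩
      rw [Submodule.Quotient.mk_eq_zero, Submodule.mem_smul_pointwise_iff_exists] at h2
      obtain ⟨m', -, rfl⟩ := h2
      refine ih m' (smul_injective_sec hx _ ?_)
      change x • x ^ a • s = x • _
      rw [← map_smul, ← mul_smul, ← pow_succ', hm]
  have hle := basicOpen_le_openCompl J hxJ
  obtain ⟨⟨m, ⟨_, a, rfl⟩⟩, hm⟩ := IsLocalizedModule.surj (Submonoid.powers x)
    (secOf A M (PrimeSpectrum.basicOpen x)) (secRes A M hle s)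
  refine key a m (sec_ext fun q hq => ?_)
  obtain ⟨f, hqf, hfU⟩ := exists_basicOpen_le hq
  refine ⟨f, hfU, hqf, ?_⟩
  let w := secRes A M hfU (x ^ a • s) - secRes A M hfU (secOf A M (EGA4.openCompl A J) m)
  refine sub_eq_zero.1 ?_
  obtain ⟨⟨n, c⟩, hc⟩ := IsLocalizedModule.surj (Submonoid.powers f) (secOf A M (PrimeSpectrum.basicOpen f)) w
  suffices secOf A M (PrimeSpectrum.basicOpen f) n = 0 from
    IsLocalizedModule.smul_injective (secOf A M (PrimeSpectrum.basicOpen f)) c ((hc.trans this).trans (smul_zero c).symm)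
  have hfx : PrimeSpectrum.basicOpen (f * x) ≤ PrimeSpectrum.basicOpen f := PrimeSpectrum.basicOpen_mul_le_left f x
  have hfx' : PrimeSpectrum.basicOpen (f * x) ≤ PrimeSpectrum.basicOpen x := PrimeSpectrum.basicOpen_mul_le_right f x
  have h3 : secOf A M (PrimeSpectrum.basicOpen (f * x)) n = 0 := by
    rw [← secRes_secOf hfx n, ← hc]
    change secRes A M hfx ((c : A) • w) = 0
    rw [map_smul, map_sub, secRes_secRes, secRes_secRes, ← secRes_secRes hle hfx',
      ← secRes_secRes hle hfx' (secOf A M (EGA4.openCompl A J) m), secRes_secOf hle m, map_smul]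
    change (c : A) • (secRes A M hfx' (x ^ a • secRes A M hle s) - secRes A M hfx' (secOf A M _ m)) = 0
    rw [show x ^ a • secRes A M hle s = secOf A M (PrimeSpectrum.basicOpen x) m from hm, sub_self, smul_zero]
  obtain ⟨⟨_, j, rfl⟩, hj⟩ := (IsLocalizedModule.eq_zero_iff (Submonoid.powers (f * x)) _).1 h3
  change (f * x) ^ j • n = 0 at hj
  rw [mul_pow, mul_comm, mul_smul] at hj
  exact (IsLocalizedModule.eq_zero_iff (Submonoid.powers f) _).2
    ⟨⟨_, j, rfl⟩, (hx.pow j).right_eq_zero_of_smul hj⟩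

open scoped Pointwise in
theorem torsionSub_quotSMulTop_eq_bot [IsNoetherianRing A] {x : A} (hx : IsSMulRegular M x)
    (hb : Function.Bijective (secOf A M (EGA4.openCompl A J))) : DRing.torsionSub J (QuotSMulTop x M) = ⊥ := by
  rw [Submodule.eq_bot_iff]
  intro z ⟨n, hn⟩
  obtain ⟨z, rfl⟩ := Submodule.Quotient.mk_surjective _ z
  have hlift : ∀ f : J, ∃ t : Sec A M (PrimeSpectrum.basicOpen (f : A)), x • t = secOf A M _ z := fun f => by
    have h0 := hn _ (Ideal.pow_mem_pow f.2 n)
    rw [← Submodule.Quotient.mk_smul, Submodule.Quotient.mk_eq_zero, Submodule.mem_smul_pointwise_iff_exists] at h0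
    obtain ⟨m, -, hm⟩ := h0
    have hu := IsLocalizedModule.map_units (secOf A M (PrimeSpectrum.basicOpen (f : A)))
      (⟨(f : A) ^ n, n, rfl⟩ : Submonoid.powers (f : A))
    obtain ⟨t, ht⟩ := ((Module.End.isUnit_iff _).1 hu).2 (secOf A M _ m)
    refine ⟨t, ((Module.End.isUnit_iff _).1 hu).1 ?_⟩
    change (f : A) ^ n • x • t = (f : A) ^ n • secOf A M _ z
    rw [smul_comm, ← map_smul, ← hm, map_smul, show (f : A) ^ n • t = secOf A M _ m from ht]
  choose t ht using hlift
  let V : J → Opens (Spec (CommRingCat.of A)) := fun f => PrimeSpectrum.basicOpen (f : A)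
  have hcompat : TopCat.Presheaf.IsCompatible (secSheaf A M).1 V t := fun i j => by
    refine smul_injective_sec hx _ ?_
    change x • secRes A M inf_le_left (t i) = x • secRes A M inf_le_right (t j)
    rw [← map_smul, ← map_smul, ht, ht, secRes_secOf, secRes_secOf]
  obtain ⟨s, hs, -⟩ := (secSheaf A M).existsUnique_gluing' V (EGA4.openCompl A J)
    (fun f => homOfLE (basicOpen_le_openCompl J f.2)) (openCompl_le_iSup J) t hcompat
  obtain ⟨m, hm⟩ := hb.2 s
  have h1 : secOf A M (EGA4.openCompl A J) (x • m) = secOf A M (EGA4.openCompl A J) z := by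
    rw [map_smul, hm]
    refine TopCat.Sheaf.eq_of_locally_eq' (secSheaf A M) V (EGA4.openCompl A J)
      (fun f => homOfLE (basicOpen_le_openCompl J f.2)) (openCompl_le_iSup J) _ _ fun f => ?_
    change secRes A M (basicOpen_le_openCompl J f.2) (x • s) = secRes A M (basicOpen_le_openCompl J f.2) _
    rw [map_smul, secRes_secOf, show secRes A M (basicOpen_le_openCompl J f.2) s = t f from hs f, ht]
  rw [Submodule.Quotient.mk_eq_zero, Submodule.mem_smul_pointwise_iff_exists]
  exact ⟨m, Submodule.mem_top, hb.1 h1⟩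

theorem subsingleton_H_zero_of_torsionSub_eq_bot [IsNoetherianRing A] {N : Type u} [AddCommGroup N] [Module A N]
    (h : DRing.torsionSub J N = ⊥) : Subsingleton (LocCoh.H J 0 N) := by
  have : Subsingleton ↑((DRing.gammaI J).obj (ModuleCat.of A N)) :=
    ⟨fun u v => Subtype.ext (((Submodule.eq_bot_iff _).1 h _ u.2).trans ((Submodule.eq_bot_iff _).1 h _ v.2).symm)⟩
  exact ((zeroIso J).app (ModuleCat.of A N)).toLinearEquiv.toEquiv.subsingleton

theorem torsionSub_eq_bot_iff [IsNoetherianRing A] [Module.Finite A M] :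
    DRing.torsionSub J M = ⊥ ↔ (1 : ℕ∞) ≤ LocCoh.idealDepth J M := by
  rw [show (1 : ℕ∞) = ((1 : ℕ) : ℕ∞) from rfl, le_idealDepth_iff]
  refine ⟨fun h i hi => ?_, fun h => torsionSub_eq_bot_of_subsingleton (h 0 one_pos)⟩
  obtain rfl : i = 0 := by lia
  exact subsingleton_H_zero_of_torsionSub_eq_bot J h

open RingTheory.Sequence in
theorem bijective_restrCompl_iff_two_le [IsNoetherianRing A] [Module.Finite A M] :
    Function.Bijective (EGA4.restrCompl A J M) ↔ (2 : ℕ∞) ≤ LocCoh.idealDepth J M := by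
  rw [show (2 : ℕ∞) = ((2 : ℕ) : ℕ∞) from rfl]
  constructor
  · intro hb
    have h0 : DRing.torsionSub J M = ⊥ := (injective_restrCompl_iff J).1 hb.1
    obtain ⟨rs, hlen, hrs, hmem⟩ := exists_isWeaklyRegular J 1 M
      ((le_idealDepth_iff J M 1).1 (by exact_mod_cast (torsionSub_eq_bot_iff J).1 h0))
    obtain ⟨x, rfl⟩ := List.length_eq_one_iff.1 hlen
    have hx : IsSMulRegular M x := ((isWeaklyRegular_cons_iff M x []).1 hrs).1
    have h1 := torsionSub_quotSMulTop_eq_bot J hx ((bijective_restrCompl_iff J).1 hb)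
    obtain ⟨rs', hlen', hrs', hmem'⟩ := exists_isWeaklyRegular J 1 (QuotSMulTop x M)
      ((le_idealDepth_iff J _ 1).1 (by exact_mod_cast (torsionSub_eq_bot_iff J).1 h1))
    refine (le_idealDepth_iff J M 2).2 fun i hi => subsingleton_of_isWeaklyRegular J (x :: rs') M
      (IsWeaklyRegular.cons hx hrs') (fun r hr => ?_) i (by rw [List.length_cons, hlen']; exact hi)
    rcases List.mem_cons.1 hr with rfl | hr
    · exact hmem r (by simp)
    · exact hmem' r hr
  · intro h
    obtain ⟨rs, hlen, hrs, hmem⟩ := exists_isWeaklyRegular J 2 M ((le_idealDepth_iff J M 2).1 h)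
    obtain ⟨x, y, rfl⟩ := List.length_eq_two.1 hlen
    obtain ⟨hx, hy⟩ := (isWeaklyRegular_cons_iff M x [y]).1 hrs
    refine ⟨(injective_restrCompl_iff J).2 ((torsionSub_eq_bot_iff J).2 (le_trans (by norm_num) h)), ?_⟩
    have h1 : Function.Bijective (secOf A M ⊤) :=
      (tilde.isoTop (R := CommRingCat.of A) (ModuleCat.of (CommRingCat.of A) M)).toLinearEquiv.bijective
    exact (Function.Surjective.of_comp (g := secOf A M ⊤)
      (surjective_secOf_of_regular J (hmem x (by simp)) (hmem y (by simp)) hx ((isWeaklyRegular_cons_iff _ y []).1 hy).1))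

end Groth.Agent.LocH
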