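import Mathlib
import Groth.Prelude.Def_DRing3
import Groth.Agent.LocH.DepthStep

/-!
Depth at neighbouring primes.
-/

namespace Groth.Agent.LocH

universe u

open CategoryTheory CategoryTheory.Limits Opposite CategoryTheory.Abelian

variable {R : Type u} [CommRing R] [IsNoetherianRing R]

theorem vanish_localizeRes_of_exists (S : Submonoid R) {M : ModuleCat.{u} R} (J : InjectiveResolution M) {K : Ideal R}
    {j : ℕ} (h : ∀ x ∈ DRing.torsionSub K (J.cocomplex.X j), J.cocomplex.d j (j + 1) x = 0 →
      ∃ s : S, (s : R) • x ∈ boundary J K j) :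
    Vanish (localizeRes S J) (K.map (algebraMap R (Localization S))) j := by
  suffices ∀ z : (J.cocomplex.X j).localizedModule S,
      z ∈ DRing.torsionSub (K.map (algebraMap R (Localization S))) ((J.cocomplex.X j).localizedModule S) →
      dloc S J j (j + 1) z = 0 → z ∈ (boundary (localizeRes S J) (K.map (algebraMap R (Localization S))) j :
        Submodule (Localization S) ((J.cocomplex.X j).localizedModule S)) from this
  intro z hz hd
  obtain ⟨x, hx, s, hs⟩ := exists_rep S J z hz
  have h0 : floc S J (j + 1) (J.cocomplex.d j (j + 1) x) = 0 := by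
    rw [← dloc_floc, ← hs, LinearMap.map_smul_of_tower]
    rw [hd, smul_zero]
  obtain ⟨t, ht⟩ := (IsLocalizedModule.eq_zero_iff S (floc S J (j + 1))).1 h0
  obtain ⟨v, hv⟩ := h ((t : R) • x) (Submodule.smul_mem _ _ hx) (by rw [map_smul]; exact ht)
  have hb := floc_mem_boundary S J hv
  rw [map_smul, map_smul, ← hs, smul_smul, smul_smul, ← algebraMap_smul (Localization S) ((v : R) * t * s)] at hb
  exact (Submodule.smul_mem_iff_of_isUnit
    (boundary (localizeRes S J) (K.map (algebraMap R (Localization S))) j :
      Submodule (Localization S) ((J.cocomplex.X j).localizedModule S))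
    (IsLocalization.map_units (Localization S) (v * t * s))).1 hb

theorem depth_step {q s : Ideal R} [q.IsPrime] [s.IsPrime] (hqs : q < s)
    (himm : ∀ P : Ideal R, P.IsPrime → q ≤ P → P ≤ s → P = q ∨ P = s)
    (M : Type u) [AddCommGroup M] [Module R M] [Module.Finite R M] (t : ℕ)
    (h : ((t + 2 : ℕ) : ℕ∞) ≤ LocCoh.depth (Localization.AtPrime s) (LocalizedModule s.primeCompl M)) :
    ((t + 1 : ℕ) : ℕ∞) ≤ LocCoh.depth (Localization.AtPrime q) (LocalizedModule q.primeCompl M) := by
  unfold LocCoh.depth at h ⊢
  rw [le_idealDepth_iff] at h ⊢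
  obtain ⟨x₀, hx₀, hx₀q⟩ := SetLike.exists_of_lt hqs
  let K := q.map (algebraMap R (Localization.AtPrime s))
  let x := algebraMap R (Localization.AtPrime s) x₀
  have hxm : x ∈ IsLocalRing.maximalIdeal (Localization.AtPrime s) :=
    (IsLocalization.AtPrime.to_map_mem_maximal_iff (Localization.AtPrime s) s x₀).2 hx₀
  have hrad : (K ⊔ Ideal.span {x}).radical = IsLocalRing.maximalIdeal (Localization.AtPrime s) := by
    refine le_antisymm ((Ideal.radical_mono (sup_le ?_ ?_)).trans (IsLocalRing.maximalIdeal.isMaximal _).isPrime.radical.le) ?_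
    · rw [← IsLocalization.AtPrime.map_eq_maximalIdeal s (Localization.AtPrime s)]
      exact Ideal.map_mono hqs.le
    · rwa [Ideal.span_le, Set.singleton_subset_iff]
    · rw [Ideal.radical_eq_sInf]
      refine le_sInf fun P ⟨hle, hP⟩ => ?_
      have hc : (P.comap (algebraMap R (Localization.AtPrime s))).IsPrime := Ideal.comap_isPrime _ P
      have hPs : P.comap (algebraMap R (Localization.AtPrime s)) ≤ s := fun a ha => by
        by_contra has
        exact hP.ne_top (Ideal.eq_top_of_isUnit_mem _ ha (IsLocalization.map_units _ (⟨a, has⟩ : s.primeCompl)))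
      rcases himm _ hc (Ideal.map_le_iff_le_comap.1 (le_sup_left.trans hle)) hPs with e | e
      · exact absurd (e ▸ (hle (Submodule.mem_sup_right (Ideal.mem_span_singleton_self x)) :
          x₀ ∈ P.comap (algebraMap R (Localization.AtPrime s)))) hx₀q
      · rw [← IsLocalization.AtPrime.map_eq_maximalIdeal s (Localization.AtPrime s), Ideal.map_le_iff_le_comap, e]
  have hK := subsingleton_of_sup_span K (x := x)
    ((IsLocalRing.jacobson_eq_maximalIdeal (⊥ : Ideal (Localization.AtPrime s)) bot_ne_top).ge hxm)
    (LocalizedModule s.primeCompl M) (t + 1) fun j hj =>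
      (subsingleton_iff_of_radical_eq (by rw [hrad, (IsLocalRing.maximalIdeal.isMaximal _).isPrime.radical]) _ j).2
        (h j (by lia))
  intro j hj
  let J := injectiveResolution (ModuleCat.of R M)
  rw [subsingleton_localized_iff q.primeCompl M J, ← IsLocalization.AtPrime.map_eq_maximalIdeal q (Localization.AtPrime q)]
  refine vanish_localizeRes_of_exists q.primeCompl J fun z hz hd => ?_
  have hb := (subsingleton_localized_iff s.primeCompl M J K j).1 (hK j hj) _ (floc_mem s.primeCompl J hz)
    ((dloc_floc s.primeCompl J j (j + 1) z).trans ((congrArg _ hd).trans (map_zero _)))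
  obtain ⟨u, hu⟩ := exists_smul_mem_boundary s.primeCompl J hb
  exact ⟨⟨u, fun huq => u.2 (hqs.le huq)⟩, hu⟩

theorem depth_localization_le (M : Type u) [AddCommGroup M] [Module R M] [Module.Finite R M] :
    ∀ (n : ℕ) (p s : Ideal R) [p.IsPrime] [s.IsPrime], p ≤ s → (s.map (Ideal.Quotient.mk p)).height ≤ n →
      LocCoh.depth (Localization.AtPrime s) (LocalizedModule s.primeCompl M) ≤
        LocCoh.depth (Localization.AtPrime p) (LocalizedModule p.primeCompl M) + n := by
  intro n
  induction n using Nat.strong_induction_on with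
  | _ n ih =>
    intro p s _ _ hps hht
    rcases hps.eq_or_lt with rfl | hlt
    · exact le_self_add
    obtain ⟨q, ⟨hq, hpq, hqs⟩, hmax⟩ := set_has_maximal_iff_noetherian.2 (inferInstance : IsNoetherian R R)
      {q : Ideal R | q.IsPrime ∧ p ≤ q ∧ q < s} ⟨p, ‹_›, le_rfl, hlt⟩
    have himm : ∀ P : Ideal R, P.IsPrime → q ≤ P → P ≤ s → P = q ∨ P = s := fun P hP h1 h2 => by
      by_contra hne
      push Not at hne
      exact hmax P ⟨hP, hpq.trans h1, lt_of_le_of_ne h2 hne.2⟩ (lt_of_le_of_ne h1 (Ne.symm hne.1))
    have hker : RingHom.ker (Ideal.Quotient.mk p) ≤ q := by rwa [Ideal.mk_ker]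
    have hq' : (Ideal.map (Ideal.Quotient.mk p) q).IsPrime := Ideal.map_isPrime_of_surjective Ideal.Quotient.mk_surjective hker
    have hs' : (s.map (Ideal.Quotient.mk p)).IsPrime :=
      Ideal.map_isPrime_of_surjective Ideal.Quotient.mk_surjective (hker.trans hqs.le)
    have hlt' : Ideal.map (Ideal.Quotient.mk p) q < s.map (Ideal.Quotient.mk p) := by
      refine lt_of_le_of_ne (Ideal.map_mono hqs.le) fun e => hqs.ne ?_
      have := congrArg (Ideal.comap (Ideal.Quotient.mk p)) e
      rwa [Ideal.comap_map_of_surjective' _ Ideal.Quotient.mk_surjective, Ideal.comap_map_of_surjective' _ Ideal.Quotient.mk_surjective,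
        sup_eq_left.2 hker, sup_eq_left.2 (hker.trans hqs.le)] at this
    have hh := (Ideal.height_add_one_le_of_lt_of_isPrime hlt').trans hht
    obtain ⟨m, rfl⟩ : ∃ m, n = m + 1 := Nat.exists_eq_add_one_of_ne_zero (by
      rintro rfl
      simp at hh)
    have hm : (Ideal.map (Ideal.Quotient.mk p) q).height ≤ m := by
      rw [Nat.cast_succ] at hh
      exact (ENat.add_le_add_iff_right ENat.one_ne_top).1 hh
    have h1 := ih m (Nat.lt_succ_self m) p q hpq hm
    refine le_trans (b := LocCoh.depth (Localization.AtPrime q) (LocalizedModule (Ideal.primeCompl q) M) + 1) ?_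
      ((add_le_add h1 le_rfl).trans (by rw [Nat.cast_succ, add_assoc]))
    refine ENat.forall_natCast_le_iff_le.1 fun k hk => ?_
    match k with
    | 0 => exact zero_le
    | 1 => exact le_add_self
    | t + 2 =>
      have := depth_step hqs himm M t hk
      rw [show ((t + 2 : ℕ) : ℕ∞) = ((t + 1 : ℕ) : ℕ∞) + 1 by push_cast; ring]
      exact add_le_add this le_rfl

end Groth.Agent.LocH
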