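import Mathlib
import Groth.Prelude.Def_DRing3
import Groth.Agent.LocH.Localize
import Groth.Agent.LocH.Devissage

/-!
Lifting through `Γ_I J` when low-degree cohomology is killed by given elements.
-/

namespace Groth.Agent.LocH

universe u

open CategoryTheory CategoryTheory.Limits Opposite CategoryTheory.Abelian
open scoped Pointwise

variable {R : Type u} [CommRing R] {M : ModuleCat.{u} R} (J : InjectiveResolution M)

/-- Cycle-valued maps from finite modules become boundary-valued after multiplying by some element of `U`. -/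
def KillsHom (I : Ideal R) (U : Set R) (j : ℕ) : Prop :=
  ∀ (F : Type u) [AddCommGroup F] [Module R F] [Module.Finite R F] (f : F →ₗ[R] J.cocomplex.X j),
    (∀ x, f x ∈ DRing.torsionSub I (J.cocomplex.X j)) → (∀ x, J.cocomplex.d j (j + 1) (f x) = 0) →
      ∃ u ∈ U, ∀ x, u • f x ∈ boundary J I j

theorem killsHom_singleton {I : Ideal R} {t : R} {j : ℕ}
    (h : ∀ x ∈ DRing.torsionSub I (J.cocomplex.X j), J.cocomplex.d j (j + 1) x = 0 → t • x ∈ boundary J I j) :
    KillsHom J I {t} j :=
  fun _ _ _ _ _ hT hd => ⟨t, rfl, fun x => h _ (hT x) (hd x)⟩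

theorem killsHom_submonoid {I : Ideal R} (S : Submonoid R) {j : ℕ}
    (h : ∀ x ∈ DRing.torsionSub I (J.cocomplex.X j), J.cocomplex.d j (j + 1) x = 0 →
      ∃ u : S, (u : R) • x ∈ boundary J I j) :
    KillsHom J I (S : Set R) j := by
  classical
  intro F _ _ _ f hT hd
  obtain ⟨G, hG⟩ := (Module.Finite.fg_top : (⊤ : Submodule R F).FG)
  choose u hu using fun x => h _ (hT x) (hd x)
  refine ⟨((∏ g ∈ G, u g : S) : R), SetLike.coe_mem _, fun x => ?_⟩
  have hx : x ∈ Submodule.span R (G : Set F) := hG ▸ Submodule.mem_top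
  induction hx using Submodule.span_induction with
  | mem g hg =>
    obtain ⟨c, hc⟩ := Finset.dvd_prod_of_mem u hg
    rw [hc, Submonoid.coe_mul, mul_comm, mul_smul]
    exact Submodule.smul_mem _ _ (hu g)
  | zero => rw [map_zero, smul_zero]; exact Submodule.zero_mem _
  | add a b _ _ ha hb => rw [map_add, smul_add]; exact Submodule.add_mem _ ha hb
  | smul c a _ ha => rw [map_smul, smul_comm]; exact Submodule.smul_mem _ _ ha

theorem exists_factor_of_le_ker {A B C : Type*} [AddCommGroup A] [Module R A] [AddCommGroup B] [Module R B]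
    [AddCommGroup C] [Module R C] (π : A →ₗ[R] B) (hπ : Function.Surjective π) (φ : A →ₗ[R] C)
    (h : LinearMap.ker π ≤ LinearMap.ker φ) : ∃ g : B →ₗ[R] C, ∀ x, g (π x) = φ x := by
  refine ⟨(LinearMap.ker π).liftQ φ h ∘ₗ (π.quotKerEquivOfSurjective hπ).symm.toLinearMap, fun x => ?_⟩
  have : (π.quotKerEquivOfSurjective hπ).symm (π x) = Submodule.Quotient.mk x := by
    rw [LinearEquiv.symm_apply_eq]; rfl
  rw [LinearMap.comp_apply, LinearEquiv.coe_coe, this, Submodule.liftQ_apply]

variable [IsNoetherianRing R]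

theorem injective_torsionSub (I : Ideal R) (j : ℕ) :
    Module.Injective R ↥(DRing.torsionSub I (J.cocomplex.X j)) := by
  have : Module.Injective R (J.cocomplex.X j) :=
    Module.injective_module_of_injective_object R _ (inj := J.injective j)
  have h := InjHull.injective_iSup_torsionBySet (R := R) (↑(J.cocomplex.X j)) I
  have e : (⨆ n : ℕ, Submodule.torsionBySet R (J.cocomplex.X j) ((I ^ n : Ideal R) : Set R)) =
      DRing.torsionSub I (J.cocomplex.X j) :=
    Submodule.ext fun x => InjHull.mem_iSup_torsionBySet_iff I x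
  rwa [e] at h

/-- Boundary-valued maps lift to maps into `Γ_I J`, up to killing elements. -/
theorem exists_lift_of_killsHom {I : Ideal R} {U : Set R} : ∀ (k : ℕ), (∀ j, j ≤ k → KillsHom J I U j) →
    ∀ (F : Type u) [AddCommGroup F] [Module R F] [Module.Finite R F] (f : F →ₗ[R] J.cocomplex.X (k + 1)),
      (∀ x, f x ∈ boundary J I (k + 1)) →
      ∃ u ∈ U ^ (k + 1), ∃ g : F →ₗ[R] J.cocomplex.X k,
        (∀ x, g x ∈ DRing.torsionSub I (J.cocomplex.X k)) ∧ ∀ x, J.cocomplex.d k (k + 1) (g x) = u • f x := by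
  intro k
  induction k with
  | zero =>
    intro hk F _ _ _ f hf
    obtain ⟨n, π, hπ⟩ := Module.Finite.exists_fin' R F
    choose w hw hdw using fun i : Fin n => hf (π (Pi.single i 1))
    let W : (Fin n → R) →ₗ[R] J.cocomplex.X 0 := Fintype.linearCombination R w
    have hW : ∀ x, W x ∈ DRing.torsionSub I (J.cocomplex.X 0) := fun x => by
      rw [Fintype.linearCombination_apply]
      exact Submodule.sum_mem _ fun i _ => Submodule.smul_mem _ _ (hw i)
    have hdW : ∀ x, J.cocomplex.d 0 1 (W x) = f (π x) := by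
      have : (J.cocomplex.d 0 1).hom ∘ₗ W = f ∘ₗ π := (Pi.basisFun R (Fin n)).ext fun i => by
        rw [Pi.basisFun_apply, LinearMap.comp_apply, LinearMap.comp_apply, Fintype.linearCombination_apply_single, one_smul]
        exact hdw i
      exact LinearMap.congr_fun this
    obtain ⟨u, hu, hu'⟩ := hk 0 le_rfl (LinearMap.ker π) (W ∘ₗ Submodule.subtype _) (fun x => hW _)
      fun x => by
        show J.cocomplex.d 0 1 (W x.1) = 0
        rw [hdW, LinearMap.mem_ker.1 x.2, map_zero]
    obtain ⟨g, hg⟩ := exists_factor_of_le_ker π hπ (u • W) fun x hx => (Submodule.mem_bot R).1 (hu' ⟨x, hx⟩)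
    refine ⟨u, by rwa [pow_one], g, fun x => ?_, fun x => ?_⟩
    · obtain ⟨y, rfl⟩ := hπ x
      rw [hg]
      exact Submodule.smul_mem _ _ (hW y)
    · obtain ⟨y, rfl⟩ := hπ x
      rw [hg, LinearMap.smul_apply, map_smul, hdW]
  | succ k ih =>
    intro hk F _ _ _ f hf
    obtain ⟨n, π, hπ⟩ := Module.Finite.exists_fin' R F
    choose w hw hdw using fun i : Fin n => hf (π (Pi.single i 1))
    let W : (Fin n → R) →ₗ[R] J.cocomplex.X (k + 1) := Fintype.linearCombination R w
    have hW : ∀ x, W x ∈ DRing.torsionSub I (J.cocomplex.X (k + 1)) := fun x => by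
      rw [Fintype.linearCombination_apply]
      exact Submodule.sum_mem _ fun i _ => Submodule.smul_mem _ _ (hw i)
    have hdW : ∀ x, J.cocomplex.d (k + 1) (k + 2) (W x) = f (π x) := by
      have : (J.cocomplex.d (k + 1) (k + 2)).hom ∘ₗ W = f ∘ₗ π := (Pi.basisFun R (Fin n)).ext fun i => by
        rw [Pi.basisFun_apply, LinearMap.comp_apply, LinearMap.comp_apply, Fintype.linearCombination_apply_single, one_smul]
        exact hdw i
      exact LinearMap.congr_fun this
    obtain ⟨u, hu, hu'⟩ := hk (k + 1) le_rfl (LinearMap.ker π) (W ∘ₗ Submodule.subtype _) (fun x => hW _)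
      fun x => by
        show J.cocomplex.d (k + 1) (k + 2) (W x.1) = 0
        rw [hdW, LinearMap.mem_ker.1 x.2, map_zero]
    have := Module.Finite.iff_fg.2 (IsNoetherian.noetherian (LinearMap.ker π))
    obtain ⟨v, hv, g₀, hg₀, hdg₀⟩ := ih (fun j hj => hk j (by lia)) (LinearMap.ker π)
      (u • W ∘ₗ Submodule.subtype _) fun x => hu' x
    have := injective_torsionSub J I k
    obtain ⟨g₁, hg₁⟩ := Module.Injective.out (R := R) (LinearMap.ker π).subtype (LinearMap.ker π).injective_subtype
      (g₀.codRestrict (DRing.torsionSub I (J.cocomplex.X k)) hg₀)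
    let φ : (Fin n → R) →ₗ[R] J.cocomplex.X (k + 1) :=
      (v * u) • W - (J.cocomplex.d k (k + 1)).hom ∘ₗ (DRing.torsionSub I (J.cocomplex.X k)).subtype ∘ₗ g₁
    obtain ⟨g, hg⟩ := exists_factor_of_le_ker π hπ φ fun x hx => by
      rw [LinearMap.mem_ker, LinearMap.sub_apply, LinearMap.smul_apply, LinearMap.comp_apply, LinearMap.comp_apply,
        show g₁ x = _ from hg₁ ⟨x, hx⟩]
      exact sub_eq_zero.2 ((mul_smul v u (W x)).trans (hdg₀ ⟨x, hx⟩).symm)
    refine ⟨v * u, by rw [pow_succ]; exact Set.mul_mem_mul hv hu, g, fun x => ?_, fun x => ?_⟩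
    · obtain ⟨y, rfl⟩ := hπ x
      rw [hg]
      exact Submodule.sub_mem _ (Submodule.smul_mem _ _ (hW y))
        (DRing.map_mem_torsionSub I (J.cocomplex.d k (k + 1)).hom (g₁ y).2)
    · obtain ⟨y, rfl⟩ := hπ x
      rw [hg]
      show J.cocomplex.d (k + 1) (k + 2) ((v * u) • W y - J.cocomplex.d k (k + 1) (g₁ y).1) = _
      rw [map_sub, map_smul, hdW]
      exact (sub_eq_self).2 (congrArg (fun ψ : J.cocomplex.X k ⟶ J.cocomplex.X (k + 1 + 1) => ψ.hom (g₁ y).1)
        (J.cocomplex.d_comp_d k (k + 1) (k + 1 + 1)))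

end Groth.Agent.LocH
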