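import Mathlib
import Groth.Prelude.Def_DRing3
import Groth.Agent.LocH.KillLift
import Groth.Agent.LocH.DepthPrimes

/-!
A non-annihilated class in local cohomology above a one-dimensional prime.
-/

namespace Groth.Agent.LocH

universe u

open CategoryTheory CategoryTheory.Limits Opposite CategoryTheory.Abelian
open scoped Pointwise

variable {R : Type u} [CommRing R] {M : ModuleCat.{u} R} (J : InjectiveResolution M)

/-- `t` kills the classes of all cycles of `Γ_I J` in degree `j`. -/
def UKilled (I : Ideal R) (t : R) (j : ℕ) : Prop :=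
  ∀ x ∈ DRing.torsionSub I (J.cocomplex.X j), J.cocomplex.d j (j + 1) x = 0 → t • x ∈ boundary J I j

/-- The cycles killed by `p ^ 1`. -/
noncomputable def socCycles (p : Ideal R) (i : ℕ) : Submodule R (J.cocomplex.X i) :=
  Submodule.torsionBySet R (J.cocomplex.X i) ((p ^ 1 : Ideal R) : Set R) ⊓ LinearMap.ker (J.cocomplex.d i (i + 1)).hom

theorem socCycles_kill {p : Ideal R} {i : ℕ} (x : socCycles J p i) : ∀ a ∈ p ^ 1, a • (x : J.cocomplex.X i) = 0 :=
  fun a ha => (Submodule.mem_torsionBySet_iff _ _).1 x.2.1 ⟨a, ha⟩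

/-- The class in `Ext` of a cycle killed by `p`. -/
noncomputable def socClass (p : Ideal R) (i : ℕ) : socCycles J p i →ₗ[R] Ext (quotObj p 1) M i where
  toFun x := J.extMk (liftHom 1 x.1 (socCycles_kill J x)) (i + 1) rfl (liftHom_d J i _ x.2.2)
  map_add' x y := by
    rw [InjectiveResolution.add_extMk]
    refine extMk_congr J i (quotObj_hom_ext ?_) _ _
    exact (liftHom_apply_one _).trans (congrArg₂ (· + ·) (liftHom_apply_one _) (liftHom_apply_one _)).symm
  map_smul' r x := by
    rw [RingHom.id_apply, ← extMk_smul]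
    refine extMk_congr J i (quotObj_hom_ext ?_) _ _
    exact (liftHom_apply_one _).trans (congrArg (r • ·) (liftHom_apply_one _)).symm

variable [IsNoetherianRing R]

theorem socClass_eq_zero {p : Ideal R} : ∀ {i : ℕ} {x : socCycles J p i}, socClass J p i x = 0 →
    (x : J.cocomplex.X i) ∈ boundary J p i
  | 0, x, h => by
    replace h : J.extMk (liftHom 1 x.1 (socCycles_kill J x)) (0 + 1) rfl (liftHom_d J 0 _ x.2.2) = 0 := h
    have := extMk_eq_zero_of_zero J _ (liftHom_d J 0 (socCycles_kill J x) x.2.2) h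
    refine (Submodule.mem_bot R).2 ((liftHom_apply_one (socCycles_kill J x)).symm.trans ?_)
    rw [this]
    rfl
  | k + 1, x, h => by
    replace h : J.extMk (liftHom 1 x.1 (socCycles_kill J x)) (k + 1 + 1) rfl (liftHom_d J (k + 1) _ x.2.2) = 0 := h
    rw [InjectiveResolution.extMk_eq_zero_iff (p := k) (hp := rfl)] at h
    obtain ⟨g, hg⟩ := h
    refine ⟨g (Submodule.Quotient.mk 1), ⟨1, fun a ha => ?_⟩, ?_⟩
    · rw [← map_smul, ← Submodule.Quotient.mk_smul, (Submodule.Quotient.mk_eq_zero _).2 (by simpa using ha), map_zero]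
    · exact (congrArg (fun φ : quotObj p 1 ⟶ J.cocomplex.X (k + 1) => φ.hom (Submodule.Quotient.mk 1)) hg).trans
        (liftHom_apply_one (socCycles_kill J x))

variable {p : Ideal R} [p.IsPrime]

theorem exists_socle_cycle {s : ℕ} (hlow : ∀ j, j < s → KillsHom J p (p.primeCompl : Set R) j) :
    ∀ (n : ℕ) (z : J.cocomplex.X s), (∀ c ∈ p ^ n, c • z = 0) → J.cocomplex.d s (s + 1) z = 0 →
      (∀ u ∉ p, u • z ∉ boundary J p s) →
        ∃ e : socCycles J p s, ∀ u ∉ p, u • (e : J.cocomplex.X s) ∉ boundary J p s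
  | 0, z, hz, _, hne => absurd
      (show (1 : R) • z ∈ boundary J p s by rw [hz 1 (by simp)]; exact Submodule.zero_mem _)
      (hne 1 (fun h => ‹p.IsPrime›.ne_top ((Ideal.eq_top_iff_one p).2 h)))
  | n + 1, z, hz, hd, hne => by
    classical
    by_cases hall : ∀ c ∈ p, ∃ u ∉ p, u • c • z ∈ boundary J p s
    swap
    · push Not at hall
      obtain ⟨c, hc, hcne⟩ := hall
      refine exists_socle_cycle hlow n (c • z) (fun a ha => ?_) (by rw [map_smul, hd, smul_zero]) hcne
      rw [← mul_smul]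
      exact hz _ (by rw [pow_succ]; exact Ideal.mul_mem_mul ha hc)
    obtain ⟨G, hG⟩ := (IsNoetherian.noetherian p : p.FG)
    choose! u hu hub using hall
    let U := ∏ c ∈ G, u c
    have hU : U ∉ p := by
      intro h
      obtain ⟨c, hc, hcp⟩ := (Ideal.IsPrime.prod_mem_iff).1 h
      exact hu c (hG ▸ Ideal.subset_span hc) hcp
    have hUb : ∀ c ∈ p, c • U • z ∈ boundary J p s := fun c hc => by
      rw [← hG] at hc
      induction hc using Submodule.span_induction with
      | mem c hc =>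
        obtain ⟨e, he⟩ := Finset.dvd_prod_of_mem u hc
        rw [show U = u c * e from he, smul_comm c, mul_comm, mul_smul]
        exact Submodule.smul_mem _ _ (hub c (hG ▸ Ideal.subset_span hc))
      | zero => rw [zero_smul]; exact Submodule.zero_mem _
      | add a b _ _ ha hb => rw [add_smul]; exact Submodule.add_mem _ ha hb
      | smul a b _ hb => rw [smul_eq_mul, mul_smul]; exact Submodule.smul_mem _ _ hb
    have hne' : ∀ w ∉ p, w • U • z ∉ boundary J p s := fun w hw => by
      rw [← mul_smul]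
      exact hne _ fun h => (‹p.IsPrime›.mem_or_mem h).elim hw hU
    have hd' : J.cocomplex.d s (s + 1) (U • z) = 0 := by rw [map_smul, hd, smul_zero]
    cases s with
    | zero =>
      exact ⟨⟨U • z, (Submodule.mem_torsionBySet_iff _ _).2 fun a =>
        (Submodule.mem_bot R).1 (hUb a.1 ((pow_one p).le a.2)), hd'⟩, hne'⟩
    | succ k =>
      obtain ⟨v, hv, g, hg, hdg⟩ := exists_lift_of_killsHom J (I := p) (U := (p.primeCompl : Set R)) k
        (fun j hj => hlow j (by lia)) ↥p ((LinearMap.toSpanSingleton R _ (U • z)) ∘ₗ p.subtype) fun c => hUb c.1 c.2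
      have hv' : v ∉ p := by
        have h1 : ∀ (m : ℕ), (p.primeCompl : Set R) ^ (m + 1) ⊆ (p.primeCompl : Set R) := by
          intro m
          induction m with
          | zero => rw [pow_one]
          | succ m ih =>
            rw [pow_succ]
            rintro _ ⟨a, ha, b, hb, rfl⟩
            exact p.primeCompl.mul_mem (ih ha) hb
        exact h1 k hv
      have := injective_torsionSub J p k
      obtain ⟨g₀, hg₀⟩ := Module.Injective.out (R := R) p.subtype p.injective_subtype
        (g.codRestrict (DRing.torsionSub p (J.cocomplex.X k)) hg)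
      let w₀ : J.cocomplex.X k := (g₀ 1).1
      have hbd : J.cocomplex.d k (k + 1) w₀ ∈ boundary J p (k + 1) := ⟨w₀, (g₀ 1).2, rfl⟩
      refine ⟨⟨v • U • z - J.cocomplex.d k (k + 1) w₀, (Submodule.mem_torsionBySet_iff _ _).2 fun a => ?_, ?_⟩, fun w hw hmem => ?_⟩
      · have ha : (a : R) ∈ p := (pow_one p).le a.2
        have h2 : (a : R) • w₀ = g ⟨a, ha⟩ := by
          have h3 : g₀ (a : R) = (a : R) • g₀ 1 := by rw [← map_smul, smul_eq_mul, mul_one]
          exact (congrArg Subtype.val h3).symm.trans (congrArg Subtype.val (hg₀ ⟨a, ha⟩))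
        rw [smul_sub, ← map_smul, h2, hdg, sub_eq_zero, smul_comm]
        rfl
      · show J.cocomplex.d (k + 1) (k + 2) (v • U • z - J.cocomplex.d k (k + 1) w₀) = 0
        rw [map_sub, d_boundary J p hbd, sub_zero, map_smul, hd', smul_zero]
      · refine hne' (w * v) (fun h => (‹p.IsPrime›.mem_or_mem h).elim hw hv') ?_
        rw [mul_smul, ← sub_add_cancel (w • v • U • z) (w • J.cocomplex.d k (k + 1) w₀), ← smul_sub]
        exact Submodule.add_mem _ hmem (Submodule.smul_mem _ _ hbd)

theorem exists_soc_of_depth (M : Type u) [AddCommGroup M] [Module R M] [Module.Finite R M]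
    (J : InjectiveResolution (ModuleCat.of R M)) (s : ℕ)
    (hs : LocCoh.depth (Localization.AtPrime p) (LocalizedModule p.primeCompl M) = s) :
    (∀ j, j < s → KillsHom J p (p.primeCompl : Set R) j) ∧
      ∃ e : socCycles J p s, ∀ u ∉ p, u • (e : J.cocomplex.X s) ∉ boundary J p s := by
  unfold LocCoh.depth at hs
  obtain ⟨hlow, hnt⟩ := (idealDepth_eq_iff s).1 hs
  have hk : ∀ j, j < s → KillsHom J p (p.primeCompl : Set R) j := fun j hj =>
    killsHom_submonoid J p.primeCompl fun x hx hd => by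
      have hv := (subsingleton_localized_iff p.primeCompl M J _ j).1 (hlow j hj)
      rw [← IsLocalization.AtPrime.map_eq_maximalIdeal p (Localization.AtPrime p)] at hv
      exact exists_smul_mem_boundary p.primeCompl J (hv _ (floc_mem p.primeCompl J hx)
        ((dloc_floc p.primeCompl J j (j + 1) x).trans ((congrArg _ hd).trans (map_zero _))))
  refine ⟨hk, ?_⟩
  by_contra hno
  refine not_subsingleton_iff_nontrivial.2 hnt ((subsingleton_localized_iff p.primeCompl M J _ s).2 ?_)
  rw [← IsLocalization.AtPrime.map_eq_maximalIdeal p (Localization.AtPrime p)]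
  refine vanish_localizeRes_of_exists p.primeCompl J fun x hx hd => ?_
  by_contra hne
  push Not at hne
  obtain ⟨n, hn⟩ := hx
  exact hno (exists_socle_cycle J hk n x hn hd fun u hu => hne ⟨u, hu⟩)

theorem not_uKilled_of_one_dimensional [IsLocalRing R] {a : Ideal R} {b : R} (hb : b ∈ IsLocalRing.maximalIdeal R)
    (hbp : b ∉ p) (ha : IsLocalRing.maximalIdeal R ≤ (a ⊔ p).radical)
    (hbm : IsLocalRing.maximalIdeal R ≤ (Ideal.span {b} ⊔ p).radical) (ha' : a ≤ IsLocalRing.maximalIdeal R)
    (M : Type u) [AddCommGroup M] [Module R M] [Module.Finite R M]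
    (J : InjectiveResolution (ModuleCat.of R M)) (s : ℕ)
    (e : socCycles J p s) (he : ∀ u ∉ p, u • (e : J.cocomplex.X s) ∉ boundary J p s) (k : ℕ) :
    ∃ i, i ≤ s + 1 ∧ ¬ UKilled J a (b ^ k) i := by
  by_contra hcon
  push Not at hcon
  have hkill : ∀ j, j ≤ s → KillsHom J a {b ^ k} j := fun j hj => killsHom_singleton J (hcon j (by lia))
  -- exact division of `e` by powers of `b`
  have hdiv : ∀ n : ℕ, ∃ w : J.cocomplex.X s, (∀ c ∈ p, c • w = 0) ∧ b ^ n • w = e.1 := fun n => by
    have : Module.Injective R (J.cocomplex.X s) :=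
      Module.injective_module_of_injective_object R _ (inj := J.injective s)
    have hinj : Function.Injective (LinearMap.lsmul R (R ⧸ p) (b ^ n)) := by
      refine (injective_iff_map_eq_zero _).2 fun z hz => ?_
      obtain ⟨r, rfl⟩ := Ideal.Quotient.mk_surjective z
      have : b ^ n * r ∈ p := Ideal.Quotient.eq_zero_iff_mem.1 hz
      exact Ideal.Quotient.eq_zero_iff_mem.2
        ((‹p.IsPrime›.mem_or_mem this).resolve_left fun h => hbp (‹p.IsPrime›.mem_of_pow_mem n h))
    let f : R ⧸ p →ₗ[R] J.cocomplex.X s := Submodule.liftQ p (LinearMap.toSpanSingleton R _ e.1)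
      fun c hc => LinearMap.mem_ker.2 (socCycles_kill J e c (by rwa [pow_one]))
    obtain ⟨g, hg⟩ := Module.Injective.out (R := R) _ hinj f
    refine ⟨g (Submodule.Quotient.mk 1), fun c hc => ?_, ?_⟩
    · rw [← map_smul, ← Submodule.Quotient.mk_smul, (Submodule.Quotient.mk_eq_zero p).2 (by simpa using hc), map_zero]
    · have h1 := hg (Submodule.Quotient.mk 1)
      rw [LinearMap.lsmul_apply, map_smul] at h1
      exact h1.trans (one_smul R e.1)
  have htor : ∀ {j : ℕ} (w : J.cocomplex.X j), (∀ c ∈ p, c • w = 0) → (∃ n : ℕ, b ^ n • w = 0) →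
      w ∈ DRing.torsionSub (IsLocalRing.maximalIdeal R) (J.cocomplex.X j) := fun w hwp ⟨n, hn⟩ =>
    torsionSub_le_of_le_radical hbm _ (torsionSub_sup (mem_torsionSub_span_singleton_iff.2 ⟨n, hn⟩)
      ⟨1, fun c hc => hwp c (by rwa [pow_one] at hc)⟩)
  let E := Ext (quotObj p 1) (ModuleCat.of R M) s
  let T : Submodule R E :=
    { carrier := {x | ∃ n : ℕ, b ^ n • x = 0}
      zero_mem' := ⟨0, smul_zero _⟩
      add_mem' := fun {x y} ⟨n, hn⟩ ⟨m, hm⟩ => ⟨n + m, by
        rw [smul_add, show b ^ (n + m) • x = 0 by rw [add_comm, pow_add, mul_smul, hn, smul_zero],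
          show b ^ (n + m) • y = 0 by rw [pow_add, mul_smul, hm, smul_zero], add_zero]⟩
      smul_mem' := fun c x ⟨n, hn⟩ => ⟨n, by rw [smul_comm, hn, smul_zero]⟩ }
  have key : ∀ n : ℕ, ∃ v : E ⧸ T, b ^ n • v = T.mkQ ((b ^ k) ^ (s + 2) • socClass J p s e) := fun n => by
    obtain ⟨w, hwp, hwn⟩ := hdiv n
    have hdwp : ∀ c ∈ p, c • J.cocomplex.d s (s + 1) w = 0 := fun c hc => by rw [← map_smul, hwp c hc, map_zero]
    have hdwb : b ^ n • J.cocomplex.d s (s + 1) w = 0 := by
      rw [← map_smul, hwn]; exact e.2.2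
    let f : R ⧸ p →ₗ[R] J.cocomplex.X (s + 1) := Submodule.liftQ p
      (LinearMap.toSpanSingleton R _ (b ^ k • J.cocomplex.d s (s + 1) w))
      fun c hc => LinearMap.mem_ker.2 (by
        show c • b ^ k • J.cocomplex.d s (s + 1) w = 0
        rw [smul_comm, hdwp c hc, smul_zero])
    obtain ⟨v, hv, g, hg, hdg⟩ := exists_lift_of_killsHom J (I := a) (U := {b ^ k}) s hkill (R ⧸ p) f fun x => by
      obtain ⟨r, rfl⟩ := Submodule.Quotient.mk_surjective p x
      show r • b ^ k • J.cocomplex.d s (s + 1) w ∈ _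
      exact Submodule.smul_mem _ _ (hcon (s + 1) le_rfl _
        (torsionSub_anti ha' _ (htor _ hdwp ⟨n, hdwb⟩))
        (congrArg (fun φ : J.cocomplex.X s ⟶ J.cocomplex.X (s + 1 + 1) => φ.hom w) (J.cocomplex.d_comp_d s (s + 1) (s + 1 + 1))))
    have hv' : v = (b ^ k) ^ (s + 1) := by
      have h1 : ∀ m : ℕ, ({b ^ k} : Set R) ^ m = {(b ^ k) ^ m} := fun m => Set.singleton_pow _ _
      rw [h1, Set.mem_singleton_iff] at hv
      exact hv
    let v₀ : J.cocomplex.X s := g (Submodule.Quotient.mk 1)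
    have hv₀p : ∀ c ∈ p, c • v₀ = 0 := fun c hc => by
      rw [← map_smul, ← Submodule.Quotient.mk_smul, (Submodule.Quotient.mk_eq_zero p).2 (by simpa using hc), map_zero]
    have hdv₀ : J.cocomplex.d s (s + 1) v₀ = (b ^ k) ^ (s + 2) • J.cocomplex.d s (s + 1) w := by
      refine (hdg _).trans ?_
      show v • (1 : R) • b ^ k • J.cocomplex.d s (s + 1) w = _
      rw [one_smul, hv', ← mul_smul, ← pow_succ]
    have hv₀m : v₀ ∈ DRing.torsionSub (IsLocalRing.maximalIdeal R) (J.cocomplex.X s) :=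
      torsionSub_le_of_le_radical ha _ (torsionSub_sup (hg _) ⟨1, fun c hc => hv₀p c (by rwa [pow_one] at hc)⟩)
    let w' : socCycles J p s := ⟨(b ^ k) ^ (s + 2) • w - v₀,
      (Submodule.mem_torsionBySet_iff _ _).2 fun c => by
        have hc : (c : R) ∈ p := (pow_one p).le c.2
        rw [smul_sub, smul_comm, hwp c hc, smul_zero, hv₀p c hc, sub_zero],
      by
        show J.cocomplex.d s (s + 1) ((b ^ k) ^ (s + 2) • w - v₀) = 0
        rw [map_sub, map_smul, hdv₀, sub_self]⟩
    refine ⟨T.mkQ (socClass J p s w'), ?_⟩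
    rw [← map_smul, ← sub_eq_zero, ← map_sub]
    refine (Submodule.Quotient.mk_eq_zero T).2 ?_
    obtain ⟨l, hl⟩ := hv₀m
    refine ⟨l, ?_⟩
    rw [← map_smul, ← map_smul, ← map_sub, ← map_smul]
    refine (congrArg (socClass J p s) (Subtype.ext ?_)).trans (map_zero _)
    show b ^ l • (b ^ n • ((b ^ k) ^ (s + 2) • w - v₀) - (b ^ k) ^ (s + 2) • e.1) = (0 : J.cocomplex.X s)
    rw [smul_sub (b ^ n), smul_comm (b ^ n) ((b ^ k) ^ (s + 2)) w, hwn, sub_sub_cancel_left, smul_neg,
      smul_comm, hl _ (Ideal.pow_mem_pow hb l), smul_zero, neg_zero]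
  have hmem : T.mkQ ((b ^ k) ^ (s + 2) • socClass J p s e) ∈
      (⨅ n : ℕ, (Ideal.span {b}) ^ n • ⊤ : Submodule R (E ⧸ T)) := by
    refine (Submodule.mem_iInf _).2 fun n => ?_
    obtain ⟨v, hv⟩ := key n
    rw [← hv]
    exact Submodule.smul_mem_smul (Ideal.pow_mem_pow (Ideal.mem_span_singleton_self b) n) Submodule.mem_top
  rw [Ideal.iInf_pow_smul_eq_bot_of_isLocalRing _ (fun htop => by
      have : Ideal.span {b} ≤ IsLocalRing.maximalIdeal R := by rwa [Ideal.span_le, Set.singleton_subset_iff]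
      exact (IsLocalRing.maximalIdeal.isMaximal R).ne_top (top_le_iff.1 (htop ▸ this))),
    Submodule.mem_bot, Submodule.mkQ_apply, Submodule.Quotient.mk_eq_zero] at hmem
  obtain ⟨l, hl⟩ := hmem
  rw [← map_smul, ← map_smul] at hl
  have hb' := socClass_eq_zero J hl
  refine he (b ^ l * (b ^ k) ^ (s + 2)) (fun h => hbp ?_) (by rw [mul_smul]; exact hb')
  rw [← pow_mul, ← pow_add] at h
  exact ‹p.IsPrime›.mem_of_pow_mem _ h

end Groth.Agent.LocH
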