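import Mathlib
import Groth.Prelude.Def_DRing3
import Groth.Agent.LocH.AdjDepthCore
import Groth.Agent.LocH.DepthPrimes

/-!
Adjusted depth bounds the finiteness dimension.
-/

namespace Groth.Agent.LocH

universe u

open CategoryTheory CategoryTheory.Limits Opposite CategoryTheory.Abelian

variable {R : Type u} [CommRing R]

theorem height_add_length_le {α : Type*} [Preorder α] (p : LTSeries α) :
    Order.height p.head + (p.length : ℕ∞) ≤ Order.height p.last := by
  induction p using RelSeries.inductionOn' with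
  | singleton x => simp
  | snoc p x hx ih =>
    rw [RelSeries.snoc_length, RelSeries.last_snoc, RelSeries.head_snoc, Nat.cast_succ, ← add_assoc]
    exact le_trans (add_le_add ih le_rfl) (Order.height_add_one_le hx)

theorem height_map_add_le {p s q : Ideal R} [p.IsPrime] [s.IsPrime] [q.IsPrime] (hps : p ≤ s) (hsq : s ≤ q) :
    (s.map (Ideal.Quotient.mk p)).height + (q.map (Ideal.Quotient.mk s)).height ≤ (q.map (Ideal.Quotient.mk p)).height := by
  have hs : (s.map (Ideal.Quotient.mk p)).IsPrime :=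
    Ideal.map_isPrime_of_surjective Ideal.Quotient.mk_surjective (by rwa [Ideal.mk_ker])
  have hq : (q.map (Ideal.Quotient.mk p)).IsPrime :=
    Ideal.map_isPrime_of_surjective Ideal.Quotient.mk_surjective (by rw [Ideal.mk_ker]; exact hps.trans hsq)
  have hq' : (q.map (Ideal.Quotient.mk s)).IsPrime :=
    Ideal.map_isPrime_of_surjective Ideal.Quotient.mk_surjective (by rwa [Ideal.mk_ker])
  rw [PrimeSpectrum.height_eq_orderHeight (⟨_, hs⟩ : PrimeSpectrum (R ⧸ p)),
    PrimeSpectrum.height_eq_orderHeight (⟨_, hq⟩ : PrimeSpectrum (R ⧸ p)),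
    PrimeSpectrum.height_eq_orderHeight (⟨_, hq'⟩ : PrimeSpectrum (R ⧸ s))]
  let f : PrimeSpectrum (R ⧸ s) → PrimeSpectrum (R ⧸ p) := PrimeSpectrum.comap (Ideal.Quotient.factor hps)
  have hf : StrictMono f := fun a b hab => lt_of_le_of_ne (Ideal.comap_mono hab.le) fun e =>
    hab.ne (PrimeSpectrum.comap_injective_of_surjective _ (Ideal.Quotient.factor_surjective hps) e)
  have hge : ∀ x, (⟨s.map (Ideal.Quotient.mk p), hs⟩ : PrimeSpectrum (R ⧸ p)) ≤ f x := fun x => by
    change s.map (Ideal.Quotient.mk p) ≤ x.asIdeal.comap (Ideal.Quotient.factor hps)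
    rw [Ideal.map_le_iff_le_comap, Ideal.comap_comap, Ideal.Quotient.factor_comp_mk]
    intro a ha
    rw [Ideal.mem_comap, Ideal.Quotient.eq_zero_iff_mem.2 ha]
    exact Submodule.zero_mem _
  have hlast : f ⟨q.map (Ideal.Quotient.mk s), hq'⟩ = ⟨q.map (Ideal.Quotient.mk p), hq⟩ := by
    refine PrimeSpectrum.ext ?_
    change (q.map (Ideal.Quotient.mk s)).comap (Ideal.Quotient.factor hps) = _
    conv_lhs => rw [← Ideal.Quotient.factor_comp_mk hps, ← Ideal.map_map]
    rw [Ideal.comap_map_of_surjective _ (Ideal.Quotient.factor_surjective hps)]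
    refine sup_eq_left.2 ?_
    intro z hz
    obtain ⟨r, rfl⟩ := Ideal.Quotient.mk_surjective z
    exact Ideal.mem_map_of_mem _ (hsq (Ideal.Quotient.eq_zero_iff_mem.1 hz))
  rw [Order.height_eq_iSup_last_eq (⟨q.map (Ideal.Quotient.mk s), hq'⟩ : PrimeSpectrum (R ⧸ s))]
  have : Nonempty { l : LTSeries (PrimeSpectrum (R ⧸ s)) // l.last = ⟨q.map (Ideal.Quotient.mk s), hq'⟩ } :=
    ⟨⟨RelSeries.singleton _ ⟨_, hq'⟩, rfl⟩⟩
  simp only [iSup_subtype', ENat.add_iSup]
  refine iSup_le fun l => ?_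
  have hl := height_add_length_le (l.1.map f hf)
  rw [LTSeries.last_map, l.2, hlast] at hl
  refine le_trans ?_ hl
  refine add_le_add (Order.height_mono ?_) (le_of_eq rfl)
  rw [LTSeries.head_map]
  exact hge _

variable [IsNoetherianRing R] (S : Submonoid R)

theorem uKilled_localizeRes {M : ModuleCat.{u} R} (J : InjectiveResolution M) {a : Ideal R} {t : R} {j : ℕ}
    (h : UKilled J a t j) :
    UKilled (localizeRes S J) (a.map (algebraMap R (Localization S))) (algebraMap R (Localization S) t) j := by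
  suffices ∀ z : (J.cocomplex.X j).localizedModule S,
      z ∈ DRing.torsionSub (a.map (algebraMap R (Localization S))) ((J.cocomplex.X j).localizedModule S) →
      dloc S J j (j + 1) z = 0 → algebraMap R (Localization S) t • z ∈
        (boundary (localizeRes S J) (a.map (algebraMap R (Localization S))) j :
          Submodule (Localization S) ((J.cocomplex.X j).localizedModule S)) from this
  intro z hz hd
  obtain ⟨x, hx, s, hs⟩ := exists_rep S J z hz
  have h0 : floc S J (j + 1) (J.cocomplex.d j (j + 1) x) = 0 := by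
    rw [← dloc_floc, ← hs, LinearMap.map_smul_of_tower]
    rw [hd, smul_zero]
  obtain ⟨v, hv⟩ := (IsLocalizedModule.eq_zero_iff S (floc S J (j + 1))).1 h0
  have hb := floc_mem_boundary S J (h ((v : R) • x) (Submodule.smul_mem _ _ hx) (by rw [map_smul]; exact hv))
  rw [map_smul, map_smul, ← hs, smul_smul, smul_smul, ← algebraMap_smul (Localization S) (t * v * s), map_mul,
    map_mul] at hb
  rw [show algebraMap R (Localization S) t * algebraMap R (Localization S) v * algebraMap R (Localization S) s =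
    (algebraMap R (Localization S) v * algebraMap R (Localization S) s) * algebraMap R (Localization S) t by ring,
    mul_smul] at hb
  exact (Submodule.smul_mem_iff_of_isUnit
    (boundary (localizeRes S J) (a.map (algebraMap R (Localization S))) j :
      Submodule (Localization S) ((J.cocomplex.X j).localizedModule S))
    ((IsLocalization.map_units (Localization S) v).mul (IsLocalization.map_units (Localization S) s))).1 hb

variable (M : Type u) [AddCommGroup M] [Module R M] [Module.Finite R M]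
  (J : InjectiveResolution (ModuleCat.of R M))

theorem exists_not_uKilled_of_notMem {a : Ideal R} {b : R} (q : Ideal R) [q.IsPrime] (haq : a ≤ q) (hbq : b ∉ q) (N : ℕ)
    (hN : LocCoh.depth (Localization.AtPrime q) (LocalizedModule q.primeCompl M) ≤ N) (k : ℕ) :
    ∃ i, i ≤ N ∧ ¬ UKilled J a (b ^ k) i := by
  by_contra hcon
  push Not at hcon
  let A := Localization.AtPrime q
  have hv : ∀ i, i < N + 1 → Subsingleton (LocCoh.H (a.map (algebraMap R A)) i (LocalizedModule q.primeCompl M)) :=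
    fun i hi => (subsingleton_localized_iff q.primeCompl M J _ i).2 (vanish_localizeRes_of_exists q.primeCompl J
      fun x hx hd => ⟨⟨b ^ k, fun h => hbq (‹q.IsPrime›.mem_of_pow_mem k h)⟩, hcon i (by lia) x hx hd⟩)
  obtain ⟨rs, hlen, hrs, hmem⟩ := exists_isWeaklyRegular _ (N + 1) (LocalizedModule q.primeCompl M) hv
  have hle : ((N + 1 : ℕ) : ℕ∞) ≤ LocCoh.depth A (LocalizedModule q.primeCompl M) := by
    unfold LocCoh.depth
    refine (le_idealDepth_iff _ _ _).2 fun i hi => subsingleton_of_isWeaklyRegular _ rs _ hrs (fun r hr => ?_) i (by rw [hlen]; exact hi)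
    refine IsLocalRing.le_maximalIdeal (fun htop => ?_) (hmem r hr)
    exact (IsLocalRing.maximalIdeal.isMaximal A).ne_top (top_le_iff.1 (htop ▸ (by
      rw [← IsLocalization.AtPrime.map_eq_maximalIdeal q A]
      exact Ideal.map_mono haq)))
  have := Nat.cast_le.1 (hle.trans hN)
  lia

theorem exists_between {p q : Ideal R} [p.IsPrime] [q.IsPrime] {b : R} (hb : b ∉ p) (hbq : b ∈ q) (hpq : p ≤ q)
    (h2 : ¬ ∀ P : Ideal R, P.IsPrime → p ≤ P → P ≤ q → P = p ∨ P = q) :
    ∃ P : Ideal R, P.IsPrime ∧ p < P ∧ P < q ∧ b ∉ P := by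
  classical
  push Not at h2
  obtain ⟨Q, hQ, hpQ, hQq, hQp, hQq'⟩ := h2
  replace hpQ : p < Q := lt_of_le_of_ne hpQ (Ne.symm hQp)
  replace hQq : Q < q := lt_of_le_of_ne hQq hQq'
  have hker : RingHom.ker (Ideal.Quotient.mk p) ≤ p := (Ideal.mk_ker).le
  have hinj : ∀ {U V : Ideal R}, p ≤ U → p ≤ V → U < V → U.map (Ideal.Quotient.mk p) < V.map (Ideal.Quotient.mk p) :=
    fun {U V} hU hV hlt => lt_of_le_of_ne (Ideal.map_mono hlt.le) fun e => hlt.ne (by
      have := congrArg (Ideal.comap (Ideal.Quotient.mk p)) e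
      rwa [Ideal.comap_map_of_surjective' _ Ideal.Quotient.mk_surjective, Ideal.comap_map_of_surjective' _ Ideal.Quotient.mk_surjective,
        sup_eq_left.2 (hker.trans hU), sup_eq_left.2 (hker.trans hV)] at this)
  have hprime : ∀ {U : Ideal R}, U.IsPrime → p ≤ U → (U.map (Ideal.Quotient.mk p)).IsPrime := fun {U} hU h =>
    Ideal.map_isPrime_of_surjective Ideal.Quotient.mk_surjective (hker.trans h)
  have hmin : ∀ {P : Ideal R} {y : R}, P ∈ (Ideal.span {y} ⊔ p).minimalPrimes →
      (P.map (Ideal.Quotient.mk p)).height ≤ 1 := fun {P y} hP => by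
    refine Ideal.height_le_one_of_isPrincipal_of_mem_minimalPrimes (Ideal.span {Ideal.Quotient.mk p y}) _
      ⟨⟨hprime hP.1.1 (le_sup_right.trans hP.1.2), ?_⟩, fun V ⟨hV, hVy⟩ hVle => ?_⟩
    · rw [Ideal.span_le, Set.singleton_subset_iff]
      exact Ideal.mem_map_of_mem _ (hP.1.2 (Submodule.mem_sup_left (Ideal.mem_span_singleton_self y)))
    · rw [Ideal.map_le_iff_le_comap]
      refine hP.2 ⟨Ideal.comap_isPrime _ V, sup_le ?_ ?_⟩ ?_
      · rw [Ideal.span_le, Set.singleton_subset_iff]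
        exact hVy (Ideal.mem_span_singleton_self _)
      · exact fun z hz => by rw [Ideal.mem_comap, Ideal.Quotient.eq_zero_iff_mem.2 hz]; exact Submodule.zero_mem _
      · refine (Ideal.comap_mono hVle).trans ?_
        rw [Ideal.comap_map_of_surjective' _ Ideal.Quotient.mk_surjective,
          sup_eq_left.2 (hker.trans (le_sup_right.trans hP.1.2))]
  have hchain : ∀ {U V : Ideal R}, U.IsPrime → V.IsPrime → p < U → U < V →
      ¬ (V.map (Ideal.Quotient.mk p)).height ≤ 1 := fun {U V} hU hV h1 h2 h => by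
    have := hprime hU h1.le
    have := hprime hV (h1.le.trans h2.le)
    have := hprime ‹p.IsPrime› le_rfl
    have e1 := Ideal.height_add_one_le_of_lt_of_isPrime (hinj le_rfl h1.le h1)
    have e2 := Ideal.height_add_one_le_of_lt_of_isPrime (hinj h1.le (h1.le.trans h2.le) h2)
    have e3 : ((1 : ℕ) + 1 : ℕ∞) ≤ 1 := le_trans (le_trans (add_le_add (le_trans le_add_self e1) le_rfl) e2) h
    exact absurd e3 (by decide)
  obtain ⟨y, hy, hyP⟩ : ∃ y ∈ q, ∀ P ∈ (Ideal.span {b} ⊔ p).minimalPrimes, y ∉ P := by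
    by_contra hcon
    push Not at hcon
    obtain ⟨P, hP, hle⟩ := (Ideal.subset_union_prime_finite
      (Ideal.finite_minimalPrimes_of_isNoetherianRing R (Ideal.span {b} ⊔ p)) (f := fun P : Ideal R => P) ⊥ ⊥
      fun P hP _ _ => hP.1.1).1 (show (q : Set R) ⊆ ⋃ P ∈ (Ideal.span {b} ⊔ p).minimalPrimes, (P : Set R) from fun z hz => by
        obtain ⟨P, hP, hzP⟩ := hcon z hz
        exact Set.mem_biUnion hP hzP)
    have hqP : P = q := le_antisymm (hP.2 ⟨‹q.IsPrime›, sup_le ((Ideal.span_le).2 (Set.singleton_subset_iff.2 hbq)) hpq⟩ hle) hle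
    exact hchain hQ ‹q.IsPrime› hpQ hQq (hqP ▸ hmin hP)
  obtain ⟨P, hP, hPq⟩ := Ideal.exists_minimalPrimes_le (I := Ideal.span {y} ⊔ p) (J := q)
    (sup_le ((Ideal.span_le).2 (Set.singleton_subset_iff.2 hy)) hpq)
  have hyP' : y ∈ P := hP.1.2 (Submodule.mem_sup_left (Ideal.mem_span_singleton_self y))
  have hpP : p ≤ P := le_sup_right.trans hP.1.2
  obtain ⟨P₀, hP₀, hP₀q⟩ := Ideal.exists_minimalPrimes_le (I := Ideal.span {b} ⊔ p) (J := q)
    (sup_le ((Ideal.span_le).2 (Set.singleton_subset_iff.2 hbq)) hpq)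
  have hpP' : p < P := lt_of_le_of_ne hpP fun e => hyP P₀ hP₀ (le_sup_right.trans hP₀.1.2 (e ▸ hyP'))
  refine ⟨P, hP.1.1, hpP', lt_of_le_of_ne hPq fun e => ?_, fun hbP => ?_⟩
  · exact hchain hQ ‹q.IsPrime› hpQ hQq (e ▸ hmin hP)
  · have := hP.1.1
    obtain ⟨P₁, hP₁, hP₁P⟩ := Ideal.exists_minimalPrimes_le (I := Ideal.span {b} ⊔ p) (J := P)
      (sup_le ((Ideal.span_le).2 (Set.singleton_subset_iff.2 hbP)) hpP)
    have h1 : p < P₁ := lt_of_le_of_ne (le_sup_right.trans hP₁.1.2) fun e =>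
      hb (e ▸ hP₁.1.2 (Submodule.mem_sup_left (Ideal.mem_span_singleton_self b)))
    exact hchain hP₁.1.1 hP.1.1 h1 (lt_of_le_of_ne hP₁P fun e => hyP P₁ hP₁ (e ▸ hyP')) (hmin hP)

theorem exists_not_uKilled_of_adjacent {a : Ideal R} {b : R} {p q : Ideal R} [p.IsPrime] [q.IsPrime] (hpq : p < q)
    (himm : ∀ P : Ideal R, P.IsPrime → p ≤ P → P ≤ q → P = p ∨ P = q) (haq : a ≤ q) (hap : ¬ a ≤ p)
    (hbp : b ∉ p) (hbq : b ∈ q) (s : ℕ)
    (hs : LocCoh.depth (Localization.AtPrime p) (LocalizedModule p.primeCompl M) = s) (k : ℕ) :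
    ∃ i, i ≤ s + 1 ∧ ¬ UKilled J a (b ^ k) i := by
  obtain ⟨-, e, he⟩ := exists_soc_of_depth (p := p) M J s hs
  let A := Localization.AtPrime q
  let p' := p.map (algebraMap R A)
  have hdisj : Disjoint (q.primeCompl : Set R) (p : Set R) :=
    Set.disjoint_left.2 fun x hx hxp => hx (hpq.le hxp)
  have : p'.IsPrime := IsLocalization.isPrime_of_isPrime_disjoint q.primeCompl A p ‹_› hdisj
  have hcomap : p'.comap (algebraMap R A) = p :=
    IsLocalization.under_map_of_isPrime_disjoint q.primeCompl A ‹p.IsPrime› hdisj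
  have hmax : q.map (algebraMap R A) = IsLocalRing.maximalIdeal A := IsLocalization.AtPrime.map_eq_maximalIdeal q A
  have hrad : ∀ {c : Ideal A}, (∃ x ∈ q, algebraMap R A x ∈ c ∧ x ∉ p) → IsLocalRing.maximalIdeal A ≤ (c ⊔ p').radical := by
    rintro c ⟨x, -, hxc, hxp⟩
    rw [Ideal.radical_eq_sInf]
    refine le_sInf fun P ⟨hle, hP⟩ => ?_
    have hPq : P.comap (algebraMap R A) ≤ q := fun z hz => by
      by_contra hzq
      exact hP.ne_top (Ideal.eq_top_of_isUnit_mem _ hz (IsLocalization.map_units A (⟨z, hzq⟩ : q.primeCompl)))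
    rcases himm _ (Ideal.comap_isPrime _ P) (Ideal.map_le_iff_le_comap.1 (le_sup_right.trans hle)) hPq with h | h
    · exact absurd (h ▸ (hle (Submodule.mem_sup_left hxc) : x ∈ P.comap (algebraMap R A))) hxp
    · rw [← hmax, Ideal.map_le_iff_le_comap, h]
  obtain ⟨x₀, hx₀a, hx₀p⟩ := SetLike.not_le_iff_exists.1 hap
  let M' := (locFunctor q.primeCompl).obj (ModuleCat.of R M)
  have : Module.Finite A (LocalizedModule q.primeCompl M) := inferInstance
  have : Module.Finite A M' := Module.Finite.equiv (localizedIso q.primeCompl M).toLinearEquiv.symm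
  let J' : InjectiveResolution (ModuleCat.of A M') := localizeRes q.primeCompl J
  let e' : socCycles J' p' s := ⟨floc q.primeCompl J s e.1,
    (Submodule.mem_torsionBySet_iff _ _).2 fun c => by
      have hc : (c : A) ∈ p' := (pow_one p').le c.2
      generalize (c : A) = c at hc ⊢
      induction hc using Submodule.span_induction with
      | mem c hc =>
        obtain ⟨r, hr, rfl⟩ := hc
        show algebraMap R A r • floc q.primeCompl J s e.1 = 0
        rw [algebraMap_smul, ← map_smul, socCycles_kill J e r (by rwa [pow_one]), map_zero]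
      | zero => exact zero_smul _ _
      | add x y _ _ hx hy => exact (add_smul _ _ _).trans ((congrArg₂ (· + ·) hx hy).trans (add_zero _))
      | smul x y _ hy => exact (mul_smul x y _).trans ((congrArg (x • ·) hy).trans (smul_zero x)),
    (dloc_floc q.primeCompl J s (s + 1) e.1).trans ((congrArg _ e.2.2).trans (map_zero _))⟩
  have he' : ∀ w ∉ p', w • (e' : J'.cocomplex.X s) ∉ boundary J' p' s := fun w hw hmem => by
    obtain ⟨⟨r, σ⟩, hr⟩ := IsLocalization.surj q.primeCompl w
    have hrp : r ∉ p := fun h => hw <| by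
      have h1 : w * algebraMap R A σ ∈ p' := hr ▸ Ideal.mem_map_of_mem _ h
      exact (‹p'.IsPrime›.mem_or_mem h1).resolve_right fun h2 =>
        σ.2 (hpq.le (hcomap ▸ (h2 : (σ : R) ∈ p'.comap (algebraMap R A))))
    have h1 : floc q.primeCompl J s (r • e.1) ∈ boundary J' p' s := by
      rw [map_smul, ← algebraMap_smul A r, ← hr, mul_comm, mul_smul]
      exact Submodule.smul_mem _ _ hmem
    obtain ⟨v, hv⟩ := exists_smul_mem_boundary q.primeCompl J h1
    rw [← mul_smul] at hv
    exact he _ (fun h => (‹p.IsPrime›.mem_or_mem h).elim (fun h3 => v.2 (hpq.le h3)) hrp) hv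
  obtain ⟨i, hi, hne⟩ := not_uKilled_of_one_dimensional (a := a.map (algebraMap R A)) (b := algebraMap R A b)
    ((IsLocalization.AtPrime.to_map_mem_maximal_iff A q b).2 hbq) (fun h => hbp (hcomap ▸ (h : b ∈ p'.comap (algebraMap R A))))
    (hrad ⟨x₀, haq hx₀a, Ideal.mem_map_of_mem _ hx₀a, hx₀p⟩)
    (hrad ⟨b, hbq, Ideal.mem_span_singleton_self _, hbp⟩) (hmax ▸ Ideal.map_mono haq) M' J' s e' he' k
  refine ⟨i, hi, fun h => hne ?_⟩
  have := uKilled_localizeRes q.primeCompl J h
  rw [map_pow] at this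
  exact this

theorem exists_not_uKilled {a : Ideal R} {b : R} : ∀ (d : ℕ) (p q : Ideal R) [p.IsPrime] [q.IsPrime],
    q ∈ (a ⊔ p).minimalPrimes → b ∉ p → (q.map (Ideal.Quotient.mk p)).height ≤ d → ∀ s : ℕ,
      LocCoh.depth (Localization.AtPrime p) (LocalizedModule p.primeCompl M) = s → ∀ k : ℕ,
        ∃ i, i ≤ s + d ∧ ¬ UKilled J a (b ^ k) i := by
  intro d
  induction d using Nat.strong_induction_on with
  | _ d ih =>
    intro p q _ _ hq hbp hht s hs k
    have hpq : p ≤ q := le_sup_right.trans hq.1.2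
    have haq : a ≤ q := le_sup_left.trans hq.1.2
    by_cases hbq : b ∈ q
    swap
    · refine exists_not_uKilled_of_notMem M J q haq hbq (s + d) ?_ k
      rw [Nat.cast_add, ← hs]
      exact depth_localization_le M d p q hpq hht
    have hpq' : p < q := lt_of_le_of_ne hpq fun e => hbp (e ▸ hbq)
    have hap : ¬ a ≤ p := fun h => hpq'.not_ge (hq.2 ⟨‹p.IsPrime›, sup_le h le_rfl⟩ hpq)
    have hprime : ∀ {U V : Ideal R}, U.IsPrime → V.IsPrime → U < V → 1 ≤ (V.map (Ideal.Quotient.mk U)).height := by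
      intro U V hU hV hlt
      have h1 : (V.map (Ideal.Quotient.mk U)).IsPrime :=
        Ideal.map_isPrime_of_surjective Ideal.Quotient.mk_surjective (by rw [Ideal.mk_ker]; exact hlt.le)
      have h2 : (⊥ : Ideal (R ⧸ U)) < V.map (Ideal.Quotient.mk U) := by
        refine bot_lt_iff_ne_bot.2 fun e => hlt.not_ge ?_
        rwa [Ideal.map_eq_bot_iff_le_ker, Ideal.mk_ker] at e
      exact le_trans le_add_self (Ideal.height_add_one_le_of_lt_of_isPrime h2)
    by_cases himm : ∀ P : Ideal R, P.IsPrime → p ≤ P → P ≤ q → P = p ∨ P = q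
    · obtain ⟨i, hi, hne⟩ := exists_not_uKilled_of_adjacent M J hpq' himm haq hap hbp hbq s hs k
      have hd : 1 ≤ d := by exact_mod_cast (hprime ‹p.IsPrime› ‹q.IsPrime› hpq').trans hht
      exact ⟨i, by lia, hne⟩
    obtain ⟨P, hP, hpP, hPq, hbP⟩ := exists_between hbp hbq hpq himm
    have hadd := (height_map_add_le hpP.le hPq.le).trans hht
    obtain ⟨d₁, hd₁⟩ := ENat.ne_top_iff_exists.1 (ne_top_of_le_ne_top (ENat.natCast_ne_top d) (le_self_add.trans hadd))
    obtain ⟨d₂, hd₂⟩ := ENat.ne_top_iff_exists.1 (ne_top_of_le_ne_top (ENat.natCast_ne_top d) (le_add_self.trans hadd))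
    rw [← hd₁, ← hd₂, ← Nat.cast_add, Nat.cast_le] at hadd
    have h1 : 1 ≤ d₁ := by exact_mod_cast hd₁ ▸ hprime ‹p.IsPrime› hP hpP
    have hdep := depth_localization_le M d₁ p P hpP.le hd₁.ge
    rw [hs, ← Nat.cast_add] at hdep
    obtain ⟨s', hs'⟩ := ENat.ne_top_iff_exists.1 (ne_top_of_le_ne_top (ENat.natCast_ne_top _) hdep)
    have hs'' : s' ≤ s + d₁ := by rw [← hs', Nat.cast_le] at hdep; exact hdep
    obtain ⟨i, hi, hne⟩ := ih d₂ (by lia) P q ⟨⟨‹q.IsPrime›, sup_le haq hPq.le⟩,
      fun V hV hVq => hq.2 ⟨hV.1, sup_le (le_sup_left.trans hV.2) (hpP.le.trans (le_sup_right.trans hV.2))⟩ hVq⟩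
      hbP hd₂.ge s' hs'.symm k
    exact ⟨i, by lia, hne⟩

end Groth.Agent.LocH
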