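import Groth.Agent.LocH.Killing

/-!
Spreading out projective dimension from a localisation.
-/

set_option autoImplicit false

namespace Groth.Agent.LocH

universe u

open CategoryTheory CategoryTheory.Limits

variable {R : Type u} [CommRing R] [IsNoetherianRing R]

/-- `pdLT S M k`: the localisation of `M` at `S` has projective dimension less than `k`. -/
abbrev pdLT (S : Submonoid R) (M : Type u) [AddCommGroup M] [Module R M] (k : ℕ) : Prop :=
  HasProjectiveDimensionLT (ModuleCat.of (Localization S) (LocalizedModule S M)) k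

theorem pdLT_zero_iff (S : Submonoid R) (M : Type u) [AddCommGroup M] [Module R M] [Module.Finite R M] :
    pdLT S M 0 ↔ ∃ r ∈ S, ∀ m : M, r • m = 0 := by
  rw [pdLT, hasProjectiveDimensionLT_zero_iff_isZero, ModuleCat.isZero_iff_subsingleton]
  change Subsingleton (LocalizedModule S M) ↔ _
  rw [LocalizedModule.subsingleton_iff]
  refine ⟨fun h => ?_, fun ⟨r, hr, h⟩ m => ⟨r, hr, h m⟩⟩
  choose f hf hfm using h
  obtain ⟨t, ht⟩ := Module.Finite.fg_top (R := R) (M := M)
  refine ⟨∏ i ∈ t, f i, Submonoid.prod_mem _ fun i _ => hf i, fun m => ?_⟩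
  have hm : m ∈ Submodule.span R (t : Set M) := ht ▸ Submodule.mem_top
  induction hm using Submodule.span_induction with
  | mem x hx =>
    obtain ⟨c, hc⟩ := Finset.dvd_prod_of_mem f hx
    rw [hc, mul_comm, mul_smul, hfm, smul_zero]
  | zero => exact smul_zero _
  | add x y _ _ hx hy => rw [smul_add, hx, hy, add_zero]
  | smul a x _ hx => rw [smul_comm, hx, smul_zero]

theorem projective_fin (S : Submonoid R) (n : ℕ) :
    Module.Projective (Localization S) (LocalizedModule S (Fin n → R)) :=
  Module.Projective.of_equiv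
    (IsLocalizedModule.isBaseChange S (Localization S) (LocalizedModule.mkLinearMap S (Fin n → R))).equiv

theorem pdLT_one_iff (S : Submonoid R) (M : Type u) [AddCommGroup M] [Module R M] [Module.Finite R M] {n : ℕ}
    (π : (Fin n → R) →ₗ[R] M) (hπ : Function.Surjective π) :
    pdLT S M 1 ↔ ∃ (g : M →ₗ[R] (Fin n → R)) (r : R), r ∈ S ∧ ∀ m, π (g m) = r • m := by
  rw [pdLT, ← CategoryTheory.projective_iff_hasProjectiveDimensionLT_one, ← _root_.IsProjective.iff_projective]
  refine ⟨fun h => exists_factor M S π hπ, fun ⟨g, r, hr, hg⟩ => ?_⟩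
  have := projective_fin S n
  refine Module.Projective.of_split (Localization.mk 1 ⟨r, hr⟩ • LocalizedModule.map S g) (LocalizedModule.map S π)
    (LinearMap.ext fun x => ?_)
  induction x using LocalizedModule.induction_on with
  | h m s =>
    simp only [LinearMap.comp_apply, LinearMap.smul_apply, LinearMap.id_coe, id_eq, map_smul, LocalizedModule.map_mk, hg,
      LocalizedModule.mk_smul_mk, one_smul]
    exact LocalizedModule.mk_cancel_common_left (⟨r, hr⟩ : S) s m

theorem pdLT_succ_iff (S : Submonoid R) (M : Type u) [AddCommGroup M] [Module R M] {n : ℕ}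
    (π : (Fin n → R) →ₗ[R] M) (hπ : Function.Surjective π) (k : ℕ) :
    pdLT S M (k + 2) ↔ pdLT S (LinearMap.ker π) (k + 1) := by
  let S' : ShortComplex (ModuleCat.{u} (Localization S)) :=
    ShortComplex.mk
      (ModuleCat.ofHom (X := LocalizedModule S (LinearMap.ker π)) (Y := LocalizedModule S (Fin n → R))
        (LocalizedModule.map S (LinearMap.ker π).subtype))
      (ModuleCat.ofHom (X := LocalizedModule S (Fin n → R)) (Y := LocalizedModule S M) (LocalizedModule.map S π))
      (ModuleCat.hom_ext (LinearMap.ext fun x =>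
        (LocalizedModule.map_exact S _ _ (LinearMap.exact_subtype_ker_map π)).apply_apply_eq_zero x))
  have hS' : S'.ShortExact :=
    { exact := (ShortComplex.ShortExact.moduleCat_exact_iff_function_exact S').2
        (LocalizedModule.map_exact S _ _ (LinearMap.exact_subtype_ker_map π))
      mono_f := (ModuleCat.mono_iff_injective _).2 (LocalizedModule.map_injective _ _ (LinearMap.ker π).injective_subtype)
      epi_g := (ModuleCat.epi_iff_surjective _).2 (LocalizedModule.map_surjective _ _ hπ) }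
  exact hS'.hasProjectiveDimensionLT_X₃_iff k ((_root_.IsProjective.iff_projective _).1 (projective_fin S n))

theorem pdLT_mono {S T : Submonoid R} (hST : S ≤ T) : ∀ (k : ℕ) (M : Type u) [AddCommGroup M] [Module R M]
    [Module.Finite R M], pdLT S M k → pdLT T M k
  | 0, M, _, _, _, h => by
    obtain ⟨r, hr, hrm⟩ := (pdLT_zero_iff S M).1 h
    exact (pdLT_zero_iff T M).2 ⟨r, hST hr, hrm⟩
  | 1, M, _, _, _, h => by
    obtain ⟨n, π, hπ⟩ := Module.Finite.exists_fin' R M
    obtain ⟨g, r, hr, hg⟩ := (pdLT_one_iff S M π hπ).1 h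
    exact (pdLT_one_iff T M π hπ).2 ⟨g, r, hST hr, hg⟩
  | k + 2, M, _, _, _, h => by
    obtain ⟨n, π, hπ⟩ := Module.Finite.exists_fin' R M
    exact (pdLT_succ_iff T M π hπ k).2 (pdLT_mono hST (k + 1) _ ((pdLT_succ_iff S M π hπ k).1 h))

theorem pdLT_exists {T : Submonoid R} : ∀ (k : ℕ) (M : Type u) [AddCommGroup M] [Module R M]
    [Module.Finite R M], pdLT T M k → ∃ s ∈ T, pdLT (Submonoid.powers s) M k
  | 0, M, _, _, _, h => by
    obtain ⟨r, hr, hrm⟩ := (pdLT_zero_iff T M).1 h
    exact ⟨r, hr, (pdLT_zero_iff _ M).2 ⟨r, Submonoid.mem_powers r, hrm⟩⟩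
  | 1, M, _, _, _, h => by
    obtain ⟨n, π, hπ⟩ := Module.Finite.exists_fin' R M
    obtain ⟨g, r, hr, hg⟩ := (pdLT_one_iff T M π hπ).1 h
    exact ⟨r, hr, (pdLT_one_iff _ M π hπ).2 ⟨g, r, Submonoid.mem_powers r, hg⟩⟩
  | k + 2, M, _, _, _, h => by
    obtain ⟨n, π, hπ⟩ := Module.Finite.exists_fin' R M
    obtain ⟨s, hs, hsk⟩ := pdLT_exists (k + 1) _ ((pdLT_succ_iff T M π hπ k).1 h)
    exact ⟨s, hs, (pdLT_succ_iff _ M π hπ k).2 hsk⟩

theorem exists_projectiveDimension_eq {T : Submonoid R} (M : Type u) [AddCommGroup M] [Module R M] [Module.Finite R M]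
    (h : projectiveDimension (ModuleCat.of (Localization T) (LocalizedModule T M)) ≠ ⊤) :
    ∃ s ∈ T, projectiveDimension (ModuleCat.of (Localization (Submonoid.powers s)) (LocalizedModule (Submonoid.powers s) M)) =
      projectiveDimension (ModuleCat.of (Localization T) (LocalizedModule T M)) := by
  classical
  obtain ⟨d, hd⟩ := (projectiveDimension_ne_top_iff _).1 h
  have hex : ∃ k, pdLT T M k := ⟨d + 1, hd⟩
  obtain ⟨s, hs, hsk⟩ := pdLT_exists _ M (Nat.find_spec hex)
  refine ⟨s, hs, ?_⟩
  simp only [projectiveDimension]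
  congr! 5 with x i
  refine ⟨pdLT_mono (Submonoid.powers_le.2 hs) i M, fun hi => ?_⟩
  exact hasProjectiveDimensionLT_of_ge _ _ _ (Nat.find_min' hex hi)

end Groth.Agent.LocH
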