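import Mathlib
import Groth.Agent.LocH.Depth
import Groth.Agent.LocH.Sequence
import Groth.Agent.LocH.Grothendieck

/-!
Annihilation of local cohomology through locally free and finite projective dimension modules.
-/

set_option autoImplicit false

namespace Groth.Agent.LocH

universe u

open CategoryTheory CategoryTheory.Limits

variable {R : Type u} [CommRing R] [IsNoetherianRing R]

theorem H_pi_killed (I : Ideal R) (i k : ℕ) (a : R) (h : ∀ x : LocCoh.H I i R, a • x = 0)
    (x : LocCoh.H I i (Fin k → R)) : a • x = 0 := by
  let F := localCohomology I i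
  let P : Fin k → (ModuleCat.of R (Fin k → R) ⟶ ModuleCat.of R R) := fun j => ModuleCat.ofHom (LinearMap.proj j)
  let s : Fin k → (ModuleCat.of R R ⟶ ModuleCat.of R (Fin k → R)) := fun j => ModuleCat.ofHom (LinearMap.single R (fun _ => R) j)
  have hid : 𝟙 (ModuleCat.of R (Fin k → R)) = ∑ j, P j ≫ s j := by
    refine ModuleCat.hom_ext (LinearMap.ext fun v => ?_)
    rw [ModuleCat.hom_sum, LinearMap.sum_apply]
    exact (Finset.univ_sum_single v).symm
  have hx : x = ∑ j, F.map (s j) (F.map (P j) x) := by
    have h1 : F.map (𝟙 _) = ∑ j, F.map (P j) ≫ F.map (s j) := by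
      rw [hid, Functor.map_sum]
      simp only [Functor.map_comp]
    have h2 := congrArg (fun φ => φ.hom x) h1
    rw [CategoryTheory.Functor.map_id, ModuleCat.hom_sum] at h2
    simpa [LinearMap.sum_apply] using h2
  rw [hx, Finset.smul_sum]
  refine Finset.sum_eq_zero fun j _ => ?_
  rw [← map_smul, h, map_zero]

theorem killed_of_factor {I : Ideal R} {i : ℕ} {M : Type u} [AddCommGroup M] [Module R M] {Q : Type u}
    [AddCommGroup Q] [Module R Q] {r a : R} (g : M →ₗ[R] Q) (h : Q →ₗ[R] M) (hgh : ∀ m, h (g m) = r • m)
    (hQ : ∀ x : LocCoh.H I i Q, a • x = 0) (x : LocCoh.H I i M) : (a * r) • x = 0 := by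
  have he : r • 𝟙 (ModuleCat.of R M) = ModuleCat.ofHom g ≫ ModuleCat.ofHom h := by
    ext m
    exact (hgh m).symm
  rw [mul_smul, ← map_smul_id_apply (M := ModuleCat.of R M) r i x, he, Functor.map_comp]
  change a • (localCohomology I i).map (ModuleCat.ofHom h) ((localCohomology I i).map (ModuleCat.ofHom g) x) = 0
  rw [← map_smul, hQ, map_zero]

/-- A finite module projective after localisation factors through a finite free module up to the submonoid. -/
theorem exists_factor (M : Type u) [AddCommGroup M] [Module R M] [Module.Finite R M] (S : Submonoid R)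
    [Module.Projective (Localization S) (LocalizedModule S M)] {n : ℕ} (π : (Fin n → R) →ₗ[R] M)
    (hπ : Function.Surjective π) : ∃ (g : M →ₗ[R] (Fin n → R)) (r : R), r ∈ S ∧ ∀ m, π (g m) = r • m := by
  have : Module.FinitePresentation R M := Module.finitePresentation_of_finite R M
  obtain ⟨σ, hσ⟩ := Module.projective_lifting_property (LocalizedModule.map S π) LinearMap.id
    (LocalizedModule.map_surjective S π hπ)
  obtain ⟨g, s, hg⟩ := Module.FinitePresentation.exists_lift_of_isLocalizedModule S
    (LocalizedModule.mkLinearMap S (Fin n → R)) ((σ.restrictScalars R) ∘ₗ LocalizedModule.mkLinearMap S M)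
  have h1 : LocalizedModule.mkLinearMap S M ∘ₗ (π ∘ₗ g) = LocalizedModule.mkLinearMap S M ∘ₗ ((s : R) • LinearMap.id) := by
    ext m
    have h2 : LocalizedModule.mkLinearMap S (Fin n → R) (g m) = (s : R) • σ (LocalizedModule.mkLinearMap S M m) :=
      LinearMap.congr_fun hg m
    have h3 := congrArg (LocalizedModule.map S π) h2
    rw [LinearMap.map_smul_of_tower, ← LinearMap.comp_apply (LocalizedModule.map S π), hσ] at h3
    simpa [LocalizedModule.smul'_mk] using h3
  obtain ⟨t, ht⟩ := Module.Finite.exists_smul_of_comp_eq_of_isLocalizedModule S _ _ _ h1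
  refine ⟨(t : R) • g, t * s, S.mul_mem t.2 s.2, fun m => ?_⟩
  have := LinearMap.congr_fun ht m
  simpa [mul_smul, Submonoid.smul_def] using this

theorem H_self_subsingleton {b : Ideal R} {i : ℕ} (hi : (i : ℕ∞) < LocCoh.idealDepth b R) :
    Subsingleton (LocCoh.H b i R) :=
  (le_idealDepth_iff b R (i + 1)).1 (by
    push_cast
    exact (ENat.add_one_le_iff (ENat.coe_ne_top i)).2 hi) i i.lt_succ_self

theorem exists_killing_of_pd (p : Ideal R) [p.IsPrime] : ∀ (h : ℕ) (M : Type u) [AddCommGroup M] [Module R M]
    [Module.Finite R M],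
    HasProjectiveDimensionLE (ModuleCat.of (Localization.AtPrime p) (LocalizedModule p.primeCompl M)) h →
    ∃ s : R, s ∉ p ∧ ∀ (b : Ideal R) (i : ℕ), ((i + h : ℕ) : ℕ∞) < LocCoh.idealDepth b R →
      ∀ x : LocCoh.H b i M, s • x = 0 := by
  intro h
  induction h with
  | zero =>
    intro M _ _ _ hpd
    obtain ⟨n, π, hπ⟩ := Module.Finite.exists_fin' R M
    have hP : Projective (ModuleCat.of (Localization.AtPrime p) (LocalizedModule p.primeCompl M)) :=
      projective_iff_hasProjectiveDimensionLT_one.2 hpd
    have : Module.Projective (Localization p.primeCompl) (LocalizedModule p.primeCompl M) :=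
      (IsProjective.iff_projective _).2 hP
    obtain ⟨g, r, hr, hgr⟩ := exists_factor M p.primeCompl π hπ
    refine ⟨r, hr, fun b i hi x => ?_⟩
    have := H_self_subsingleton (b := b) (i := i) (by simpa using hi)
    have h := killed_of_factor (I := b) (i := i) (a := 1) g π hgr (H_pi_killed b i n 1 fun y => Subsingleton.elim _ _) x
    rwa [one_mul] at h
  | succ h ih =>
    intro M _ _ _ hpd
    obtain ⟨n, π, hπ⟩ := Module.Finite.exists_fin' R M
    let S : ShortComplex (ModuleCat.{u} R) :=
      ShortComplex.mk (ModuleCat.ofHom (LinearMap.ker π).subtype) (ModuleCat.ofHom π) (by ext x; exact x.2)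
    have hS : S.ShortExact :=
      { exact := (ShortComplex.ShortExact.moduleCat_exact_iff_function_exact S).2 (LinearMap.exact_subtype_ker_map π)
        mono_f := (ModuleCat.mono_iff_injective _).2 (LinearMap.ker π).injective_subtype
        epi_g := (ModuleCat.epi_iff_surjective _).2 hπ }
    let S' : ShortComplex (ModuleCat.{u} (Localization.AtPrime p)) :=
      ShortComplex.mk
        (ModuleCat.ofHom (X := LocalizedModule p.primeCompl (LinearMap.ker π)) (Y := LocalizedModule p.primeCompl (Fin n → R))
          (LocalizedModule.map p.primeCompl (LinearMap.ker π).subtype))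
        (ModuleCat.ofHom (X := LocalizedModule p.primeCompl (Fin n → R)) (Y := LocalizedModule p.primeCompl M)
          (LocalizedModule.map p.primeCompl π))
        (ModuleCat.hom_ext (LinearMap.ext fun x =>
          (LocalizedModule.map_exact p.primeCompl _ _ (LinearMap.exact_subtype_ker_map π)).apply_apply_eq_zero x))
    have hS' : S'.ShortExact :=
      { exact := (ShortComplex.ShortExact.moduleCat_exact_iff_function_exact S').2
          (LocalizedModule.map_exact p.primeCompl _ _ (LinearMap.exact_subtype_ker_map π))
        mono_f := (ModuleCat.mono_iff_injective _).2 (LocalizedModule.map_injective _ _ (LinearMap.ker π).injective_subtype)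
        epi_g := (ModuleCat.epi_iff_surjective _).2 (LocalizedModule.map_surjective _ _ hπ) }
    have : Module.Projective (Localization.AtPrime p) (LocalizedModule p.primeCompl (Fin n → R)) :=
      Module.Projective.of_equiv
        (IsLocalizedModule.isBaseChange p.primeCompl (Localization.AtPrime p) (LocalizedModule.mkLinearMap p.primeCompl (Fin n → R))).equiv
    have hX₂ : Projective S'.X₂ := (IsProjective.iff_projective _).1 this
    have hK : HasProjectiveDimensionLE S'.X₁ h := (hS'.hasProjectiveDimensionLT_X₃_iff h hX₂).1 hpd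
    obtain ⟨s, hs, hkill⟩ := ih (LinearMap.ker π) hK
    refine ⟨s, hs, fun b i hi x => ?_⟩
    have h0 : (i : ℕ∞) < LocCoh.idealDepth b R := lt_of_le_of_lt (by exact_mod_cast Nat.le_add_right i (h + 1)) hi
    have := H_self_subsingleton h0
    have hd : delta hS i (I := b) (s • x) = 0 := by
      rw [map_smul]
      exact hkill b (i + 1) (by rw [show i + 1 + h = i + (h + 1) by omega]; exact hi) _
    obtain ⟨y, hy⟩ := exact₃ hS i hd
    have hy0 : y = 0 := (one_smul R y).symm.trans (H_pi_killed b i n 1 (fun z => Subsingleton.elim _ _) y)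
    rw [← hy, hy0, map_zero]

end Groth.Agent.LocH
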