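import Mathlib
import Groth.Agent.LocH.AdjDepth
import Groth.Agent.LocH.AdjDepthChange
import Groth.Agent.LocH.Killing
import Groth.Agent.LocH.SpreadPd
import Groth.Agent.LocH.LocalizeMap
import Groth.Agent.SerreReg.CM
import Groth.Agent.SerreReg.MiracleFinite
import Groth.Agent.InvFin.Depth
import Groth.Prelude.Def_W4bk5brsh7111920

/-!
The annihilator theorem over regular rings: powers of `b` kill `H^i_a(M)` below the `b`-minimum
`a`-adjusted depth.
-/

set_option autoImplicit false

namespace Groth.Agent.LocH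

universe u

open CategoryTheory CategoryTheory.Limits IsLocalRing RingTheory.Sequence

section Local

variable (A : Type u) [CommRing A] [IsRegularLocalRing A]

theorem subsingleton_H_regular_self {d : ℕ} (hd : ringKrullDim A = d) {i : ℕ} (hi : i < d) :
    Subsingleton (LocCoh.H (maximalIdeal A) i A) := by
  obtain ⟨rs, hlen, hrs, hspan⟩ := SerreReg.exists_regular_rsop d A hd
  exact subsingleton_of_isWeaklyRegular _ rs A hrs
    (fun r hr => hspan.le (Ideal.subset_span hr)) i (by omega)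

theorem subsingleton_H_regular_pi {d : ℕ} (hd : ringKrullDim A = d) {i : ℕ} (hi : i < d) (n : ℕ) :
    Subsingleton (LocCoh.H (maximalIdeal A) i (Fin n → A)) :=
  subsingleton_of_forall_eq 0 fun x => by
    have := subsingleton_H_regular_self A hd hi
    simpa using H_pi_killed (maximalIdeal A) i n 1 (fun y => Subsingleton.elim _ _) x

/-- Depth at least `d - k` gives projective dimension at most `k`. -/
theorem pdLE_of_vanish {d : ℕ} (hd : ringKrullDim A = d) : ∀ (k : ℕ) (N : Type u) [AddCommGroup N] [Module A N]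
    [Module.Finite A N], (∀ i, i + k < d → Subsingleton (LocCoh.H (maximalIdeal A) i N)) → SerreReg.PdLE A N k := by
  intro k
  induction k with
  | zero =>
    intro N _ _ _ h
    rw [SerreReg.pdLE_zero_iff]
    rcases subsingleton_or_nontrivial N with hN | hN
    · exact Module.Projective.of_free
    have hdep : (d : ℕ∞) ≤ LocCoh.depth A N := (le_idealDepth_iff _ N d).2 h
    have := SerreReg.free_of_hasRegSeq d A hd N (SerreReg.hasRegSeq_of_depth_module hdep)
    exact Module.Projective.of_free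
  | succ k ih =>
    intro N _ _ _ h
    obtain ⟨n, f, hf⟩ := Module.Finite.exists_fin' A N
    rw [SerreReg.pdLE_succ_iff f hf]
    refine ih _ fun i hi => ?_
    let S : ShortComplex (ModuleCat.{u} A) :=
      ShortComplex.mk (ModuleCat.ofHom (LinearMap.ker f).subtype) (ModuleCat.ofHom f) (by ext x; exact x.2)
    have hS : S.ShortExact :=
      { exact := (ShortComplex.ShortExact.moduleCat_exact_iff_function_exact S).2 (LinearMap.exact_subtype_ker_map f)
        mono_f := (ModuleCat.mono_iff_injective _).2 (LinearMap.ker f).injective_subtype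
        epi_g := (ModuleCat.epi_iff_surjective _).2 hf }
    cases i with
    | zero =>
      have := subsingleton_H_regular_pi A hd (i := 0) (by omega) n
      exact (map_injective_zero (maximalIdeal A) S.f (LinearMap.ker f).injective_subtype).subsingleton
    | succ j =>
      exact subsingleton_X₁ hS j (subsingleton_H_regular_pi A hd (by omega) n) (h j (by omega))

end Local

theorem height_add_height_map_le {R : Type u} [CommRing R] {p q : Ideal R} [p.IsPrime] [q.IsPrime] (hpq : p ≤ q) :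
    p.height + (q.map (Ideal.Quotient.mk p)).height ≤ q.height := by
  have hq : (q.map (Ideal.Quotient.mk p)).IsPrime :=
    Ideal.map_isPrime_of_surjective Ideal.Quotient.mk_surjective (by rwa [Ideal.mk_ker])
  rw [PrimeSpectrum.height_eq_orderHeight (⟨p, ‹_›⟩ : PrimeSpectrum R),
    PrimeSpectrum.height_eq_orderHeight (⟨_, hq⟩ : PrimeSpectrum (R ⧸ p)),
    PrimeSpectrum.height_eq_orderHeight (⟨q, ‹_›⟩ : PrimeSpectrum R)]
  let f : PrimeSpectrum (R ⧸ p) → PrimeSpectrum R := PrimeSpectrum.comap (Ideal.Quotient.mk p)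
  have hf : StrictMono f := fun a b hab => lt_of_le_of_ne (Ideal.comap_mono hab.le) fun e =>
    hab.ne (PrimeSpectrum.comap_injective_of_surjective _ Ideal.Quotient.mk_surjective e)
  have hge : ∀ x, (⟨p, ‹_›⟩ : PrimeSpectrum R) ≤ f x := fun x a ha => by
    show Ideal.Quotient.mk p a ∈ x.asIdeal
    rw [Ideal.Quotient.eq_zero_iff_mem.2 ha]
    exact Submodule.zero_mem _
  have hlast : f ⟨_, hq⟩ = ⟨q, ‹_›⟩ := PrimeSpectrum.ext (by
    show (q.map (Ideal.Quotient.mk p)).comap (Ideal.Quotient.mk p) = q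
    rw [Ideal.comap_map_of_surjective' _ Ideal.Quotient.mk_surjective, Ideal.mk_ker, sup_eq_left.2 hpq])
  rw [Order.height_eq_iSup_last_eq (⟨_, hq⟩ : PrimeSpectrum (R ⧸ p))]
  have : Nonempty { l : LTSeries (PrimeSpectrum (R ⧸ p)) // l.last = ⟨_, hq⟩ } :=
    ⟨⟨RelSeries.singleton _ ⟨_, hq⟩, rfl⟩⟩
  simp only [iSup_subtype', ENat.add_iSup]
  refine iSup_le fun l => ?_
  have hl := height_add_length_le (l.1.map f hf)
  rw [LTSeries.last_map, l.2, hlast] at hl
  refine le_trans ?_ hl
  refine add_le_add (Order.height_mono ?_) (le_of_eq rfl)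
  rw [LTSeries.head_map]
  exact hge _

variable {S : Type u} [CommRing S] [IsRegularRing S]

theorem height_le_idealDepth_self (q : Ideal S) : q.height ≤ LocCoh.idealDepth q S := by
  rw [idealDepth_eq_iInf]
  refine le_iInf₂ fun x hx => (Ideal.height_mono hx).trans ?_
  let A := Localization.AtPrime x.asIdeal
  obtain ⟨d, hd⟩ := ENat.ne_top_iff_exists.1 (x.asIdeal.height_ne_top x.isPrime.ne_top)
  have hdim : ringKrullDim A = d := by
    rw [IsLocalization.AtPrime.ringKrullDim_eq_height x.asIdeal A, ← hd]; rfl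
  rw [← hd]
  let e : LocalizedModule x.asIdeal.primeCompl S ≃ₗ[A] A :=
    (IsLocalizedModule.linearEquiv x.asIdeal.primeCompl (LocalizedModule.mkLinearMap x.asIdeal.primeCompl S)
      (Algebra.linearMap S A)).extendScalarsOfIsLocalization x.asIdeal.primeCompl A
  refine (?_ : (d : ℕ∞) ≤ LocCoh.depth A A).trans_eq (idealDepth_congr e _).symm
  exact (le_idealDepth_iff _ A d).2 fun i hi => subsingleton_H_regular_self A hdim hi

variable (M : Type u) [AddCommGroup M] [Module S M] [Module.Finite S M]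

/-- Some element outside `p` kills `H^i_q(M)` for `i < depth M_p + ht(q/p)`. -/
theorem exists_killer {p q : Ideal S} [p.IsPrime] [q.IsPrime] (hpq : p ≤ q) {n : ℕ}
    (hn : (n : ℕ∞) ≤ LocCoh.depth (Localization.AtPrime p) (LocalizedModule p.primeCompl M) +
      (q.map (Ideal.Quotient.mk p)).height) :
    ∃ s : S, s ∉ p ∧ ∀ i, i < n → ∀ x : LocCoh.H q i M, s • x = 0 := by
  let A := Localization.AtPrime p
  let N := LocalizedModule p.primeCompl M
  rcases subsingleton_or_nontrivial N with hN | hN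
  · obtain ⟨r, hr, hrm⟩ := (pdLT_zero_iff p.primeCompl M).1
      ((hasProjectiveDimensionLT_zero_iff_isZero _).2 (ModuleCat.isZero_iff_subsingleton.2 hN))
    exact ⟨r, hr, fun i _ x => smul_eq_zero_of_smul_eq_zero (M := ModuleCat.of S M) hrm i x⟩
  obtain ⟨h, hh⟩ := ENat.ne_top_iff_exists.1 (p.height_ne_top ‹p.IsPrime›.ne_top)
  have hdim : ringKrullDim A = h := by
    rw [IsLocalization.AtPrime.ringKrullDim_eq_height p A, ← hh]; rfl
  have hqp : (q.map (Ideal.Quotient.mk p)).IsPrime :=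
    Ideal.map_isPrime_of_surjective Ideal.Quotient.mk_surjective (by rwa [Ideal.mk_ker])
  obtain ⟨e, he⟩ := ENat.ne_top_iff_exists.1 ((q.map (Ideal.Quotient.mk p)).height_ne_top hqp.ne_top)
  have hle : ((h + e : ℕ) : ℕ∞) ≤ q.height := by
    rw [Nat.cast_add, hh, he]
    exact height_add_height_map_le hpq
  have hdep : LocCoh.depth A N ≤ (h : ℕ∞) := by
    have h1 : Module.supportDim A N ≠ ⊥ := (Module.supportDim_ne_bot_iff_nontrivial _ _).2 hN
    obtain ⟨a, ha⟩ := WithBot.ne_bot_iff_exists.1 h1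
    have h2 : Module.supportDim A N ≤ (h : WithBot ℕ∞) := hdim ▸ Module.supportDim_le_ringKrullDim A N
    rw [← ha] at h2
    have h2' : a ≤ (h : ℕ∞) := WithBot.coe_le_coe.1 h2
    obtain ⟨a', rfl⟩ := ENat.ne_top_iff_exists.1 (ne_top_of_le_ne_top (ENat.coe_ne_top h) h2')
    exact (InvFin.depth_le_supportDim N ha.symm).trans h2'
  obtain ⟨t, ht⟩ := ENat.ne_top_iff_exists.1 (ne_top_of_le_ne_top (ENat.coe_ne_top h) hdep)
  rw [← ht, Nat.cast_le] at hdep
  rw [← ht, ← he, ← Nat.cast_add, Nat.cast_le] at hn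
  have hv : ∀ i, i + (h - t) < h → Subsingleton (LocCoh.H (maximalIdeal A) i N) := fun i hi =>
    (le_idealDepth_iff _ N t).1 ht.le i (by omega)
  obtain ⟨s, hs, hkill⟩ := exists_killing_of_pd p (h - t) M (pdLE_of_vanish A hdim _ N hv)
  refine ⟨s, hs, fun i hi x => hkill q i (lt_of_lt_of_le ?_ (hle.trans (height_le_idealDepth_self q))) x⟩
  exact Nat.cast_lt.2 (by omega)

/-- Near `q`, a power of `b` kills `H^i_q(M)`. -/
theorem exists_killer_near {q : Ideal S} [q.IsPrime] {b : S} {n : ℕ}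
    (h : ∀ (p : Ideal S) [p.IsPrime], p ≤ q → b ∉ p →
      (n : ℕ∞) ≤ LocCoh.depth (Localization.AtPrime p) (LocalizedModule p.primeCompl M) +
        (q.map (Ideal.Quotient.mk p)).height) :
    ∃ (u : S) (N : ℕ), u ∉ q ∧ ∀ i, i < n → ∀ x : LocCoh.H q i M, (u * b ^ N) • x = 0 := by
  let K : Ideal S := ⨅ i ∈ Finset.range n, Module.annihilator S (LocCoh.H q i M)
  have hK : ∀ s, (∀ i, i < n → ∀ x : LocCoh.H q i M, s • x = 0) ↔ s ∈ K := fun s => by
    simp only [K, Submodule.mem_iInf, Finset.mem_range, Module.mem_annihilator]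
  let A := Localization.AtPrime q
  have hb : algebraMap S A b ∈ (K.map (algebraMap S A)).radical := by
    rw [Ideal.radical_eq_sInf]
    refine Submodule.mem_sInf.2 fun P ⟨hKP, hP⟩ => ?_
    by_contra hbP
    have hc : (Ideal.comap (algebraMap S A) P).IsPrime := Ideal.comap_isPrime _ P
    have hcq : Ideal.comap (algebraMap S A) P ≤ q := fun a ha => by
      by_contra hne
      exact hP.ne_top (Ideal.eq_top_of_isUnit_mem _ ha (IsLocalization.map_units _ (⟨a, hne⟩ : q.primeCompl)))
    obtain ⟨s, hs, hkill⟩ := exists_killer M hcq (h _ hcq hbP)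
    exact hs (Ideal.map_le_iff_le_comap.1 hKP ((hK s).1 hkill))
  obtain ⟨N, hN⟩ := hb
  rw [← map_pow, IsLocalization.algebraMap_mem_map_algebraMap_iff q.primeCompl A] at hN
  obtain ⟨u, hu, huK⟩ := hN
  exact ⟨u, N, hu, (hK _).2 huK⟩

section Devissage

variable {R : Type u} [CommRing R] [IsNoetherianRing R] {X : ModuleCat.{u} R} (J : InjectiveResolution X)

theorem exists_notMem_smul_pow_le {L q : Ideal R} (hq : q ∈ L.minimalPrimes) :
    ∃ (w : R) (e : ℕ), w ∉ q ∧ ∀ c ∈ q ^ e, w * c ∈ L := by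
  classical
  have := hq.1.1
  let A := Localization.AtPrime q
  obtain ⟨e, he⟩ := Ideal.exists_pow_le_of_le_radical_of_fg
    (I := q.map (algebraMap R A)) (J := L.map (algebraMap R A)) (by
      rw [IsLocalization.AtPrime.radical_map_of_mem_minimalPrimes A q L hq,
        IsLocalization.AtPrime.map_eq_maximalIdeal q A]) (Ideal.FG.map (IsNoetherian.noetherian q) _)
  rw [← Ideal.map_pow] at he
  obtain ⟨G, hG⟩ := (IsNoetherian.noetherian (q ^ e) : (q ^ e).FG)
  have : ∀ g : G, ∃ m ∈ q.primeCompl, m * (g : R) ∈ L := fun g =>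
    (IsLocalization.algebraMap_mem_map_algebraMap_iff q.primeCompl A L (g : R)).1
      (he (Ideal.mem_map_of_mem _ (hG ▸ Ideal.subset_span g.2)))
  choose m hm hmL using this
  refine ⟨∏ g ∈ G.attach, m g, e, (Submonoid.prod_mem q.primeCompl fun g _ => hm g), fun c hc => ?_⟩
  rw [← hG] at hc
  induction hc using Submodule.span_induction with
  | mem g hg =>
    obtain ⟨r, hr⟩ := Finset.dvd_prod_of_mem m (Finset.mem_attach G ⟨g, hg⟩)
    rw [hr, mul_comm (m _), mul_assoc]
    exact L.mul_mem_left _ (hmL ⟨g, hg⟩)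
  | zero => rw [mul_zero]; exact L.zero_mem
  | add x y _ _ hx hy => rw [mul_add]; exact L.add_mem hx hy
  | smul r x _ hx => rw [smul_eq_mul, mul_left_comm]; exact L.mul_mem_left _ hx

/-- Uniform annihilation from annihilation near each prime of `V(a)`. -/
theorem exists_uKilled_pow {a : Ideal R} {b : R} {i : ℕ}
    (h : ∀ (q : Ideal R) [q.IsPrime], a ≤ q → ∃ (u : R) (N : ℕ), u ∉ q ∧ UKilled J q (u * b ^ N) i) :
    ∃ N : ℕ, UKilled J a (b ^ N) i := by
  suffices ∀ L : Ideal R, a ≤ L → ∃ N : ℕ, ∀ z ∈ DRing.torsionSub L (J.cocomplex.X i),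
      J.cocomplex.d i (i + 1) z = 0 → b ^ N • z ∈ boundary J a i from this a le_rfl
  intro L
  induction L using WellFoundedGT.induction with
  | ind L ih =>
  intro haL
  by_cases hL : L = ⊤
  · subst hL
    refine ⟨0, fun z ⟨k, hk⟩ _ => ?_⟩
    have := hk 1 (by rw [Ideal.top_pow]; exact Submodule.mem_top)
    rw [one_smul] at this
    rw [this, smul_zero]
    exact Submodule.zero_mem _
  obtain ⟨q, hq⟩ := Ideal.nonempty_minimalPrimes hL
  have := hq.1.1
  obtain ⟨u, N₀, hu, hkill⟩ := h q (haL.trans hq.1.2)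
  obtain ⟨w, e, hw, hwe⟩ := exists_notMem_smul_pow_le hq
  let v := u * w
  have hv : v ∉ q := fun hvq => (‹q.IsPrime›.mem_or_mem hvq).elim hu hw
  have hlt : L < L ⊔ Ideal.span {v} :=
    lt_of_le_of_ne le_sup_left fun e => hv (hq.1.2 (e ▸ Submodule.mem_sup_right (Ideal.mem_span_singleton_self _)))
  obtain ⟨N₁, hN₁⟩ := ih _ hlt (haL.trans le_sup_left)
  refine ⟨N₁ + N₀, fun z hz hdz => ?_⟩
  obtain ⟨n, hn⟩ := hz
  have hzq : w ^ n • z ∈ DRing.torsionSub q (J.cocomplex.X i) := by
    refine ⟨e * n, fun c hc => ?_⟩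
    rw [← mul_smul, mul_comm]
    have hle : Ideal.span {w} * q ^ e ≤ L :=
      Ideal.span_singleton_mul_le_iff.2 hwe
    refine hn _ (Ideal.pow_right_mono hle n ?_)
    rw [mul_pow, Ideal.span_singleton_pow, ← pow_mul]
    exact Ideal.mul_mem_mul (Ideal.mem_span_singleton_self _) hc
  have hb₀ : (v ^ (n + 1)) • (b ^ N₀ • z) ∈ boundary J L i := by
    have h1 := boundary_anti J hq.1.2 i (hkill _ hzq (by rw [map_smul, hdz, smul_zero]))
    have h2 : v ^ (n + 1) • b ^ N₀ • z = (u ^ n * w) • ((u * b ^ N₀) • w ^ n • z) := by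
      simp only [smul_smul, v]
      congr 1
      ring
    rw [h2]
    exact Submodule.smul_mem _ _ h1
  obtain ⟨c, hc, m, hm⟩ := exists_boundary_killed_correction J hb₀
  rw [← pow_mul] at hm
  have hz' : b ^ N₀ • z - c ∈ DRing.torsionSub L (J.cocomplex.X i) :=
    Submodule.sub_mem _ (Submodule.smul_mem _ _ ⟨n, hn⟩) (boundary_le_torsionSub J L i hc)
  have hz'' : b ^ N₀ • z - c ∈ DRing.torsionSub (L ⊔ Ideal.span {v}) (J.cocomplex.X i) := by
    obtain ⟨k, hk⟩ := hz'
    refine mem_torsionSub_of_le_torsionColon (sup_le (fun x hx => mem_torsionColon.2 ⟨k, ?_⟩) ?_)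
    · rw [hk _ (Ideal.pow_mem_pow hx k)]; exact Submodule.zero_mem _
    · rw [Ideal.span_le, Set.singleton_subset_iff]
      exact mem_torsionColon.2 ⟨(n + 1) * m, by rw [hm]; exact Submodule.zero_mem _⟩
  have hd' : J.cocomplex.d i (i + 1) (b ^ N₀ • z - c) = 0 := by
    rw [map_sub, map_smul, hdz, smul_zero, d_boundary J L hc, sub_zero]
  have h3 := Submodule.add_mem _ (hN₁ _ hz'' hd') (Submodule.smul_mem _ (b ^ N₁) (boundary_anti J haL i hc))
  rwa [← smul_add, sub_add_cancel, smul_smul, ← pow_add] at h3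

end Devissage

/-- The annihilator theorem over a regular ring. -/
theorem exists_pow_killed_of_le_adjDepth {a : Ideal S} {b : S} {n : ℕ}
    (h : ∀ (p q : Ideal S) [p.IsPrime] [q.IsPrime], p ≤ q → a ≤ q → b ∉ p →
      (n : ℕ∞) ≤ LocCoh.depth (Localization.AtPrime p) (LocalizedModule p.primeCompl M) +
        (q.map (Ideal.Quotient.mk p)).height) {i : ℕ} (hi : i < n) :
    ∃ N : ℕ, ∀ x : LocCoh.H a i M, b ^ N • x = 0 := by
  let J := injectiveResolution (ModuleCat.of S M)
  obtain ⟨N, hN⟩ := exists_uKilled_pow J (a := a) (b := b) (i := i) fun q _ haq => by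
    obtain ⟨u, N, hu, hk⟩ := exists_killer_near M (q := q) fun p _ hpq hbp => h p q hpq haq hbp
    refine ⟨u, N, hu, fun x hx hdx => ?_⟩
    obtain ⟨z, rfl⟩ := exists_cycle J i x hx hdx
    rw [← cycleVal_smul, ← cyclesToH_eq_zero_iff_mem, map_smul]
    exact hk i hi _
  refine ⟨N, fun x => ?_⟩
  obtain ⟨z, rfl⟩ := cyclesToH_surjective J i x
  obtain ⟨k, hk⟩ := cycleVal_mem J i z
  rw [← map_smul, cyclesToH_eq_zero_iff_mem, cycleVal_smul]
  exact hN _ ⟨k, hk⟩ (d_cycleVal J i z)

end Groth.Agent.LocH
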