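import Mathlib
import Groth.Agent.LocH.Grothendieck
import Groth.Agent.LocH.NonVanishing
import Groth.Agent.LocH.Vanishing

/-!
Top local cohomology is tensoring with the top local cohomology of the ring.
-/

namespace Groth.Agent.LocH

universe u

open CategoryTheory CategoryTheory.Limits TensorProduct

variable {R : Type u} [CommRing R] (I : Ideal R) (d : ℕ)

theorem map_comp_apply' {X Y Z : ModuleCat.{u} R} (f : X ⟶ Y) (g : Y ⟶ Z) (i : ℕ)
    (x : ↑((localCohomology I i).obj X)) :
    (localCohomology I i).map g ((localCohomology I i).map f x) = (localCohomology I i).map (f ≫ g) x := by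
  rw [Functor.map_comp]
  rfl

theorem map_smul_apply {X Y : ModuleCat.{u} R} (r : R) (f : X ⟶ Y) (i : ℕ)
    (x : ↑((localCohomology I i).obj X)) :
    (localCohomology I i).map (r • f) x = r • (localCohomology I i).map f x := by
  have : r • f = f ≫ (r • 𝟙 Y) := by rw [Linear.comp_smul, Category.comp_id]
  rw [this, ← map_comp_apply', map_smul_id_apply]

/-- `m ↦ H(1 ↦ m)`. -/
noncomputable def topPair (M : Type u) [AddCommGroup M] [Module R M] :
    ↑((localCohomology I d).obj (ModuleCat.of R R)) →ₗ[R] M →ₗ[R] ↑((localCohomology I d).obj (ModuleCat.of R M)) :=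
  LinearMap.mk₂ R (fun x m => (localCohomology I d).map
      (ModuleCat.ofHom (LinearMap.toSpanSingleton R M m) : ModuleCat.of R R ⟶ ModuleCat.of R M) x)
    (fun x y m => map_add _ x y) (fun r x m => map_smul _ r x)
    (fun x m n => by
      rw [show (ModuleCat.ofHom (LinearMap.toSpanSingleton R M (m + n)) : ModuleCat.of R R ⟶ ModuleCat.of R M) =
        ModuleCat.ofHom (LinearMap.toSpanSingleton R M m) + ModuleCat.ofHom (LinearMap.toSpanSingleton R M n) by
          refine ModuleCat.hom_ext (LinearMap.ext_ring ?_); simp, Functor.map_add]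
      rfl)
    (fun r x m => by
      rw [show (ModuleCat.ofHom (LinearMap.toSpanSingleton R M (r • m)) : ModuleCat.of R R ⟶ ModuleCat.of R M) =
        r • ModuleCat.ofHom (LinearMap.toSpanSingleton R M m) by
          refine ModuleCat.hom_ext (LinearMap.ext_ring ?_); simp, map_smul_apply])

/-- The comparison map `H^d(R) ⊗ M → H^d(M)`. -/
noncomputable def topMap (M : Type u) [AddCommGroup M] [Module R M] :
    ↑((localCohomology I d).obj (ModuleCat.of R R)) ⊗[R] M →ₗ[R] ↑((localCohomology I d).obj (ModuleCat.of R M)) :=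
  TensorProduct.lift (topPair I d M)

theorem topMap_tmul {M : Type u} [AddCommGroup M] [Module R M] (x : ↑((localCohomology I d).obj (ModuleCat.of R R)))
    (m : M) : topMap I d M (x ⊗ₜ m) = (localCohomology I d).map
      (ModuleCat.ofHom (LinearMap.toSpanSingleton R M m) : ModuleCat.of R R ⟶ ModuleCat.of R M) x :=
  rfl

theorem topMap_natural {M N : Type u} [AddCommGroup M] [Module R M] [AddCommGroup N] [Module R N]
    (f : M →ₗ[R] N) (t : ↑((localCohomology I d).obj (ModuleCat.of R R)) ⊗[R] M) :
    topMap I d N (f.lTensor _ t) = (localCohomology I d).map (ModuleCat.ofHom f) (topMap I d M t) := by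
  induction t using TensorProduct.induction_on with
  | zero => simp
  | tmul x m =>
    rw [LinearMap.lTensor_tmul, topMap_tmul, topMap_tmul, map_comp_apply',
      show (ModuleCat.ofHom (LinearMap.toSpanSingleton R M m) : ModuleCat.of R R ⟶ ModuleCat.of R M) ≫
          ModuleCat.ofHom f = ModuleCat.ofHom (LinearMap.toSpanSingleton R N (f m)) from
        ModuleCat.hom_ext (LinearMap.ext_ring (map_smul f (1 : R) m))]
  | add a b ha hb => rw [map_add, map_add, ha, hb, map_add, map_add]

theorem topMap_injective_finsupp (ι : Type u) : Function.Injective (topMap (R := R) I d (ι →₀ R)) := by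
  classical
  let e := TensorProduct.finsuppScalarRight R R ↑((localCohomology I d).obj (ModuleCat.of R R)) ι
  refine (injective_iff_map_eq_zero _).2 fun t ht => e.injective ?_
  rw [map_zero]
  ext i
  have h := congrArg ((localCohomology I d).map
    (ModuleCat.ofHom (Finsupp.lapply i) : ModuleCat.of R (ι →₀ R) ⟶ ModuleCat.of R R)).hom ht
  rw [map_zero] at h
  refine Eq.trans ?_ h
  show e t i = (localCohomology I d).map
    (ModuleCat.ofHom (Finsupp.lapply i) : ModuleCat.of R (ι →₀ R) ⟶ ModuleCat.of R R) (topMap I d (ι →₀ R) t)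
  rw [← topMap_natural I d (Finsupp.lapply i) t]
  clear h ht
  induction t using TensorProduct.induction_on with
  | zero => simp
  | tmul x g =>
    rw [TensorProduct.finsuppScalarRight_apply_tmul_apply, LinearMap.lTensor_tmul, topMap_tmul]
    have : (ModuleCat.ofHom (LinearMap.toSpanSingleton R R (g i)) : ModuleCat.of R R ⟶ ModuleCat.of R R) =
        g i • 𝟙 (ModuleCat.of R R) := by
      refine ModuleCat.hom_ext (LinearMap.ext_ring ?_)
      simp
    rw [Finsupp.lapply_apply, this, map_smul_id_apply]
  | add a b ha hb => simp only [map_add, Finsupp.add_apply, ha, hb]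

variable [IsNoetherianRing R] (hd : ringKrullDim R ≤ d)

include hd in
theorem topMap_surjective (M : Type u) [AddCommGroup M] [Module R M] : Function.Surjective (topMap (R := R) I d M) := by
  classical
  intro x
  obtain ⟨M₀, hM₀, y, rfl⟩ := exists_fg_map_eq (ModuleCat.of R M) d x
  obtain ⟨s, g, hg⟩ := Submodule.fg_iff_exists_fin_generating_family.1 hM₀
  let π : (Fin s → R) →ₗ[R] M₀ := (Fintype.linearCombination R g).codRestrict M₀ fun c => by
    have : Fintype.linearCombination R g c ∈ LinearMap.range (Fintype.linearCombination R g) := ⟨c, rfl⟩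
    rw [Fintype.range_linearCombination, hg] at this
    exact this
  have hπ : Function.Surjective π := fun z => by
    obtain ⟨c, hc⟩ : (z : M) ∈ LinearMap.range (Fintype.linearCombination R g) := by
      rw [Fintype.range_linearCombination, hg]
      exact z.2
    exact ⟨c, Subtype.ext hc⟩
  have := cdLE_of_ringKrullDim_le I d hd (LinearMap.ker π) (d + 1) (Nat.lt_succ_self d)
  obtain ⟨z, rfl⟩ := exact₃ (kerSES_shortExact hπ) d (x := y) (this.elim _ _)
  change ↑((localCohomology I d).obj (ModuleCat.of R (Fin s → R))) at z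
  let φ : (Fin s → R) →ₗ[R] M := M₀.subtype ∘ₗ π
  have hz : ∃ t, topMap I d (Fin s → R) t = z := by
    let p : Fin s → (ModuleCat.of R (Fin s → R) ⟶ ModuleCat.of R R) := fun j =>
      ModuleCat.ofHom (LinearMap.proj j)
    refine ⟨∑ j, (localCohomology I d).map (p j) z ⊗ₜ Pi.single j 1, ?_⟩
    rw [map_sum]
    simp only [topMap_tmul, map_comp_apply']
    have hid : 𝟙 (ModuleCat.of R (Fin s → R)) =
        ∑ j, p j ≫ ModuleCat.ofHom (LinearMap.toSpanSingleton R (Fin s → R) (Pi.single j 1)) := by
      refine ModuleCat.hom_ext (LinearMap.ext fun f => ?_)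
      rw [ModuleCat.hom_sum, LinearMap.sum_apply]
      refine (Finset.univ_sum_single f).symm.trans (Finset.sum_congr rfl fun j _ => ?_)
      show Pi.single j (f j) = f j • Pi.single j (1 : R)
      rw [← Pi.single_smul, smul_eq_mul, mul_one]
    refine Eq.trans ?_ (congrArg (fun φ => φ.hom z) ((localCohomology I d).map_id (ModuleCat.of R (Fin s → R))))
    rw [hid, Functor.map_sum, ModuleCat.hom_sum, LinearMap.sum_apply]
  obtain ⟨t, ht⟩ := hz
  refine ⟨φ.lTensor _ t, ?_⟩
  rw [topMap_natural, ht]
  exact (map_comp_apply' I (ModuleCat.ofHom π) (ModuleCat.ofHom M₀.subtype) d z).symm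

include hd in
theorem topMap_bijective (M : Type u) [AddCommGroup M] [Module R M] : Function.Bijective (topMap (R := R) I d M) := by
  refine ⟨(injective_iff_map_eq_zero _).2 fun t ht => ?_, topMap_surjective I d hd M⟩
  let π : (M →₀ R) →ₗ[R] M := Finsupp.linearCombination R id
  have hπ : Function.Surjective π := fun m => ⟨Finsupp.single m 1, by simp [π]⟩
  obtain ⟨t', rfl⟩ := LinearMap.lTensor_surjective _ hπ t
  rw [topMap_natural] at ht
  obtain ⟨η, hη⟩ := exact₂ (kerSES_shortExact hπ) d (x := topMap I d (M →₀ R) t') ht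
  obtain ⟨s, rfl⟩ := topMap_surjective I d hd (LinearMap.ker π) η
  have h2 : (localCohomology I d).map (ModuleCat.ofHom (LinearMap.ker π).subtype :
      ModuleCat.of R (LinearMap.ker π) ⟶ ModuleCat.of R (M →₀ R)) (topMap I d (LinearMap.ker π) s) =
      topMap I d (M →₀ R) t' := hη
  rw [← topMap_natural] at h2
  rw [← topMap_injective_finsupp I d M h2, ← LinearMap.comp_apply, ← LinearMap.lTensor_comp,
    LinearMap.comp_ker_subtype, LinearMap.lTensor_zero, LinearMap.zero_apply]

end Groth.Agent.LocH
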