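import Mathlib
import Groth.Agent.LocH.Annihilator
import Groth.Agent.LocH.NonVanishing
import Groth.Agent.LocH.TopTensor
import Groth.Agent.Goren.Basic

/-!
Local duality over a Gorenstein (in particular regular) local ring in the form needed for vanishing:
`H^d_m(M) ≅ Hom(Hom(M,A), H^d_m(A))`, and `H^{d-k}_m(M) = 0` iff `Ext^k(M,A) = 0` by syzygies.
-/

set_option autoImplicit false

namespace Groth.Agent.LocH.WeakDuality

universe u

open CategoryTheory CategoryTheory.Limits CategoryTheory.Abelian IsLocalRing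

section Inj

variable {R : Type u} [CommRing R]

theorem injective_of_retract {P Q : Type u} [AddCommGroup P] [Module R P] [AddCommGroup Q] [Module R Q]
    [Module.Injective R Q] (i : P →ₗ[R] Q) (r : Q →ₗ[R] P) (h : ∀ x, r (i x) = x) : Module.Injective R P :=
  ⟨fun X Y _ _ _ _ f hf g => by
    obtain ⟨g', hg'⟩ := Module.Injective.out f hf (i ∘ₗ g)
    exact ⟨r ∘ₗ g', fun x => by rw [LinearMap.comp_apply, hg', LinearMap.comp_apply, h]⟩⟩

theorem injective_of_surjective_of_ker {X Y : Type u} [AddCommGroup X] [Module R X] [AddCommGroup Y] [Module R Y]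
    (f : X →ₗ[R] Y) (hf : Function.Surjective f) [Module.Injective R X] [Module.Injective R (LinearMap.ker f)] :
    Module.Injective R Y := by
  obtain ⟨r, hr⟩ := Module.Injective.out (R := R) (LinearMap.ker f).subtype (LinearMap.ker f).injective_subtype LinearMap.id
  let e : X →ₗ[R] X := LinearMap.id - (LinearMap.ker f).subtype ∘ₗ r
  obtain ⟨s, hs⟩ := exists_factor_of_le_ker f hf e fun x hx => by
    have : r x = ⟨x, hx⟩ := hr ⟨x, hx⟩
    simp [e, this]
  refine injective_of_retract s f fun y => ?_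
  obtain ⟨x, rfl⟩ := hf y
  rw [hs]
  have : f ((r x : LinearMap.ker f) : X) = 0 := (r x).2
  simp [e, this]

end Inj

instance (priority := 100) gorenstein_of_regular (A : Type u) [CommRing A] [IsRegularLocalRing A] :
    LocCoh.IsGorensteinLocalRing A :=
  Goren.isGorenstein_of_regular A

variable (A : Type u) [CommRing A] [LocCoh.IsGorensteinLocalRing A]

theorem subsingleton_H_self {d : ℕ} (hd : ringKrullDim A = d) {i : ℕ} (hi : i < d) :
    Subsingleton (LocCoh.H (maximalIdeal A) i A) := by
  have hCM := Goren.isCohenMacaulay A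
  have h := hCM.supportDim_eq_depth
  rw [Module.supportDim_self_eq_ringKrullDim, hd] at h
  exact (le_idealDepth_iff _ A d).1 (WithBot.coe_le_coe.1 h.le) i hi

theorem subsingleton_H_pi {d : ℕ} (hd : ringKrullDim A = d) {i : ℕ} (hi : i < d) (n : ℕ) :
    Subsingleton (LocCoh.H (maximalIdeal A) i (Fin n → A)) :=
  subsingleton_of_forall_eq 0 fun x => by
    have := subsingleton_H_self A hd hi
    simpa using H_pi_killed (maximalIdeal A) i n 1 (fun y => Subsingleton.elim _ _) x

/-- The top local cohomology of the ring. -/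
abbrev Top (d : ℕ) : Type u := LocCoh.H (maximalIdeal A) d A

variable {A} {d : ℕ}

theorem hasInjectiveDimensionLT_self (hd : ringKrullDim A = d) :
    HasInjectiveDimensionLT (ModuleCat.of A A) (d + 1) :=
  Goren.hasInjectiveDimensionLE A (Goren.resVanish_dim A hd)

theorem injective_top (hd : ringKrullDim A = d) : Module.Injective A (Top A d) := by
  let m := maximalIdeal A
  let J := injectiveResolution (ModuleCat.of A A)
  have hJ : ∀ j, Module.Injective A (J.cocomplex.X j) := fun j =>
    Module.injective_module_of_injective_object A _ (inj := J.injective j)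
  have hinjd := hasInjectiveDimensionLT_self hd
  have hZ : Module.Injective A (LinearMap.ker (J.cocomplex.d d (d + 1)).hom) := by
    refine Module.Baer.injective fun K g => ?_
    obtain ⟨F, hF⟩ := Module.Injective.out (R := A) K.subtype K.injective_subtype
      ((LinearMap.ker (J.cocomplex.d d (d + 1)).hom).subtype ∘ₗ g)
    let φ : (A ⧸ K) →ₗ[A] J.cocomplex.X (d + 1) :=
      K.liftQ ((J.cocomplex.d d (d + 1)).hom ∘ₗ F) fun x hx => by
        rw [LinearMap.mem_ker, LinearMap.comp_apply, show F x = _ from hF ⟨x, hx⟩]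
        exact (g ⟨x, hx⟩).2
    have hφ : ModuleCat.ofHom φ ≫ J.cocomplex.d (d + 1) (d + 1 + 1) = 0 := by
      refine ModuleCat.hom_ext (Submodule.linearMap_qext _ (LinearMap.ext fun x => ?_))
      exact congrArg (fun ψ : J.cocomplex.X d ⟶ J.cocomplex.X (d + 1 + 1) => ψ.hom (F x))
        (J.cocomplex.d_comp_d d (d + 1) (d + 1 + 1))
    have h0 : J.extMk (ModuleCat.ofHom φ) (d + 1 + 1) rfl hφ = 0 :=
      Ext.eq_zero_of_hasInjectiveDimensionLT _ (d + 1) le_rfl
    rw [InjectiveResolution.extMk_eq_zero_iff (p := d) (hp := rfl)] at h0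
    obtain ⟨ψ, hψ⟩ := h0
    let F' : A →ₗ[A] J.cocomplex.X d := F - ψ.hom ∘ₗ K.mkQ
    have hF' : ∀ x, F' x ∈ LinearMap.ker (J.cocomplex.d d (d + 1)).hom := fun x => by
      have h1 : (J.cocomplex.d d (d + 1)).hom (ψ.hom (K.mkQ x)) = (J.cocomplex.d d (d + 1)).hom (F x) :=
        congrArg (fun χ : ModuleCat.of A (A ⧸ K) ⟶ J.cocomplex.X (d + 1) => χ.hom (K.mkQ x)) hψ
      rw [LinearMap.mem_ker, LinearMap.sub_apply, map_sub, LinearMap.comp_apply, h1, sub_self]
    refine ⟨F'.codRestrict _ hF', fun x hx => Subtype.ext ?_⟩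
    show F' x = _
    rw [LinearMap.sub_apply, LinearMap.comp_apply, Submodule.mkQ_apply, (Submodule.Quotient.mk_eq_zero _).2 hx,
      map_zero, sub_zero]
    exact hF ⟨x, hx⟩
  let V : Submodule A (J.cocomplex.X d) :=
    DRing.torsionSub m (J.cocomplex.X d) ⊓ LinearMap.ker (J.cocomplex.d d (d + 1)).hom
  have hV : Module.Injective A V := by
    have h := InjHull.injective_iSup_torsionBySet (R := A) ↥(LinearMap.ker (J.cocomplex.d d (d + 1)).hom) m
    refine injective_of_retract
      (P := V) (Q := ↥(⨆ n : ℕ, Submodule.torsionBySet A ↥(LinearMap.ker (J.cocomplex.d d (d + 1)).hom) ((m ^ n : Ideal A) : Set A)))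
      { toFun := fun v => ⟨⟨v.1, v.2.2⟩, (InjHull.mem_iSup_torsionBySet_iff m _).2 (by
          obtain ⟨k, hk⟩ := v.2.1
          exact ⟨k, fun a ha => Subtype.ext (hk a ha)⟩)⟩
        map_add' := fun _ _ => rfl
        map_smul' := fun _ _ => rfl }
      { toFun := fun v => ⟨v.1.1, (by
          obtain ⟨k, hk⟩ := (InjHull.mem_iSup_torsionBySet_iff m _).1 v.2
          exact ⟨k, fun a ha => congrArg Subtype.val (hk a ha)⟩), v.1.2⟩
        map_add' := fun _ _ => rfl
        map_smul' := fun _ _ => rfl } fun _ => rfl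
  have hB : ∀ j, j ≤ d → Module.Injective A (boundary J m j) := by
    intro j
    induction j with
    | zero =>
      intro _
      exact ⟨fun X Y _ _ _ _ f _ g => ⟨0, fun x => Subtype.ext ((Submodule.mem_bot A).1 (g x).2).symm⟩⟩
    | succ j ih =>
      intro hj
      have := injective_torsionSub J m j
      let f : DRing.torsionSub m (J.cocomplex.X j) →ₗ[A] boundary J m (j + 1) :=
        ((J.cocomplex.d j (j + 1)).hom ∘ₗ Submodule.subtype _).codRestrict _ fun x => ⟨x.1, x.2, rfl⟩
      have hker : LinearMap.ker f = (boundary J m j).comap (Submodule.subtype _) := by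
        ext x
        constructor
        · intro hx
          exact (subsingleton_iff_vanish J m j).1 (subsingleton_H_self A hd (by omega)) _ x.2
            (congrArg Subtype.val hx)
        · intro hx
          exact Subtype.ext (d_boundary J m hx)
      have := ih (by omega)
      have : Module.Injective A (LinearMap.ker f) := by
        let e : LinearMap.ker f ≃ₗ[A] boundary J m j :=
          (LinearEquiv.ofEq _ _ hker).trans (Submodule.comapSubtypeEquivOfLe (boundary_le_torsionSub J m j))
        exact injective_of_retract e.toLinearMap e.symm.toLinearMap e.symm_apply_apply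
      exact injective_of_surjective_of_ker f fun ⟨y, hy⟩ => by
        obtain ⟨x, hx, rfl⟩ := hy
        exact ⟨⟨x, hx⟩, rfl⟩
  obtain ⟨G, hG⟩ := exists_cycleLift J m d V.subtype (fun v => v.2.1) fun v => v.2.2
  let Ψ : V →ₗ[A] Top A d := cyclesToH J d ∘ₗ G
  have hΨ : Function.Surjective Ψ := fun x => by
    obtain ⟨z, rfl⟩ := cyclesToH_surjective J d x
    refine ⟨⟨cycleVal J d z, cycleVal_mem J d z, d_cycleVal J d z⟩, congrArg (cyclesToH J d) ?_⟩
    exact cycleVal_injective J d (hG _)
  have hle : boundary J m d ≤ V := fun x hx => ⟨boundary_le_torsionSub J m d hx, d_boundary J m hx⟩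
  have hker : LinearMap.ker Ψ = (boundary J m d).comap V.subtype := by
    ext v
    rw [LinearMap.mem_ker, LinearMap.comp_apply, cyclesToH_eq_zero_iff_mem, hG]
    rfl
  have := hB d le_rfl
  have : Module.Injective A (LinearMap.ker Ψ) := by
    let e : LinearMap.ker Ψ ≃ₗ[A] boundary J m d :=
      (LinearEquiv.ofEq _ _ hker).trans (Submodule.comapSubtypeEquivOfLe hle)
    exact injective_of_retract e.toLinearMap e.symm.toLinearMap e.symm_apply_apply
  exact injective_of_surjective_of_ker Ψ hΨ

theorem exists_hom_top_ne_zero (hd : ringKrullDim A = d) (N : Type u) [AddCommGroup N] [Module A N]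
    [Module.Finite A N] [Nontrivial N] : ∃ g : N →ₗ[A] Top A d, g ≠ 0 := by
  classical
  have : Nontrivial (Top A d) :=
    nontrivial_at_supportDim A d ((Module.supportDim_self_eq_ringKrullDim (R := A)).trans hd)
  obtain ⟨x, hx⟩ := exists_ne (0 : Top A d)
  have hex := isPowerTorsion (maximalIdeal A) d (ModuleCat.of A A) x
  obtain ⟨y, hy, hym⟩ : ∃ y : Top A d, y ≠ 0 ∧ ∀ a ∈ maximalIdeal A, a • y = 0 := by
    obtain ⟨k, hk, hmin⟩ : ∃ k, (∀ a ∈ maximalIdeal A ^ k, a • x = 0) ∧
        ∀ j < k, ¬ ∀ a ∈ maximalIdeal A ^ j, a • x = 0 :=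
      ⟨Nat.find hex, Nat.find_spec hex, fun j hj => Nat.find_min hex hj⟩
    obtain _ | k := k
    · exact absurd ((one_smul A x).symm.trans (hk 1 (by simp))) hx
    have := hmin k (Nat.lt_succ_self k)
    push Not at this
    obtain ⟨a, ha, hne⟩ := this
    exact ⟨a • x, hne, fun b hb => by
      rw [← mul_smul]; exact hk _ (by rw [pow_succ']; exact Ideal.mul_mem_mul hb ha)⟩
  obtain ⟨P, hP⟩ := IsCoatomic.exists_coatom (α := Submodule A N)
  have := isSimpleModule_iff_isCoatom.2 hP
  obtain ⟨K, hK, ⟨e⟩⟩ := isSimpleModule_iff_quot_maximal.1 ‹IsSimpleModule A (N ⧸ P)›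
  obtain rfl := IsLocalRing.eq_maximalIdeal hK
  let ε : (A ⧸ maximalIdeal A) →ₗ[A] Top A d :=
    (maximalIdeal A).liftQ (LinearMap.toSpanSingleton A _ y) fun a ha => LinearMap.mem_ker.2 (hym a ha)
  refine ⟨ε ∘ₗ e.toLinearMap ∘ₗ P.mkQ, fun h => hy ?_⟩
  obtain ⟨n, hn⟩ := P.mkQ_surjective (e.symm (Submodule.Quotient.mk 1))
  have h1 := LinearMap.congr_fun h n
  rw [LinearMap.comp_apply, LinearMap.comp_apply, hn, LinearEquiv.coe_coe, e.apply_symm_apply] at h1
  exact (one_smul A y).symm.trans h1

/-- The duality pairing `H^d(N) → Hom(Hom(N,A), H^d(A))`. -/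
noncomputable def pair (d : ℕ) (N : Type u) [AddCommGroup N] [Module A N] :
    LocCoh.H (maximalIdeal A) d N →ₗ[A] (N →ₗ[A] A) →ₗ[A] Top A d :=
  LinearMap.mk₂ A (fun x φ => (localCohomology (maximalIdeal A) d).map (ModuleCat.ofHom φ : ModuleCat.of A N ⟶ ModuleCat.of A A) x)
    (fun x y φ => map_add _ x y) (fun r x φ => map_smul _ r x)
    (fun x φ ψ => by
      rw [show (ModuleCat.ofHom (φ + ψ) : ModuleCat.of A N ⟶ ModuleCat.of A A) = ModuleCat.ofHom φ + ModuleCat.ofHom ψ from rfl,
        Functor.map_add]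
      rfl)
    (fun r x φ => by
      rw [show (ModuleCat.ofHom (r • φ) : ModuleCat.of A N ⟶ ModuleCat.of A A) = r • ModuleCat.ofHom φ from rfl,
        map_smul_apply])

theorem pair_apply {N : Type u} [AddCommGroup N] [Module A N] (x : LocCoh.H (maximalIdeal A) d N) (φ : N →ₗ[A] A) :
    pair d N x φ = (localCohomology (maximalIdeal A) d).map (ModuleCat.ofHom φ : ModuleCat.of A N ⟶ ModuleCat.of A A) x :=
  rfl

theorem pair_natural {N N' : Type u} [AddCommGroup N] [Module A N] [AddCommGroup N'] [Module A N'] (f : N →ₗ[A] N')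
    (x : LocCoh.H (maximalIdeal A) d N) (φ : N' →ₗ[A] A) :
    pair d N' ((localCohomology (maximalIdeal A) d).map (ModuleCat.ofHom f) x) φ = pair d N x (φ ∘ₗ f) := by
  rw [pair_apply, pair_apply, map_comp_apply']
  rfl

theorem bijective_pair_pi (n : ℕ) : Function.Bijective (pair (A := A) d (Fin n → A)) := by
  classical
  let p : Fin n → (ModuleCat.of A (Fin n → A) ⟶ ModuleCat.of A A) := fun j => ModuleCat.ofHom (LinearMap.proj j)
  let s : Fin n → (ModuleCat.of A A ⟶ ModuleCat.of A (Fin n → A)) := fun j =>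
    ModuleCat.ofHom (LinearMap.single A (fun _ => A) j)
  have hid : 𝟙 (ModuleCat.of A (Fin n → A)) = ∑ j, p j ≫ s j := by
    refine ModuleCat.hom_ext (LinearMap.ext fun v => ?_)
    rw [ModuleCat.hom_sum, LinearMap.sum_apply]
    exact (Finset.univ_sum_single v).symm
  refine ⟨(injective_iff_map_eq_zero _).2 fun x hx => ?_, fun g => ?_⟩
  · have h := congrArg (fun φ => ((localCohomology (maximalIdeal A) d).map φ).hom x) hid
    simp only [CategoryTheory.Functor.map_id, Functor.map_sum, ModuleCat.hom_sum, LinearMap.sum_apply] at h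
    refine h.trans (Finset.sum_eq_zero fun j _ => ?_)
    rw [Functor.map_comp]
    change ((localCohomology (maximalIdeal A) d).map (s j)).hom (pair d _ x (LinearMap.proj j)) = 0
    rw [hx, LinearMap.zero_apply, map_zero]
  · refine ⟨∑ j, (localCohomology (maximalIdeal A) d).map (s j) (g (LinearMap.proj j)), LinearMap.ext fun φ => ?_⟩
    rw [map_sum, LinearMap.sum_apply]
    have hφ : φ = ∑ j, φ (Pi.single j 1) • (LinearMap.proj j : (Fin n → A) →ₗ[A] A) := by
      refine LinearMap.ext fun v => ?_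
      rw [LinearMap.sum_apply]
      conv_lhs => rw [← Finset.univ_sum_single v, map_sum]
      refine Finset.sum_congr rfl fun j _ => ?_
      rw [LinearMap.smul_apply, LinearMap.proj_apply, smul_eq_mul, mul_comm, ← smul_eq_mul, ← map_smul,
        ← Pi.single_smul, smul_eq_mul, mul_one]
    conv_rhs => rw [hφ, map_sum]
    refine Finset.sum_congr rfl fun j _ => ?_
    rw [map_smul, pair_natural, show φ ∘ₗ LinearMap.single A (fun _ => A) j = φ (Pi.single j 1) • LinearMap.id from
      LinearMap.ext_ring (by simp), map_smul]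
    congr 1
    exact congrArg (fun φ => φ.hom (g (LinearMap.proj j))) ((localCohomology (maximalIdeal A) d).map_id _)

theorem bijective_pair (hd : ringKrullDim A = d) (N : Type u) [AddCommGroup N] [Module A N] [Module.Finite A N] :
    Function.Bijective (pair (A := A) d N) := by
  have := injective_top hd
  obtain ⟨n, π, hπ⟩ := Module.Finite.exists_fin' A N
  have hinj : Function.Injective fun φ : N →ₗ[A] A => φ ∘ₗ π := fun φ ψ h =>
    LinearMap.ext fun m => by obtain ⟨v, rfl⟩ := hπ m; exact LinearMap.congr_fun h v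
  refine ⟨(injective_iff_map_eq_zero _).2 fun x hx => ?_, fun g => ?_⟩
  · obtain ⟨y, rfl⟩ := map_surjective_of_surjective (I := maximalIdeal A) π hπ d
      (lt_of_le_of_lt (Module.supportDim_le_ringKrullDim _ _) (by rw [hd]; exact_mod_cast Nat.lt_succ_self d)) x
    obtain ⟨k, π', hπ'⟩ := Module.Finite.exists_fin' A (LinearMap.ker π)
    let D : (Fin k → A) →ₗ[A] (Fin n → A) := (LinearMap.ker π).subtype ∘ₗ π'
    let Dt : ((Fin n → A) →ₗ[A] A) →ₗ[A] ((Fin k → A) →ₗ[A] A) := LinearMap.lcomp A A D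
    have hg : LinearMap.ker Dt ≤ LinearMap.ker (pair d _ y) := fun φ hφ => by
      obtain ⟨ψ, hψ⟩ := exists_factor_of_le_ker π hπ φ fun v hv => by
        obtain ⟨w, hw⟩ := hπ' ⟨v, hv⟩
        have := LinearMap.congr_fun (LinearMap.mem_ker.1 hφ) w
        rw [LinearMap.mem_ker]
        simpa [Dt, D, hw] using this
      rw [LinearMap.mem_ker, show φ = ψ ∘ₗ π from LinearMap.ext fun v => (hψ v).symm, ← pair_natural]
      exact LinearMap.congr_fun hx ψ
    obtain ⟨g₁, hg₁⟩ := Module.Injective.out (R := A) ((LinearMap.ker Dt).liftQ Dt le_rfl)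
      (LinearMap.ker_eq_bot.1 (Submodule.ker_liftQ_eq_bot _ _ _ le_rfl)) ((LinearMap.ker Dt).liftQ (pair d _ y) hg)
    obtain ⟨z, hz⟩ := (bijective_pair_pi (A := A) (d := d) k).2 g₁
    have hy : y = (localCohomology (maximalIdeal A) d).map (ModuleCat.ofHom D) z := by
      refine (bijective_pair_pi (A := A) (d := d) n).1 (LinearMap.ext fun φ => ?_)
      rw [pair_natural, hz]
      exact (hg₁ (Submodule.Quotient.mk φ)).symm
    rw [hy, map_comp_apply', ← ModuleCat.ofHom_comp, show π ∘ₗ D = 0 from LinearMap.ext fun w => (π' w).2]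
    rw [show (ModuleCat.ofHom (0 : (Fin k → A) →ₗ[A] N)) = (0 : ModuleCat.of A (Fin k → A) ⟶ ModuleCat.of A N) from rfl,
      Functor.map_zero]
    rfl
  · obtain ⟨g', hg'⟩ := Module.Injective.out (R := A) (LinearMap.lcomp A A π) hinj g
    obtain ⟨y, hy⟩ := (bijective_pair_pi (A := A) (d := d) n).2 g'
    refine ⟨(localCohomology (maximalIdeal A) d).map (ModuleCat.ofHom π) y, LinearMap.ext fun φ => ?_⟩
    rw [pair_natural, hy]
    exact hg' φ

theorem subsingleton_top_iff (hd : ringKrullDim A = d) (N : Type u) [AddCommGroup N] [Module A N] [Module.Finite A N] :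
    Subsingleton (LocCoh.H (maximalIdeal A) d N) ↔ Subsingleton (N →ₗ[A] A) := by
  rw [(Equiv.ofBijective _ (bijective_pair hd N)).subsingleton_congr]
  refine ⟨fun h => ?_, fun h => ⟨fun f g => LinearMap.ext fun φ => ?_⟩⟩
  · by_contra hne
    rw [not_subsingleton_iff_nontrivial] at hne
    obtain ⟨g, hg⟩ := exists_hom_top_ne_zero hd (N →ₗ[A] A)
    exact hg (Subsingleton.elim _ _)
  · rw [Subsingleton.elim φ 0, map_zero, map_zero]

variable {X : ShortComplex (ModuleCat.{u} A)} (hX : X.ShortExact) [Module.Finite A X.X₁] [Module.Finite A X.X₂]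
  [Module.Free A X.X₂] [Module.Finite A X.X₃]

omit [Module.Finite A X.X₁] [Module.Finite A X.X₃] in
theorem subsingleton_H_free (hd : ringKrullDim A = d) {i : ℕ} (hi : i < d) :
    Subsingleton ↑((localCohomology (maximalIdeal A) i).obj X.X₂) := by
  let b := Module.Free.chooseBasis A X.X₂
  let e : X.X₂ ≃ₗ[A] (Fin (Fintype.card (Module.Free.ChooseBasisIndex A X.X₂)) → A) :=
    b.equivFun.trans (LinearEquiv.funCongrLeft A A (Fintype.equivFin _).symm)
  exact (subsingleton_iff_of_iso _ i e.toModuleIso).2 (subsingleton_H_pi A hd hi _)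

include hX in
theorem subsingleton_succ_iff (hd : ringKrullDim A = d) {i : ℕ} (hi : i + 1 < d) :
    Subsingleton ↑((localCohomology (maximalIdeal A) i).obj X.X₃) ↔
      Subsingleton ↑((localCohomology (maximalIdeal A) (i + 1)).obj X.X₁) :=
  ⟨fun h => subsingleton_X₁ hX i (subsingleton_H_free (X := X) hd hi) h,
    fun h => subsingleton_X₃ hX i (subsingleton_H_free (X := X) hd (by omega)) h⟩

include hX in
theorem subsingleton_pred_iff {e : ℕ} (hd : ringKrullDim A = (e + 1 : ℕ)) :
    Subsingleton ↑((localCohomology (maximalIdeal A) e).obj X.X₃) ↔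
      Function.Surjective fun ψ : X.X₂ →ₗ[A] A => ψ ∘ₗ X.f.hom := by
  have := injective_top hd
  have hf : ∀ x : LocCoh.H (maximalIdeal A) (e + 1) X.X₁, ∀ ψ : X.X₂ →ₗ[A] A,
      pair (e + 1) X.X₂ ((localCohomology (maximalIdeal A) (e + 1)).map X.f x) ψ = pair (e + 1) X.X₁ x (ψ ∘ₗ X.f.hom) :=
    fun x ψ => pair_natural X.f.hom x ψ
  constructor
  · intro h
    let T : (X.X₂ →ₗ[A] A) →ₗ[A] (X.X₁ →ₗ[A] A) := LinearMap.lcomp A A X.f.hom
    change Function.Surjective T
    rw [← LinearMap.range_eq_top]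
    by_contra hne
    have : Nontrivial ((X.X₁ →ₗ[A] A) ⧸ LinearMap.range T) := Submodule.Quotient.nontrivial_iff.2 hne
    obtain ⟨g, hg⟩ := exists_hom_top_ne_zero hd ((X.X₁ →ₗ[A] A) ⧸ LinearMap.range T)
    obtain ⟨x, hx⟩ := (bijective_pair hd X.X₁).2 (g ∘ₗ (LinearMap.range T).mkQ)
    have h0 : (localCohomology (maximalIdeal A) (e + 1)).map X.f x = 0 := by
      refine (bijective_pair hd X.X₂).1 (LinearMap.ext fun ψ => ?_)
      have h1 : (LinearMap.range T).mkQ (ψ ∘ₗ X.f.hom) = 0 :=
        (Submodule.Quotient.mk_eq_zero _).2 (LinearMap.mem_range_self T ψ)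
      rw [map_zero, LinearMap.zero_apply, hf, hx, LinearMap.comp_apply, h1, map_zero]
    obtain ⟨y, hy⟩ := exact₁ hX e h0
    refine hg (Submodule.linearMap_qext _ ?_)
    rw [← hx, ← hy, Subsingleton.elim y 0, map_zero, map_zero, LinearMap.zero_comp]
  · intro hsur
    refine subsingleton_of_forall_eq 0 fun y => ?_
    have h0 : delta hX e (I := maximalIdeal A) y = 0 := by
      refine (bijective_pair hd X.X₁).1 (LinearMap.ext fun φ => ?_)
      obtain ⟨ψ, rfl⟩ := hsur φ
      rw [map_zero, LinearMap.zero_apply]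
      refine (hf _ ψ).symm.trans ?_
      rw [map_delta, map_zero, LinearMap.zero_apply]
    obtain ⟨z, hz⟩ := exact₃ hX e h0
    have := subsingleton_H_free (X := X) hd e.lt_succ_self
    rw [← hz, Subsingleton.elim z 0, map_zero]

end Groth.Agent.LocH.WeakDuality
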