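import Mathlib
import Groth.Agent.LocH.WeakDuality
import Groth.Agent.SerreReg.Descent
import Groth.Agent.Goren.Ring

/-!
Over a regular ring the condition `H^{ht p - k}_{pA_p}(M_p) = 0` is stable under generization.
-/

set_option autoImplicit false

namespace Groth.Agent.LocH

universe u

open CategoryTheory CategoryTheory.Limits IsLocalRing

instance (priority := 100) gorensteinRing_of_regular (S : Type u) [CommRing S] [IsRegularRing S] :
    LocCoh.IsGorensteinRing S :=
  Goren.isGorensteinRing_of_regular S inferInstance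

instance (priority := 100) gorenstein_localization (S : Type u) [CommRing S] [LocCoh.IsGorensteinRing S] (p : Ideal S)
    [p.IsPrime] : LocCoh.IsGorensteinLocalRing (Localization.AtPrime p) :=
  LocCoh.IsGorensteinRing.isGorensteinLocalRing_localization p

variable {S : Type u} [CommRing S] [LocCoh.IsGorensteinRing S]

/-- The condition `H^{ht p - k}_{pA_p}(M_p) = 0` (empty when `k > ht p`). -/
def Van (k : ℕ) (M : Type u) [AddCommGroup M] [Module S M] (p : Ideal S) [p.IsPrime] : Prop :=
  ∀ j : ℕ, ((j + k : ℕ) : ℕ∞) = p.height →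
    Subsingleton (LocCoh.H (maximalIdeal (Localization.AtPrime p)) j (LocalizedModule p.primeCompl M))

/-- Every map between localisations of finite modules comes from a map of the modules. -/
theorem exists_map_eq_smul (p : Ideal S) [p.IsPrime] {M : Type u} [AddCommGroup M] [Module S M] [Module.Finite S M]
    (ψ : LocalizedModule p.primeCompl M →ₗ[Localization.AtPrime p] Localization.AtPrime p) :
    ∃ (φ : M →ₗ[S] S) (s : p.primeCompl), ∀ m, algebraMap S (Localization.AtPrime p) (φ m) =
      (s : S) • ψ (LocalizedModule.mkLinearMap p.primeCompl M m) := by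
  have : Module.FinitePresentation S M := Module.finitePresentation_of_finite S M
  obtain ⟨φ, s, h⟩ := Module.FinitePresentation.exists_lift_of_isLocalizedModule p.primeCompl
    (Algebra.linearMap S (Localization.AtPrime p))
    ((ψ.restrictScalars S) ∘ₗ LocalizedModule.mkLinearMap p.primeCompl M)
  exact ⟨φ, s, fun m => LinearMap.congr_fun h m⟩

/-- The map on localisations given by a functional. -/
noncomputable def locDual (p : Ideal S) [p.IsPrime] {M : Type u} [AddCommGroup M] [Module S M] (φ : M →ₗ[S] S) :
    LocalizedModule p.primeCompl M →ₗ[Localization.AtPrime p] Localization.AtPrime p :=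
  (IsLocalizedModule.lift p.primeCompl (LocalizedModule.mkLinearMap p.primeCompl M)
    (Algebra.linearMap S (Localization.AtPrime p) ∘ₗ φ)
    (IsLocalizedModule.map_units (Algebra.linearMap S (Localization.AtPrime p)))).extendScalarsOfIsLocalization p.primeCompl _

theorem locDual_mk (p : Ideal S) [p.IsPrime] {M : Type u} [AddCommGroup M] [Module S M] (φ : M →ₗ[S] S) (m : M) :
    locDual p φ (LocalizedModule.mkLinearMap p.primeCompl M m) = algebraMap S (Localization.AtPrime p) (φ m) :=
  IsLocalizedModule.lift_apply p.primeCompl _ (Algebra.linearMap S (Localization.AtPrime p) ∘ₗ φ)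
    (IsLocalizedModule.map_units (Algebra.linearMap S (Localization.AtPrime p))) m

theorem ext_loc (p : Ideal S) [p.IsPrime] {M : Type u} [AddCommGroup M] [Module S M]
    {f g : LocalizedModule p.primeCompl M →ₗ[Localization.AtPrime p] Localization.AtPrime p}
    (h : ∀ m, f (LocalizedModule.mkLinearMap p.primeCompl M m) = g (LocalizedModule.mkLinearMap p.primeCompl M m)) :
    f = g := by
  have := IsLocalizedModule.ext p.primeCompl (LocalizedModule.mkLinearMap p.primeCompl M)
    (IsLocalizedModule.map_units (Algebra.linearMap S (Localization.AtPrime p))) (j := f.restrictScalars S)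
    (k := g.restrictScalars S) (LinearMap.ext h)
  exact LinearMap.ext fun x => LinearMap.congr_fun this x

theorem exists_notMem_kill {p : Ideal S} [p.IsPrime] {M : Type u} [AddCommGroup M] [Module S M] [Module.Finite S M]
    (φ : M →ₗ[S] S) (h : ∀ m, algebraMap S (Localization.AtPrime p) (φ m) = 0) : ∃ u ∉ p, u • φ = 0 := by
  classical
  choose v hv using fun m => (IsLocalization.map_eq_zero_iff p.primeCompl (Localization.AtPrime p) (φ m)).1 (h m)
  obtain ⟨G, hG⟩ := (Module.Finite.fg_top : (⊤ : Submodule S M).FG)
  refine ⟨((∏ g ∈ G, v g : p.primeCompl) : S), SetLike.coe_mem (∏ g ∈ G, v g), LinearMap.ext fun m => ?_⟩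
  have hm : m ∈ Submodule.span S (G : Set M) := hG ▸ Submodule.mem_top
  rw [LinearMap.smul_apply, LinearMap.zero_apply, smul_eq_mul]
  induction hm using Submodule.span_induction with
  | mem g hg =>
    obtain ⟨c, hc⟩ := Finset.dvd_prod_of_mem v hg
    rw [hc, Submonoid.coe_mul, mul_comm (v g : S), mul_assoc, hv, mul_zero]
  | zero => rw [map_zero, mul_zero]
  | add a b _ _ ha hb => rw [map_add, mul_add, ha, hb, add_zero]
  | smul r a _ ha => rw [map_smul, smul_eq_mul, mul_left_comm, ha, mul_zero]

theorem subsingleton_dual_iff (p : Ideal S) [p.IsPrime] (M : Type u) [AddCommGroup M] [Module S M] [Module.Finite S M] :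
    Subsingleton (LocalizedModule p.primeCompl M →ₗ[Localization.AtPrime p] Localization.AtPrime p) ↔
      ∀ φ : M →ₗ[S] S, ∃ u ∉ p, u • φ = 0 := by
  refine ⟨fun h φ => exists_notMem_kill φ fun m => ?_, fun h => subsingleton_of_forall_eq 0 fun ψ => ?_⟩
  · rw [← locDual_mk p φ m, Subsingleton.elim (locDual p φ) 0, LinearMap.zero_apply]
  · obtain ⟨φ, s, hs⟩ := exists_map_eq_smul p ψ
    obtain ⟨u, hu, hφ⟩ := h φ
    refine ext_loc p fun m => ?_
    rw [LinearMap.zero_apply]
    have h1 : algebraMap S (Localization.AtPrime p) (u * φ m) = 0 := by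
      rw [show u * φ m = (u • φ) m from rfl, hφ, LinearMap.zero_apply, map_zero]
    rw [map_mul, hs, Algebra.smul_def, ← mul_assoc] at h1
    exact (((IsLocalization.map_units _ (⟨u, hu⟩ : p.primeCompl)).mul (IsLocalization.map_units _ s)).mul_right_eq_zero).1 h1

section SES

variable {M : Type u} [AddCommGroup M] [Module S M] [Module.Finite S M] {n : ℕ} (π : (Fin n → S) →ₗ[S] M)
  (hπ : Function.Surjective π) (p : Ideal S) [p.IsPrime]

/-- The localised presentation sequence. -/
noncomputable def locSES : ShortComplex (ModuleCat.{u} (Localization.AtPrime p)) :=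
  ShortComplex.mk
    (ModuleCat.ofHom (X := LocalizedModule p.primeCompl (LinearMap.ker π)) (Y := LocalizedModule p.primeCompl (Fin n → S))
      (LocalizedModule.map p.primeCompl (LinearMap.ker π).subtype))
    (ModuleCat.ofHom (X := LocalizedModule p.primeCompl (Fin n → S)) (Y := LocalizedModule p.primeCompl M)
      (LocalizedModule.map p.primeCompl π))
    (ModuleCat.hom_ext (LinearMap.ext fun x =>
      (LocalizedModule.map_exact p.primeCompl _ _ (LinearMap.exact_subtype_ker_map π)).apply_apply_eq_zero x))

include hπ in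
theorem locSES_shortExact : (locSES π p).ShortExact :=
  { exact := (ShortComplex.ShortExact.moduleCat_exact_iff_function_exact (locSES π p)).2
      (LocalizedModule.map_exact p.primeCompl _ _ (LinearMap.exact_subtype_ker_map π))
    mono_f := (ModuleCat.mono_iff_injective _).2 (LocalizedModule.map_injective _ _ (LinearMap.ker π).injective_subtype)
    epi_g := (ModuleCat.epi_iff_surjective _).2 (LocalizedModule.map_surjective _ _ hπ) }

instance : Module.Finite (Localization.AtPrime p) (locSES π p).X₁ :=
  inferInstanceAs (Module.Finite (Localization.AtPrime p) (LocalizedModule p.primeCompl (LinearMap.ker π)))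

instance : Module.Finite (Localization.AtPrime p) (locSES π p).X₂ :=
  inferInstanceAs (Module.Finite (Localization.AtPrime p) (LocalizedModule p.primeCompl (Fin n → S)))

instance : Module.Finite (Localization.AtPrime p) (locSES π p).X₃ :=
  inferInstanceAs (Module.Finite (Localization.AtPrime p) (LocalizedModule p.primeCompl M))

instance : Module.Free (Localization.AtPrime p) (locSES π p).X₂ := by
  have : Module.Free (Localization.AtPrime p) (LocalizedModule p.primeCompl (Fin n → S)) :=
    Module.Free.of_equiv
      (IsLocalizedModule.isBaseChange p.primeCompl (Localization.AtPrime p) (LocalizedModule.mkLinearMap p.primeCompl (Fin n → S))).equiv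
  exact this

theorem surjective_dual_iff :
    (Function.Surjective fun ψ : (locSES π p).X₂ →ₗ[Localization.AtPrime p] Localization.AtPrime p => ψ ∘ₗ (locSES π p).f.hom) ↔
      ∀ φ : LinearMap.ker π →ₗ[S] S, ∃ u ∉ p, ∃ ψ : (Fin n → S) →ₗ[S] S, u • φ = ψ ∘ₗ (LinearMap.ker π).subtype := by
  have hloc : ∀ m : LinearMap.ker π, LocalizedModule.map p.primeCompl (LinearMap.ker π).subtype
      (LocalizedModule.mkLinearMap p.primeCompl (LinearMap.ker π) m) =
        LocalizedModule.mkLinearMap p.primeCompl (Fin n → S) m.1 := fun m => by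
    simp [LocalizedModule.map_mk]
  constructor
  · intro h φ
    obtain ⟨Ψ, hΨ⟩ := h (locDual p φ)
    change LocalizedModule p.primeCompl (Fin n → S) →ₗ[Localization.AtPrime p] Localization.AtPrime p at Ψ
    change Ψ ∘ₗ LocalizedModule.map p.primeCompl (LinearMap.ker π).subtype = locDual p φ at hΨ
    obtain ⟨ψ, s, hs⟩ := exists_map_eq_smul p (M := Fin n → S) Ψ
    obtain ⟨u, hu, hφ⟩ := exists_notMem_kill (p := p) ((s : S) • φ - ψ ∘ₗ (LinearMap.ker π).subtype) fun m => by
      have h1 := LinearMap.congr_fun hΨ (LocalizedModule.mkLinearMap p.primeCompl _ m)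
      rw [LinearMap.comp_apply, hloc, locDual_mk] at h1
      rw [LinearMap.sub_apply, map_sub, sub_eq_zero, LinearMap.comp_apply, Submodule.subtype_apply, hs, h1,
        LinearMap.smul_apply, smul_eq_mul, map_mul, Algebra.smul_def]
    refine ⟨u * s, fun h => (‹p.IsPrime›.mem_or_mem h).elim hu s.2, u • ψ, ?_⟩
    rw [smul_sub, sub_eq_zero, smul_smul] at hφ
    rw [hφ, LinearMap.smul_comp]
  · intro h Φ
    change LocalizedModule p.primeCompl (LinearMap.ker π) →ₗ[Localization.AtPrime p] Localization.AtPrime p at Φ
    obtain ⟨φ, s, hs⟩ := exists_map_eq_smul p Φ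
    obtain ⟨u, hu, ψ, hψ⟩ := h φ
    let U : p.primeCompl := ⟨u, hu⟩ * s
    refine ⟨IsLocalization.mk' (Localization.AtPrime p) (1 : S) U • locDual p ψ, ext_loc p fun m => ?_⟩
    show IsLocalization.mk' (Localization.AtPrime p) (1 : S) U *
      locDual p ψ (LocalizedModule.map p.primeCompl (LinearMap.ker π).subtype (LocalizedModule.mkLinearMap p.primeCompl _ m)) = _
    rw [hloc, locDual_mk, show ψ m.1 = (u • φ) m from (LinearMap.congr_fun hψ m).symm, LinearMap.smul_apply,
      smul_eq_mul, map_mul, hs, Algebra.smul_def, ← mul_assoc (algebraMap S _ u), ← map_mul, ← mul_assoc,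
      show IsLocalization.mk' (Localization.AtPrime p) (1 : S) U * algebraMap S _ (u * s) = 1 from
        (IsLocalization.mk'_spec _ (1 : S) U).trans (map_one _), one_mul]

end SES

/-- Stability under generization. -/
theorem van_generization : ∀ (k : ℕ) (M : Type u) [AddCommGroup M] [Module S M] [Module.Finite S M]
    (p q : Ideal S) [p.IsPrime] [q.IsPrime], p ≤ q → Van k M q → Van k M p := by
  intro k
  induction k using Nat.strong_induction_on with
  | _ k ih =>
  intro M _ _ _ p q _ _ hpq hq j hj
  obtain ⟨h', hh'⟩ := ENat.ne_top_iff_exists.1 (q.height_ne_top ‹q.IsPrime›.ne_top)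
  have hle : j + k ≤ h' := by
    have := Ideal.height_mono hpq
    rw [← hj, ← hh', Nat.cast_le] at this
    exact this
  obtain ⟨i, rfl⟩ : ∃ i, h' = i + k := ⟨h' - k, by omega⟩
  have hqi := hq i hh'
  have hp : ringKrullDim (Localization.AtPrime p) = (j + k : ℕ) := by
    rw [IsLocalization.AtPrime.ringKrullDim_eq_height p, ← hj]; rfl
  have hdq : ringKrullDim (Localization.AtPrime q) = (i + k : ℕ) := by
    rw [IsLocalization.AtPrime.ringKrullDim_eq_height q, ← hh']; rfl
  match k with
  | 0 =>
    simp only [Nat.add_zero] at hp hdq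
    rw [WeakDuality.subsingleton_top_iff hdq, subsingleton_dual_iff] at hqi
    rw [WeakDuality.subsingleton_top_iff hp, subsingleton_dual_iff]
    intro φ
    obtain ⟨u, hu, h0⟩ := hqi φ
    exact ⟨u, fun h => hu (hpq h), h0⟩
  | 1 =>
    obtain ⟨n, π, hπ⟩ := Module.Finite.exists_fin' S M
    have h1 := (WeakDuality.subsingleton_pred_iff (locSES_shortExact π hπ q) hdq).1 hqi
    refine (WeakDuality.subsingleton_pred_iff (locSES_shortExact π hπ p) hp).2 ?_
    rw [surjective_dual_iff] at h1 ⊢
    intro φ
    obtain ⟨u, hu, ψ, hψ⟩ := h1 φ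
    exact ⟨u, fun h => hu (hpq h), ψ, hψ⟩
  | k + 2 =>
    obtain ⟨n, π, hπ⟩ := Module.Finite.exists_fin' S M
    refine (WeakDuality.subsingleton_succ_iff (locSES_shortExact π hπ p) hp (by omega)).2 ?_
    refine ih (k + 1) (by omega) (LinearMap.ker π) p q hpq (fun l hl => ?_) (j + 1) ?_
    · rw [← hh', Nat.cast_inj] at hl
      obtain rfl : l = i + 1 := by omega
      exact (WeakDuality.subsingleton_succ_iff (locSES_shortExact π hπ q) hdq (by omega)).1 hqi
    · rw [← hj]
      congr 1
      omega

end Groth.Agent.LocH
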