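import Mathlib
import Groth.Agent.LocH.TildeCompl
import Groth.Prelude.Def_Wider

/-!
Torsion of sections of `M~` relative to the punctured open.
-/

namespace Groth.Agent.LocH

universe u

open AlgebraicGeometry CategoryTheory Opposite TopologicalSpace

variable {A : Type u} [CommRing A] {M : Type u} [AddCommGroup M] [Module A M] (J : Ideal A)

theorem mem_iSup_torsionBy_iff {N : Type u} [AddCommGroup N] [Module A N] (m : N) :
    m ∈ ⨆ n : ℕ, LocCoh.torsionBy (J ^ n) N ↔ m ∈ DRing.torsionSub J N := by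
  rw [Submodule.mem_iSup_of_directed _ (Monotone.directed_le fun a b h =>
    Submodule.torsionBySet_le_torsionBySet_of_subset (Ideal.pow_le_pow_right h))]
  exact exists_congr fun n => (Submodule.mem_torsionBySet_iff _ _).trans
    ⟨fun h a ha => h ⟨a, ha⟩, fun h a => h a.1 a.2⟩

theorem eq_zero_of_pow_smul_eq_zero {f : A} {W : (Spec (CommRingCat.of A)).Opens}
    (hW : W ≤ PrimeSpectrum.basicOpen f) {n : ℕ} {t : Sec A M W} (ht : f ^ n • t = 0) : t = 0 := by
  refine sec_ext fun x hx => ?_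
  obtain ⟨g, hxg, hgW⟩ := exists_basicOpen_le hx
  refine ⟨g, hgW, hxg, ?_⟩
  rw [map_zero]
  obtain ⟨⟨m, c⟩, hc⟩ := IsLocalizedModule.surj (Submonoid.powers g) (secOf A M (PrimeSpectrum.basicOpen g)) (secRes A M hgW t)
  have h1 : secOf A M (PrimeSpectrum.basicOpen g) (f ^ n • m) = 0 := by
    rw [map_smul, ← hc, smul_comm, ← map_smul, ht, map_zero, smul_zero]
  obtain ⟨⟨_, k, rfl⟩, hk⟩ := (IsLocalizedModule.eq_zero_iff (Submonoid.powers g) _).1 h1
  change g ^ k • f ^ n • m = 0 at hk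
  obtain ⟨j, hj⟩ := PrimeSpectrum.basicOpen_le_basicOpen_iff g f |>.1 (hgW.trans hW)
  obtain ⟨b, hb⟩ := Ideal.mem_span_singleton.1 hj
  have h2 : secOf A M (PrimeSpectrum.basicOpen g) m = 0 := (IsLocalizedModule.eq_zero_iff (Submonoid.powers g) _).2
    ⟨⟨_, k + j * n, rfl⟩, by
      change g ^ (k + j * n) • m = 0
      rw [pow_add, pow_mul, hb, mul_pow, mul_comm (g ^ k), mul_comm (f ^ n), mul_assoc, mul_smul, mul_smul,
        smul_comm (f ^ n) (g ^ k), hk, smul_zero]⟩
  exact IsLocalizedModule.smul_injective (secOf A M (PrimeSpectrum.basicOpen g)) c ((hc.trans h2).trans (smul_zero c).symm)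

theorem res_eq_zero_of_torsion {W U : (Spec (CommRingCat.of A)).Opens} (hUW : U ≤ W) (hU : U ≤ EGA4.openCompl A J)
    {t : Sec A M W} (ht : t ∈ DRing.torsionSub J (Sec A M W)) : secRes A M hUW t = 0 := by
  obtain ⟨n, hn⟩ := ht
  refine sec_ext fun x hx => ?_
  obtain ⟨f, hf, hfx⟩ := Set.not_subset.1 (hU hx)
  obtain ⟨g, hxg, hgle⟩ := exists_basicOpen_le (show x ∈ U ⊓ PrimeSpectrum.basicOpen f from ⟨hx, hfx⟩)
  refine ⟨g, fun y hy => (hgle hy).1, hxg, ?_⟩
  rw [map_zero]
  refine (secRes_secRes _ _ t).trans ?_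
  refine eq_zero_of_pow_smul_eq_zero (f := f) (fun y hy => (hgle hy).2) (n := n) ?_
  rw [← map_smul, hn _ (Ideal.pow_mem_pow hf n), map_zero]

variable [IsNoetherianRing A]

theorem exists_pow_smul_eq_zero_of_res {W V : (Spec (CommRingCat.of A)).Opens} (hVW : V ≤ W) {f : A}
    (hV : W ⊓ PrimeSpectrum.basicOpen f ≤ V) {t : Sec A M W} (ht : secRes A M hVW t = 0) :
    ∃ n : ℕ, f ^ n • t = 0 := by
  have hcpt : IsCompact (SetLike.coe W : Set (PrimeSpectrum A)) := TopologicalSpace.NoetherianSpace.isCompact (α := PrimeSpectrum A) _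
  have hloc : ∀ x : W, ∃ (g : A) (hg : PrimeSpectrum.basicOpen g ≤ W) (n : ℕ),
      x.1 ∈ PrimeSpectrum.basicOpen g ∧ secRes A M hg (f ^ n • t) = 0 := by
    rintro ⟨x, hx⟩
    obtain ⟨g, hxg, hgW⟩ := exists_basicOpen_le hx
    obtain ⟨⟨m, c⟩, hc⟩ := IsLocalizedModule.surj (Submonoid.powers g) (secOf A M (PrimeSpectrum.basicOpen g)) (secRes A M hgW t)
    have hle : PrimeSpectrum.basicOpen (g * f) ≤ V := fun y hy =>
      hV ⟨hgW (PrimeSpectrum.basicOpen_mul_le_left g f hy), PrimeSpectrum.basicOpen_mul_le_right g f hy⟩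
    have h1 : secOf A M (PrimeSpectrum.basicOpen (g * f)) m = 0 := by
      rw [← secRes_secOf (PrimeSpectrum.basicOpen_mul_le_left g f) m, ← hc]
      change secRes A M _ ((c : A) • _) = 0
      refine (map_smul (secRes A M (PrimeSpectrum.basicOpen_mul_le_left g f)) _ _).trans ?_
      rw [show secRes A M (PrimeSpectrum.basicOpen_mul_le_left g f) (secRes A M hgW t) = secRes A M hle (secRes A M hVW t) from
        (secRes_secRes _ _ t).trans (secRes_secRes _ _ t).symm, ht, map_zero, smul_zero]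
    obtain ⟨⟨_, k, rfl⟩, hk⟩ := (IsLocalizedModule.eq_zero_iff (Submonoid.powers (g * f)) _).1 h1
    change (g * f) ^ k • m = 0 at hk
    refine ⟨g, hgW, k, hxg, ?_⟩
    have h2 : secOf A M (PrimeSpectrum.basicOpen g) (f ^ k • m) = 0 := (IsLocalizedModule.eq_zero_iff (Submonoid.powers g) _).2
      ⟨⟨_, k, rfl⟩, show g ^ k • f ^ k • m = 0 by rw [← mul_smul, ← mul_pow, hk]⟩
    refine IsLocalizedModule.smul_injective (secOf A M (PrimeSpectrum.basicOpen g)) c ?_
    change c • secRes A M hgW (f ^ k • t) = c • 0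
    rw [map_smul, smul_comm, hc, ← map_smul, h2, smul_zero]
  choose g hgW n hxg hn using hloc
  obtain ⟨s, hs⟩ := hcpt.elim_finite_subcover (fun x : W => (PrimeSpectrum.basicOpen (g x) : Set (PrimeSpectrum A)))
    (fun x => (PrimeSpectrum.basicOpen (g x)).isOpen) (fun x hx => Set.mem_iUnion.2 ⟨⟨x, hx⟩, hxg _⟩)
  refine ⟨s.sup n, sec_ext fun y hy => ?_⟩
  obtain ⟨x, hxs, hyx⟩ := Set.mem_iUnion₂.1 (hs hy)
  refine ⟨g x, hgW x, hyx, ?_⟩
  rw [map_zero, ← Nat.sub_add_cancel (Finset.le_sup (f := n) hxs), pow_add, mul_smul, map_smul, hn x, smul_zero]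

theorem isPowerTorsion_coker :
    LocCoh.IsPowerTorsion J (Sec A M (EGA4.openCompl A J) ⧸ LinearMap.range (secOf A M (EGA4.openCompl A J))) := by
  intro q
  obtain ⟨s, rfl⟩ := Submodule.Quotient.mk_surjective _ q
  let K : Ideal A := (LinearMap.range (secOf A M (EGA4.openCompl A J))).comap (LinearMap.toSpanSingleton A _ s)
  have hle : J ≤ K.radical := fun f hf => by
    have hD := basicOpen_le_openCompl J hf
    obtain ⟨⟨m, ⟨_, k, rfl⟩⟩, hm⟩ := IsLocalizedModule.surj (Submonoid.powers f)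
      (secOf A M (PrimeSpectrum.basicOpen f)) (secRes A M hD s)
    change f ^ k • secRes A M hD s = _ at hm
    obtain ⟨j, hj⟩ := exists_pow_smul_eq_zero_of_res hD (f := f) inf_le_right
      (t := f ^ k • s - secOf A M (EGA4.openCompl A J) m) (by rw [map_sub, map_smul, hm, show secRes A M hD (secOf A M (EGA4.openCompl A J) m) = secOf A M (PrimeSpectrum.basicOpen f) m from secRes_secOf hD m]; exact sub_self _)
    refine ⟨j + k, f ^ j • m, ?_⟩
    rw [LinearMap.toSpanSingleton_apply, map_smul, pow_add, mul_smul]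
    rw [smul_sub, sub_eq_zero] at hj
    exact hj.symm
  obtain ⟨n, hn⟩ := Ideal.exists_pow_le_of_le_radical_of_fg hle (IsNoetherian.noetherian J)
  refine ⟨n, fun a ha => ?_⟩
  rw [← Submodule.Quotient.mk_smul, Submodule.Quotient.mk_eq_zero]
  exact hn ha

theorem mem_torsionSub_iff_res {W : (Spec (CommRingCat.of A)).Opens} (hUW : EGA4.openCompl A J ≤ W) (t : Sec A M W) :
    t ∈ DRing.torsionSub J (Sec A M W) ↔ secRes A M hUW t = 0 := by
  refine ⟨res_eq_zero_of_torsion J hUW le_rfl, fun h => ?_⟩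
  rw [mem_torsionSub_iff_forall_pow]
  intro f hf
  exact exists_pow_smul_eq_zero_of_res hUW (inf_le_right.trans (basicOpen_le_openCompl J hf)) h

end Groth.Agent.LocH
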