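import Mathlib
import Groth.Agent.LocH.WeakDuality
import Groth.Agent.LocH.ChangeRings
import Groth.Agent.Goren.Artin

/-!
The top local cohomology of a Gorenstein local ring has simple socle.
-/

set_option autoImplicit false

namespace Groth.Agent.LocH.WeakDuality

universe u

open CategoryTheory CategoryTheory.Limits IsLocalRing

/-- The socle of `H^d(A)` is cyclic. -/
theorem socle_top : ∀ (d : ℕ) (A : Type u) [CommRing A] [LocCoh.IsGorensteinLocalRing A], ringKrullDim A = d →
    ∀ y z : Top A d, (∀ a ∈ maximalIdeal A, a • y = 0) → (∀ a ∈ maximalIdeal A, a • z = 0) → y ≠ 0 →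
      ∃ c : A, z = c • y := by
  intro d
  induction d with
  | zero =>
    intro A _ _ hd y z hy hz hy0
    let e := ((zeroIso (maximalIdeal A)).app (ModuleCat.of A A)).toLinearEquiv
    obtain ⟨s, -, hsm, hs⟩ := (Goren.gorenstein_iff_socSimple A (by simpa using hd)).1 inferInstance
    have key : ∀ w : Top A 0, (∀ a ∈ maximalIdeal A, a • w = 0) → ∃ r : A, ((e w).1 : A) = r * s := by
      intro w hw
      obtain ⟨r, hr⟩ := Ideal.mem_span_singleton'.1 (hs ((e w).1 : A) fun x hx => by
        have h1 : x • e w = 0 := by rw [← map_smul, hw x hx, map_zero]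
        exact congrArg Subtype.val h1)
      exact ⟨r, hr.symm⟩
    obtain ⟨r, hr⟩ := key y hy
    obtain ⟨t, ht⟩ := key z hz
    obtain ⟨u, rfl⟩ : IsUnit r := by
      by_contra hr'
      exact hy0 (e.injective ((Subtype.ext (hr.trans (hsm r hr'))).trans (map_zero e).symm))
    refine ⟨t * (↑u⁻¹ : A), e.injective ((Subtype.ext ?_).trans (map_smul e _ y).symm)⟩
    show ((e z).1 : A) = (t * (↑u⁻¹ : A)) * ((e y).1 : A)
    rw [ht, hr, mul_assoc, ← mul_assoc (↑u⁻¹ : A), Units.inv_mul, one_mul]
  | succ d ih =>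
    intro A _ _ hd y z hy hz hy0
    obtain ⟨rs, hlen, hrs, hmem⟩ := exists_isWeaklyRegular (maximalIdeal A) 1 A fun i hi =>
      subsingleton_H_self A hd (by omega)
    obtain ⟨x, rfl⟩ := List.length_eq_one_iff.1 hlen
    have hx : x ∈ maximalIdeal A := hmem x (List.mem_singleton_self x)
    have hreg : IsSMulRegular A x := ((RingTheory.Sequence.isWeaklyRegular_cons_iff A x []).1 hrs).1
    let B := A ⧸ Ideal.span {x}
    haveI : IsLocalRing B := SerreReg.isLocalRing_quot hx
    haveI : LocCoh.IsGorensteinLocalRing B := (Goren.gorenstein_iff_quot x hx hreg).1 inferInstance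
    have hdB : ringKrullDim B = d := by
      have h := ringKrullDim_quotient_span_singleton_succ_eq_ringKrullDim_of_mem_jacobson hreg
        (by rwa [IsLocalRing.ringJacobson_eq_maximalIdeal])
      rw [hd] at h
      rcases eq_or_ne (ringKrullDim B) ⊥ with hb | hb
      · exact absurd hb ringKrullDim_ne_bot
      obtain ⟨b, hb'⟩ := WithBot.ne_bot_iff_exists.1 hb
      rw [← hb'] at h ⊢
      have h' : b + 1 = ((d + 1 : ℕ) : ℕ∞) := WithBot.coe_inj.1 h
      obtain ⟨k, rfl⟩ := ENat.ne_top_iff_exists.1 (show b ≠ ⊤ from fun e => by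
        rw [e, top_add] at h'; exact (ENat.natCast_ne_top _) h'.symm)
      have h'' : k + 1 = d + 1 := by exact_mod_cast h'
      obtain rfl : k = d := by omega
      rfl
    let X : ShortComplex (ModuleCat.{u} A) :=
      ShortComplex.mk (X₁ := ModuleCat.of A A) (X₂ := ModuleCat.of A A) (X₃ := ModuleCat.of A B)
        (x • 𝟙 (ModuleCat.of A A)) (ModuleCat.ofHom (Algebra.linearMap A B)) (by
          ext
          exact Ideal.Quotient.eq_zero_iff_mem.2 (Ideal.mem_span_singleton'.2 ⟨1, (one_mul x).trans (mul_one x).symm⟩))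
    have hX : X.ShortExact :=
      { exact := by
          rw [ShortComplex.moduleCat_exact_iff]
          intro a ha
          obtain ⟨c, hc⟩ := Ideal.mem_span_singleton'.1 (Ideal.Quotient.eq_zero_iff_mem.1 ha)
          exact ⟨c, (mul_comm x c).trans hc⟩
        mono_f := (ModuleCat.mono_iff_injective _).2 hreg
        epi_g := (ModuleCat.epi_iff_surjective _).2 Ideal.Quotient.mk_surjective }
    have hinj : Function.Injective (delta hX d (I := maximalIdeal A)) := by
      refine (injective_iff_map_eq_zero _).2 fun w hw => ?_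
      obtain ⟨v, rfl⟩ := exact₃ hX d hw
      have := subsingleton_H_self A hd (Nat.lt_succ_self d)
      rw [Subsingleton.elim v 0, map_zero]
    have hlift : ∀ v : Top A (d + 1), (∀ a ∈ maximalIdeal A, a • v = 0) →
        ∃ w : LocCoh.H (maximalIdeal A) d B, delta hX d w = v ∧ ∀ a ∈ maximalIdeal A, a • w = 0 := by
      intro v hv
      have h0 : (localCohomology (maximalIdeal A) (d + 1)).map X.f v = 0 :=
        (map_smul_id_apply x (d + 1) v).trans (hv x hx)
      obtain ⟨w, rfl⟩ := exact₁ hX d h0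
      exact ⟨w, rfl, fun a ha => hinj (by rw [map_smul, map_zero]; exact hv a ha)⟩
    obtain ⟨w, rfl, hwm⟩ := hlift y hy
    obtain ⟨w', rfl, hw'm⟩ := hlift z hz
    obtain ⟨φ, hφ⟩ := exists_semilinearEquiv (R' := B) (I := maximalIdeal A) d B
    have hmax : (maximalIdeal A).map (algebraMap A B) = maximalIdeal B :=
      map_maximalIdeal_of_surjective Ideal.Quotient.mk_surjective
    obtain ⟨v, rfl⟩ := φ.surjective w
    obtain ⟨v', rfl⟩ := φ.surjective w'
    have hconv : ∀ u : LocCoh.H ((maximalIdeal A).map (algebraMap A B)) d B,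
        (∀ a ∈ maximalIdeal A, a • φ u = 0) → ∀ b ∈ maximalIdeal B, b • u = 0 := by
      intro u hu b hb
      obtain ⟨a, rfl⟩ := Ideal.Quotient.mk_surjective b
      have ha : a ∈ maximalIdeal A := fun h => hb (h.map _)
      exact φ.injective ((hφ a u).trans ((hu a ha).trans (map_zero φ).symm))
    have key : ∀ (𝔫 : Ideal B) (_ : 𝔫 = maximalIdeal B) (v v' : LocCoh.H 𝔫 d B),
        (∀ b ∈ maximalIdeal B, b • v = 0) → (∀ b ∈ maximalIdeal B, b • v' = 0) → v ≠ 0 → ∃ c : B, v' = c • v := by
      rintro 𝔫 rfl v v' hv hv' hne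
      exact ih B hdB v v' hv hv' hne
    obtain ⟨c, rfl⟩ := key _ hmax v v' (hconv v hwm) (hconv v' hw'm) fun e => hy0 (by rw [e, map_zero, map_zero])
    obtain ⟨c, rfl⟩ := Ideal.Quotient.mk_surjective c
    refine ⟨c, ?_⟩
    rw [← map_smul]
    exact congrArg _ (hφ c v)

theorem isInjectiveHull_top {A : Type u} [CommRing A] [LocCoh.IsGorensteinLocalRing A] {d : ℕ} (hd : ringKrullDim A = d) :
    ∃ g : (A ⧸ maximalIdeal A) →ₗ[A] Top A d, InjHull.IsInjectiveHull g := by
  obtain ⟨g, hg⟩ := exists_hom_top_ne_zero hd (A ⧸ maximalIdeal A)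
  let y := g (Submodule.Quotient.mk 1)
  have hy : ∀ a ∈ maximalIdeal A, a • y = 0 := fun a ha => by
    rw [← map_smul, ← Submodule.Quotient.mk_smul, smul_eq_mul, mul_one, (Submodule.Quotient.mk_eq_zero _).2 ha, map_zero]
  have hy0 : y ≠ 0 := fun h => hg (Submodule.linearMap_qext _ (LinearMap.ext_ring h))
  have hinj : Function.Injective g := by
    refine (injective_iff_map_eq_zero g).2 fun w hw => ?_
    obtain ⟨a, rfl⟩ := Submodule.Quotient.mk_surjective _ w
    refine (Submodule.Quotient.mk_eq_zero _).2 ?_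
    by_contra ha
    refine hy0 ((IsLocalRing.notMem_maximalIdeal.1 ha).smul_eq_zero.1 ?_)
    rw [← map_smul, ← Submodule.Quotient.mk_smul, smul_eq_mul, mul_one]
    exact hw
  refine ⟨g, ?_, injective_top hd⟩
  refine InjHull.isEssentialInj_of_socle_le (isPowerTorsion (maximalIdeal A) d (ModuleCat.of A A)) g hinj fun z hz => ?_
  obtain ⟨c, rfl⟩ := socle_top d A hd y z hy hz hy0
  exact ⟨c • Submodule.Quotient.mk 1, map_smul g c _⟩

end Groth.Agent.LocH.WeakDuality
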