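import Mathlib
import Groth.Agent.RegSeqTri.Basic

/-!
Weakly regular sequences on localizations spread out.
-/

set_option autoImplicit false

namespace Groth.Agent.LocH

universe u

open RingTheory.Sequence
open scoped Pointwise

variable {A : Type u} [CommRing A] {M : Type u} [AddCommGroup M] [Module A M]

theorem mk_mem_map_smul_top_iff (S : Submonoid A) (L : Ideal A) (m : M) :
    LocalizedModule.mk m (1 : S) ∈ L.map (algebraMap A (Localization S)) • (⊤ : Submodule (Localization S) (LocalizedModule S M)) ↔
      ∃ t ∈ S, t • m ∈ L • (⊤ : Submodule A M) := by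
  have key : ∀ y, y ∈ L.map (algebraMap A (Localization S)) • (⊤ : Submodule (Localization S) (LocalizedModule S M)) →
      ∃ (s : S) (m' : M), m' ∈ L • (⊤ : Submodule A M) ∧ (s : A) • y = LocalizedModule.mk m' (1 : S) := by
    intro y hy
    refine Submodule.smul_induction_on hy (fun r hr z _ => ?_) (fun a b ⟨s, m₁, h1, e1⟩ ⟨t, m₂, h2, e2⟩ => ?_)
    · obtain ⟨⟨⟨a, ha⟩, s⟩, hs⟩ := (IsLocalization.mem_map_algebraMap_iff S (Localization S)).1 hr
      induction z using LocalizedModule.induction_on with
      | h m t =>
        refine ⟨s * t, a • m, Submodule.smul_mem_smul ha trivial, ?_⟩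
        have h1 : (t : A) • LocalizedModule.mk m t = LocalizedModule.mk m (1 : S) := by
          rw [LocalizedModule.smul'_mk]
          exact LocalizedModule.mk_cancel t m
        have h2 : ((s : A) * t) • r • LocalizedModule.mk m t = (r * algebraMap A (Localization S) s) • (t : A) • LocalizedModule.mk m t := by
          rw [← algebraMap_smul (Localization S) ((s : A) * t), map_mul,
            ← algebraMap_smul (Localization S) (t : A) (LocalizedModule.mk m t), smul_smul, smul_smul]
          ring_nf
        rw [Submonoid.coe_mul, h2, hs, h1, algebraMap_smul, LocalizedModule.smul'_mk]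
    · refine ⟨s * t, (t : A) • m₁ + (s : A) • m₂, add_mem (Submodule.smul_mem _ _ h1) (Submodule.smul_mem _ _ h2), ?_⟩
      rw [smul_add, Submonoid.coe_mul, mul_comm, mul_smul, e1, mul_comm, mul_smul, e2, LocalizedModule.smul'_mk,
        LocalizedModule.smul'_mk]
      simp [LocalizedModule.mk_add_mk]
  constructor
  · intro h
    obtain ⟨s, m', hm', e⟩ := key _ h
    rw [LocalizedModule.smul'_mk, LocalizedModule.mk_eq] at e
    obtain ⟨c, hc⟩ := e
    simp only [Submonoid.smul_def, Submonoid.coe_one, one_smul] at hc
    refine ⟨c * s, S.mul_mem c.2 s.2, ?_⟩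
    rw [mul_smul, hc]
    exact Submodule.smul_mem _ _ hm'
  · rintro ⟨t, ht, htm⟩
    have h1 : LocalizedModule.mk (t • m) (1 : S) ∈
        L.map (algebraMap A (Localization S)) • (⊤ : Submodule (Localization S) (LocalizedModule S M)) := by
      refine Submodule.smul_induction_on htm (fun a ha z _ => ?_) (fun a b h1 h2 => ?_)
      · rw [← LocalizedModule.smul'_mk, ← algebraMap_smul (Localization S) a]
        exact Submodule.smul_mem_smul (Ideal.mem_map_of_mem _ ha) trivial
      · rw [show LocalizedModule.mk (a + b) (1 : S) = LocalizedModule.mk a 1 + LocalizedModule.mk b 1 by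
          simp [LocalizedModule.mk_add_mk]]
        exact add_mem h1 h2
    rw [← LocalizedModule.smul'_mk, ← algebraMap_smul (Localization S) t] at h1
    exact (Submodule.smul_mem_iff_of_isUnit _ (IsLocalization.map_units (Localization S) (⟨t, ht⟩ : S))).1 h1

theorem weaklyRegular_localized_iff (S : Submonoid A) (L : List A) :
    IsWeaklyRegular (LocalizedModule S M) (L.map (algebraMap A (Localization S))) ↔
      ∀ i (hi : i < L.length) (m : M), L[i] • m ∈ Ideal.ofList (L.take i) • (⊤ : Submodule A M) →
        ∃ t ∈ S, t • m ∈ Ideal.ofList (L.take i) • (⊤ : Submodule A M) := by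
  constructor
  · intro h i hi m hm
    have h1 := h.regular_mod_prev i (by simpa using hi)
    rw [← List.map_take, ← Ideal.map_ofList] at h1
    refine (mk_mem_map_smul_top_iff S _ m).1 ((Submodule.Quotient.mk_eq_zero _).1 (h1.right_eq_zero_of_smul ?_))
    rw [List.getElem_map, ← Submodule.Quotient.mk_smul, Submodule.Quotient.mk_eq_zero, algebraMap_smul, LocalizedModule.smul'_mk]
    exact (mk_mem_map_smul_top_iff S _ _).2 ⟨1, S.one_mem, by rwa [one_smul]⟩
  · intro h
    refine ⟨fun i hi => ?_⟩
    simp only [List.length_map] at hi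
    rw [← List.map_take, ← Ideal.map_ofList, List.getElem_map]
    refine isSMulRegular_iff_right_eq_zero_of_smul.2 fun y hy => ?_
    obtain ⟨y, rfl⟩ := Submodule.Quotient.mk_surjective _ y
    induction y using LocalizedModule.induction_on with
    | h m s =>
      rw [← Submodule.Quotient.mk_smul, Submodule.Quotient.mk_eq_zero] at hy
      rw [Submodule.Quotient.mk_eq_zero]
      have hs : algebraMap A (Localization S) s • LocalizedModule.mk m s = LocalizedModule.mk m (1 : S) := by
        rw [algebraMap_smul, LocalizedModule.smul'_mk]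
        exact LocalizedModule.mk_cancel s m
      have h2 : LocalizedModule.mk (L[i] • m) (1 : S) ∈ (Ideal.ofList (L.take i)).map (algebraMap A (Localization S)) •
          (⊤ : Submodule (Localization S) (LocalizedModule S M)) := by
        rw [← LocalizedModule.smul'_mk, ← algebraMap_smul (Localization S) L[i], ← hs, smul_comm]
        exact Submodule.smul_mem _ _ hy
      obtain ⟨t, ht, htm⟩ := (mk_mem_map_smul_top_iff S _ _).1 h2
      rw [smul_comm] at htm
      obtain ⟨t', ht', ht'm⟩ := h i hi (t • m) htm
      have h4 : (t' * t) • m ∈ Ideal.ofList (L.take i) • (⊤ : Submodule A M) := by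
        rw [mul_smul]
        exact ht'm
      have h3 := (mk_mem_map_smul_top_iff S (Ideal.ofList (L.take i)) m).2 ⟨t' * t, S.mul_mem ht' ht, h4⟩
      rw [← hs] at h3
      exact (Submodule.smul_mem_iff_of_isUnit _ (IsLocalization.map_units (Localization S) s)).1 h3

theorem exists_notMem_weaklyRegular [IsNoetherianRing A] [Module.Finite A M] (p : Ideal A) [p.IsPrime] (L : List A)
    (h : IsWeaklyRegular (LocalizedModule p.primeCompl M) (L.map (algebraMap A (Localization.AtPrime p)))) :
    ∃ g ∉ p, ∀ (q : Ideal A) [q.IsPrime], g ∉ q →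
      IsWeaklyRegular (LocalizedModule q.primeCompl M) (L.map (algebraMap A (Localization.AtPrime q))) := by
  classical
  rw [weaklyRegular_localized_iff] at h
  have step : ∀ i : Fin L.length, ∃ g ∉ p, ∀ m : M, L[i.1] • m ∈ Ideal.ofList (L.take i) • (⊤ : Submodule A M) →
      g • m ∈ Ideal.ofList (L.take i) • (⊤ : Submodule A M) := by
    intro i
    let K : Submodule A M := (Ideal.ofList (L.take i) • (⊤ : Submodule A M)).comap (L[i.1] • LinearMap.id)
    obtain ⟨s, hs⟩ := (IsNoetherian.noetherian K : K.FG)
    choose t ht htm using fun m : s => h i i.2 m.1 (show m.1 ∈ K from hs ▸ Submodule.subset_span m.2)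
    refine ⟨∏ m : s, t m, fun hmem => ?_, fun m hm => ?_⟩
    · obtain ⟨j, -, hj⟩ := (Ideal.IsPrime.prod_mem_iff).1 hmem
      exact ht j hj
    · have hmK : m ∈ Submodule.span A (s : Set M) := hs ▸ hm
      refine Submodule.span_induction (fun x hx => ?_) ?_ (fun x y _ _ a b => ?_) (fun a x _ hx => ?_) hmK
      · rw [← Finset.prod_erase_mul _ _ (Finset.mem_univ (⟨x, hx⟩ : s)), mul_smul]
        exact Submodule.smul_mem _ _ (htm ⟨x, hx⟩)
      · simp
      · rw [smul_add]; exact add_mem a b
      · rw [smul_comm]; exact Submodule.smul_mem _ _ hx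
  choose g hg hgm using step
  refine ⟨∏ i, g i, fun hmem => ?_, fun q _ hgq => ?_⟩
  · obtain ⟨i, -, hi⟩ := (Ideal.IsPrime.prod_mem_iff).1 hmem
    exact hg i hi
  · rw [weaklyRegular_localized_iff]
    intro i hi m hm
    exact ⟨g ⟨i, hi⟩, fun hmem => hgq (Ideal.mem_of_dvd _ (Finset.dvd_prod_of_mem g (Finset.mem_univ _)) hmem), hgm ⟨i, hi⟩ m hm⟩

/-- Factors of a weakly regular sequence form a weakly regular sequence. -/
theorem weaklyRegular_of_mul : ∀ (P : List (A × A)) (N : Type u) [AddCommGroup N] [Module A N],
    IsWeaklyRegular N (P.map fun x => x.2 * x.1) → IsWeaklyRegular N (P.map Prod.fst)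
  | [], N, _, _, _ => IsWeaklyRegular.nil A N
  | x :: P, N, _, _, h => by
    rw [List.map_cons] at h ⊢
    have h1 := (RegSeqTri.cons_of_mul h).1
    rw [isWeaklyRegular_cons_iff] at h1 ⊢
    exact ⟨h1.1, weaklyRegular_of_mul P _ h1.2⟩

end Groth.Agent.LocH
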