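import Mathlib
import Groth.Prelude.Def_DRing3
import Groth.Agent.LocH.Depth
import Groth.Agent.S5163
import Groth.Agent.S7038

/-!
Vanishing of local cohomology below `n` and vanishing of `Ext` from modules supported in `V(I)`.
-/

namespace Groth.Agent.LocH

universe u

open CategoryTheory CategoryTheory.Limits Opposite CategoryTheory.Abelian

variable {R : Type u} [CommRing R] [IsNoetherianRing R] {I : Ideal R}

theorem exists_torsionFree_injective (M : ModuleCat.{u} R) (hM : DRing.torsionSub I M = ⊥) :
    ∃ S : ShortComplex (ModuleCat.{u} R), S.ShortExact ∧ S.X₁ = M ∧ Injective S.X₂ ∧ DRing.torsionSub I S.X₂ = ⊥ := by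
  let E : ModuleCat.{u} R := Injective.under M
  let T := DRing.torsionSub I E
  have hTi : Injective ((DRing.gammaI I).obj E) := injective_gammaI_obj I E
  let j : (DRing.gammaI I).obj E ⟶ E := ModuleCat.ofHom T.subtype
  have : Mono j := (ModuleCat.mono_iff_injective _).2 T.injective_subtype
  let r : E ⟶ (DRing.gammaI I).obj E := Injective.factorThru (𝟙 _) j
  have hr : ∀ t : T, r.hom t.1 = t := fun t =>
    congrArg (fun φ : (DRing.gammaI I).obj E ⟶ (DRing.gammaI I).obj E => φ.hom t) (Injective.comp_factorThru (𝟙 _) j)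
  let p : E →ₗ[R] LinearMap.ker r.hom :=
    (LinearMap.id - T.subtype ∘ₗ r.hom).codRestrict _ fun e => by
      rw [LinearMap.mem_ker, LinearMap.sub_apply, map_sub]
      exact sub_eq_zero.2 (hr (r.hom e)).symm
  have hret : Retract (ModuleCat.of R (LinearMap.ker r.hom)) E :=
    { i := ModuleCat.ofHom (LinearMap.ker r.hom).subtype
      r := ModuleCat.ofHom p
      retract := by
        ext x
        show (x : E) - T.subtype (r.hom (x : E)) = (x : E)
        exact sub_eq_self.2 (congrArg Subtype.val (show r.hom x.1 = 0 from x.2)) }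
  have hE' : Injective (ModuleCat.of R (LinearMap.ker r.hom)) := hret.injective
  let f : M →ₗ[R] LinearMap.ker r.hom := p ∘ₗ (Injective.ι M).hom
  have hf : Function.Injective f := (injective_iff_map_eq_zero f).2 fun m hm => by
    have hmem : (Injective.ι M).hom m ∈ T := by
      rw [sub_eq_zero.1 (show (Injective.ι M).hom m - T.subtype (r.hom ((Injective.ι M).hom m)) = 0 from congrArg Subtype.val hm)]
      exact (r.hom _).2
    obtain ⟨n, hn⟩ := hmem
    refine (Submodule.mem_bot R).1 (hM ▸ (⟨n, fun a ha => ?_⟩ : m ∈ DRing.torsionSub I M))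
    exact (ModuleCat.mono_iff_injective _).1 (Injective.ι_mono M) (((Injective.ι M).hom.map_smul a m).trans ((hn a ha).trans (map_zero _).symm))
  let S : ShortComplex (ModuleCat.{u} R) :=
    ShortComplex.mk (X₁ := M) (X₂ := ModuleCat.of R (LinearMap.ker r.hom))
      (X₃ := ModuleCat.of R ((LinearMap.ker r.hom) ⧸ LinearMap.range f))
      (ModuleCat.ofHom f) (ModuleCat.ofHom (LinearMap.range f).mkQ) (by
        ext x
        exact (Submodule.Quotient.mk_eq_zero _).2 (LinearMap.mem_range_self f x))
  refine ⟨S, { exact := by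
                 rw [ShortComplex.moduleCat_exact_iff]
                 intro y hy
                 exact (Submodule.Quotient.mk_eq_zero _).1 hy
               mono_f := (ModuleCat.mono_iff_injective _).2 hf
               epi_g := (ModuleCat.epi_iff_surjective _).2 (Submodule.mkQ_surjective _) }, rfl, hE', ?_⟩
  rw [Submodule.eq_bot_iff]
  intro x hx
  have hxT : x.1 ∈ T := DRing.map_mem_torsionSub I (LinearMap.ker r.hom).subtype hx
  exact Subtype.ext ((congrArg Subtype.val (hr ⟨x.1, hxT⟩)).symm.trans (congrArg Subtype.val (show r.hom x.1 = 0 from x.2)))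

theorem ext_zero_subsingleton {F M : ModuleCat.{u} R} (h : ∀ f : ↑F →ₗ[R] ↑M, f = 0) : Subsingleton (Ext F M 0) :=
  subsingleton_of_forall_eq 0 fun α => by
    obtain ⟨f, rfl⟩ := (Ext.mk₀_bijective F M).2 α
    rw [show f = 0 from ModuleCat.hom_ext (h f.hom), Ext.mk₀_zero]

omit [IsNoetherianRing R] in
theorem hom_eq_zero_of_isPowerTorsion {F M : Type u} [AddCommGroup F] [Module R F] [AddCommGroup M] [Module R M]
    (hF : LocCoh.IsPowerTorsion I F) (hM : DRing.torsionSub I M = ⊥) (f : F →ₗ[R] M) : f = 0 :=
  LinearMap.ext fun x => (Submodule.mem_bot R).1 (hM ▸ DRing.map_mem_torsionSub I f (hF x))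

theorem ext_subsingleton_of_H (F : ModuleCat.{u} R) (hF : LocCoh.IsPowerTorsion I F) :
    ∀ (i : ℕ) (M : ModuleCat.{u} R), (∀ j, j ≤ i → Subsingleton ↑((localCohomology I j).obj M)) →
      Subsingleton (Ext F M i)
  | 0, M, h => ext_zero_subsingleton fun f =>
    hom_eq_zero_of_isPowerTorsion hF (torsionSub_eq_bot_of_subsingleton (h 0 le_rfl)) f
  | i + 1, M, h => by
    obtain ⟨S, hS, rfl, hinj, hbot⟩ := exists_torsionFree_injective M (torsionSub_eq_bot_of_subsingleton (M := M) (h 0 (Nat.zero_le _)))
    have h0 : Subsingleton ↑((localCohomology I 0).obj S.X₂) := by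
      have : Subsingleton ↑((DRing.gammaI I).obj S.X₂) := ⟨fun a b => Subtype.ext <|
        ((Submodule.mem_bot R).1 (hbot ▸ a.2)).trans ((Submodule.mem_bot R).1 (hbot ▸ b.2)).symm⟩
      exact ((zeroIso I).app S.X₂).toLinearEquiv.toEquiv.subsingleton
    have hQ := ext_subsingleton_of_H F hF i S.X₃ fun j hj => by
      cases j with
      | zero => exact subsingleton_X₃ hS 0 h0 (h 1 (by lia))
      | succ j => exact subsingleton_X₃ hS (j + 1) (subsingleton_of_injective S.X₂ j) (h (j + 2) (by lia))
    refine subsingleton_of_forall_eq 0 fun α => ?_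
    obtain ⟨β, rfl⟩ := Ext.covariant_sequence_exact₁ F hS α (Ext.eq_zero_of_injective _) rfl
    rw [hQ.elim β 0, Ext.zero_comp]

theorem H_subsingleton_of_ext (F : Type u) [AddCommGroup F] [Module R F] [Module.Finite R F]
    (hF : Module.support R F = PrimeSpectrum.zeroLocus (I : Set R)) :
    ∀ (i : ℕ) (M : ModuleCat.{u} R), (∀ j, j ≤ i → Subsingleton (Ext (ModuleCat.of R F) M j)) →
      Subsingleton ↑((localCohomology I i).obj M)
  | i, M, h => by
    have hTF : LocCoh.IsPowerTorsion I F := (S7038.result I F).2 (IsNoetherian.noetherian I) hF.le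
    have h0 : DRing.torsionSub I M = ⊥ := by
      have : Subsingleton ↥(DRing.torsionSub I M) := by
        refine S5163.result R F _ ?_ ?_
        · rw [hF]
          exact (S7038.result I _).1 fun x => x.2.imp fun n hn a ha => Subtype.ext (hn a ha)
        · refine ⟨fun f g => LinearMap.ext fun x => Subtype.ext ?_⟩
          have : ∀ f : F →ₗ[R] ↥(DRing.torsionSub I M), (f x).1 = 0 := fun f => by
            have h1 := (Ext.mk₀_bijective (ModuleCat.of R F) M).1 (a₁ := ModuleCat.ofHom ((DRing.torsionSub I M).subtype ∘ₗ f)) (a₂ := 0)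
              ((h 0 (Nat.zero_le _)).elim _ _)
            exact congrArg (fun φ : ModuleCat.of R F ⟶ M => φ.hom x) h1
          rw [this f, this g]
      rw [Submodule.eq_bot_iff]
      exact fun x hx => congrArg Subtype.val (this.elim ⟨x, hx⟩ 0)
    cases i with
    | zero =>
      have : Subsingleton ↑((DRing.gammaI I).obj M) := ⟨fun a b => Subtype.ext <|
        ((Submodule.mem_bot R).1 (h0 ▸ a.2)).trans ((Submodule.mem_bot R).1 (h0 ▸ b.2)).symm⟩
      exact ((zeroIso I).app M).toLinearEquiv.toEquiv.subsingleton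
    | succ i =>
      obtain ⟨S, hS, rfl, hinj, hbot⟩ := exists_torsionFree_injective M h0
      refine subsingleton_X₁ hS i (subsingleton_of_injective S.X₂ i) (H_subsingleton_of_ext F hF i S.X₃ fun j hj => ?_)
      refine subsingleton_of_forall_eq 0 fun α => ?_
      obtain ⟨β, rfl⟩ := Ext.covariant_sequence_exact₃ _ hS α rfl ((h (j + 1) (by lia)).elim _ _)
      cases j with
      | zero => rw [(ext_zero_subsingleton fun f => hom_eq_zero_of_isPowerTorsion hTF hbot f).elim β 0, Ext.zero_comp]
      | succ j => rw [Ext.eq_zero_of_injective β, Ext.zero_comp]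

end Groth.Agent.LocH
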