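import Mathlib
import Groth.Agent.LocH.Interface

/-!
Vanishing of transition maps on Ext above the cohomological dimension.
-/

set_option autoImplicit false

namespace Groth.Agent.LocH

universe u

open CategoryTheory CategoryTheory.Limits CategoryTheory.Abelian

variable {A : Type u} [CommRing A] [IsNoetherianRing A]

/-- A universal extension class out of a finite module. -/
theorem exists_universal_ext : ∀ (i : ℕ) (M : Type u) [AddCommGroup M] [Module A M] [Module.Finite A M],
    ∃ (K : ModuleCat.{u} A) (ξ : Ext (ModuleCat.of A M) K i), ∀ (N : ModuleCat.{u} A) (x : Ext (ModuleCat.of A M) N i),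
      ∃ f : K ⟶ N, ξ.comp (Ext.mk₀ f) (add_zero i) = x
  | 0, M, _, _, _ => ⟨ModuleCat.of A M, Ext.mk₀ (𝟙 _), fun N x => ⟨Ext.homEquiv₀ x, by simp⟩⟩
  | i + 1, M, _, _, _ => by
    obtain ⟨n, π, hπ⟩ := Module.Finite.exists_fin' A M
    let S : ShortComplex (ModuleCat.{u} A) :=
      ShortComplex.mk (ModuleCat.ofHom (LinearMap.ker π).subtype) (ModuleCat.ofHom π) (by ext x; exact x.2)
    have hS : S.ShortExact :=
      { exact := (ShortComplex.ShortExact.moduleCat_exact_iff_function_exact S).2 (LinearMap.exact_subtype_ker_map π)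
        mono_f := (ModuleCat.mono_iff_injective _).2 (LinearMap.ker π).injective_subtype
        epi_g := (ModuleCat.epi_iff_surjective _).2 hπ }
    have : Projective S.X₂ := (_root_.IsProjective.iff_projective _).1 (inferInstance : Module.Projective A (Fin n → A))
    obtain ⟨K, ξ, hξ⟩ := exists_universal_ext i (LinearMap.ker π)
    refine ⟨K, hS.extClass.comp ξ (add_comm 1 i), fun N x => ?_⟩
    obtain ⟨y, hy⟩ := Ext.contravariant_sequence_exact₃ hS N x (Ext.eq_zero_of_projective _) (add_comm 1 i)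
    obtain ⟨f, hf⟩ := hξ N y
    exact ⟨f, by rw [← hy, ← hf]; exact Ext.comp_assoc_of_third_deg_zero _ _ _ _⟩

theorem exists_transition_zero (I : Ideal A) (e n : ℕ)
    (he : ∀ (M : ModuleCat.{u} A) (i : ℕ), e < i → Subsingleton ↑((localCohomology I i).obj M)) :
    ∃ (m : ℕ) (hm : n < m), ∀ (i : ℕ), e < i → ∀ (N : ModuleCat.{u} A) (x : Ext (quotObj I n) N i),
      (Ext.mk₀ (trans I hm.le)).comp x (zero_add i) = 0 := by
  obtain ⟨K, ξ, hξ⟩ := exists_universal_ext (A := A) (e + 1) (A ⧸ I ^ n)
  have := he K (e + 1) e.lt_succ_self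
  obtain ⟨m₀, h₀, hm₀⟩ := (hι_eq_zero_iff (α := ξ)).1 (Subsingleton.elim _ _)
  let m := max m₀ (n + 1)
  have hm : n < m := lt_of_lt_of_le n.lt_succ_self (le_max_right _ _)
  refine ⟨m, hm, ?_⟩
  have base : ∀ (N : ModuleCat.{u} A) (x : Ext (quotObj I n) N (e + 1)),
      (Ext.mk₀ (trans I hm.le)).comp x (zero_add _) = 0 := fun N x => by
    obtain ⟨f, rfl⟩ := hξ N x
    rw [← trans_trans I h₀ (le_max_left m₀ (n + 1)), ← Ext.mk₀_comp_mk₀, Ext.comp_assoc_of_second_deg_zero,
      ← Ext.comp_assoc_of_third_deg_zero (Ext.mk₀ (trans I h₀)) ξ (Ext.mk₀ f) (zero_add _), hm₀, Ext.zero_comp,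
      Ext.comp_zero]
  have step : ∀ (k : ℕ) (N : ModuleCat.{u} A) (x : Ext (quotObj I n) N (e + 1 + k)),
      (Ext.mk₀ (trans I hm.le)).comp x (zero_add _) = 0 := by
    intro k
    induction k with
    | zero => exact base
    | succ k ih =>
      intro N x
      let S : ShortComplex (ModuleCat.{u} A) := ShortComplex.mk (Injective.ι N) (cokernel.π (Injective.ι N)) (cokernel.condition _)
      have hS : S.ShortExact := { exact := ShortComplex.exact_of_g_is_cokernel _ (cokernelIsCokernel _) }
      have : Injective S.X₂ := inferInstanceAs (Injective (Injective.under N))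
      obtain ⟨y, hy⟩ := Ext.covariant_sequence_exact₁ (quotObj I n) hS x (Ext.eq_zero_of_injective (x.comp (Ext.mk₀ S.f) (add_zero _))) rfl
      rw [← hy, ← Ext.comp_assoc _ y hS.extClass (zero_add _) rfl (by simp [Nat.add_eq, add_assoc]), ih, Ext.zero_comp]
  intro i hi
  obtain ⟨k, rfl⟩ := Nat.exists_eq_add_of_le (show e + 1 ≤ i from hi)
  exact step k

end Groth.Agent.LocH
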