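import Mathlib
import Groth.Prelude.Def_DRing3
import Groth.Agent.LocH.Transform
import Groth.Agent.LocH.Vanishing

/-!
`cd (I + K) ≤ cd I + cd K`.
-/

namespace Groth.Agent.LocH

universe u

open CategoryTheory CategoryTheory.Limits Opposite CategoryTheory.Abelian

variable {R : Type u} [CommRing R] [IsNoetherianRing R] {M : ModuleCat.{u} R} (J : InjectiveResolution M)
  {I K : Ideal R}

/-- The cycles of `Γ_K J`. -/
noncomputable def gammaZ (K : Ideal R) (k : ℕ) : Submodule R ↥(DRing.torsionSub K (J.cocomplex.X k)) :=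
  LinearMap.ker ((J.cocomplex.d k (k + 1)).hom ∘ₗ (DRing.torsionSub K (J.cocomplex.X k)).subtype)

/-- The differential into the next cycles. -/
noncomputable def gammaZd (K : Ideal R) (k : ℕ) :
    ↥(DRing.torsionSub K (J.cocomplex.X k)) →ₗ[R] ↥(gammaZ J K (k + 1)) :=
  (((J.cocomplex.d k (k + 1)).hom.restrict fun _ hx => DRing.map_mem_torsionSub K (J.cocomplex.d k (k + 1)).hom hx)).codRestrict
    (gammaZ J K (k + 1)) fun x => congrArg (fun φ : J.cocomplex.X k ⟶ J.cocomplex.X (k + 1 + 1) => φ.hom x.1) (J.cocomplex.d_comp_d k (k + 1) (k + 1 + 1))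

/-- `0 → Z^k → Γ_K J^k → Z^(k+1) → 0`. -/
noncomputable def gammaZSES (K : Ideal R) (k : ℕ) : ShortComplex (ModuleCat.{u} R) :=
  ShortComplex.mk (X₁ := ModuleCat.of R ↥(gammaZ J K k))
    (X₂ := ModuleCat.of R ↥(DRing.torsionSub K (J.cocomplex.X k)))
    (X₃ := ModuleCat.of R ↥(gammaZ J K (k + 1))) (ModuleCat.ofHom (gammaZ J K k).subtype)
    (ModuleCat.ofHom (gammaZd J K k)) (by
      ext x
      exact LinearMap.mem_ker.1 x.2)

theorem gammaZSES_shortExact {k : ℕ} (hK : GammaExact J K k) : (gammaZSES J K k).ShortExact :=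
  { exact := by
      rw [ShortComplex.moduleCat_exact_iff]
      intro y hy
      exact ⟨⟨y, congrArg (fun z : ↥(gammaZ J K (k + 1)) => z.1.1) hy⟩, rfl⟩
    mono_f := (ModuleCat.mono_iff_injective _).2 (gammaZ J K k).injective_subtype
    epi_g := (ModuleCat.epi_iff_surjective _).2 (by
      rintro ⟨⟨x, hx⟩, hd⟩
      obtain ⟨y, hy, e⟩ := hK x hx hd
      exact ⟨⟨y, hy⟩, Subtype.ext (Subtype.ext e)⟩) }

theorem subsingleton_gammaX_succ (K : Ideal R) (k j : ℕ) :
    Subsingleton ↑((localCohomology I (j + 1)).obj (ModuleCat.of R ↥(DRing.torsionSub K (J.cocomplex.X k)))) :=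
  have : Injective (ModuleCat.of R ↥(DRing.torsionSub K (J.cocomplex.X k))) :=
    have := J.injective k
    injective_gammaI_obj K (J.cocomplex.X k)
  subsingleton_of_injective _ j

theorem subsingleton_gammaZ {a b : ℕ} (hI : LocCoh.CdLE R I a) (hK : ∀ k, b ≤ k → GammaExact J K k) :
    ∀ k, b ≤ k → ∀ j, a + b < j + 1 + k →
      Subsingleton ↑((localCohomology I (j + 1)).obj (ModuleCat.of R ↥(gammaZ J K k))) := by
  intro k hk
  induction k, hk using Nat.le_induction with
  | base => intro j hj; exact hI _ _ (by lia)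
  | succ k hk ih =>
    intro j hj
    exact subsingleton_X₃ (gammaZSES_shortExact J (hK k hk)) (j + 1) (subsingleton_gammaX_succ J K k j)
      (ih (j + 1) (by lia))

theorem gammaExact_sup_of_cd {a b : ℕ} (hI : LocCoh.CdLE R I a) (hK : LocCoh.CdLE R K b) (i : ℕ)
    (hi : a + b ≤ i) : GammaExact J (I ⊔ K) i := by
  intro x hx hd
  have hK' : ∀ k, b ≤ k → GammaExact J K k := fun k hk =>
    (subsingleton_iff_gammaExact J K k).1 (hK M (k + 1) (by lia))
  have hS := gammaZSES_shortExact J (hK' i (by lia))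
  have h1 : Subsingleton ↑((localCohomology I (0 + 1)).obj (gammaZSES J K i).X₁) :=
    subsingleton_gammaZ J hI hK' i (by lia) 0 (by lia)
  let z : ↥(gammaZ J K (i + 1)) := ⟨⟨x, torsionSub_anti le_sup_right _ hx⟩, hd⟩
  have hz : z ∈ DRing.torsionSub I ↥(gammaZ J K (i + 1)) := by
    obtain ⟨n, hn⟩ := torsionSub_anti le_sup_left _ hx
    exact ⟨n, fun c hc => Subtype.ext (Subtype.ext (hn c hc))⟩
  obtain ⟨y, hy⟩ := exact₃ hS 0 (x := (zeroIso I).inv.app (gammaZSES J K i).X₃ ⟨z, hz⟩) (h1.elim _ _)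
  have e : (localCohomology I 0).map (gammaZSES J K i).g y =
      (zeroIso I).inv.app _ ((DRing.gammaI I).map (gammaZSES J K i).g ((zeroIso I).hom.app _ y)) := by
    rw [← zero_map_apply]
    exact congrArg ((localCohomology I 0).map (gammaZSES J K i).g).hom
      (congrArg (fun φ => φ.hom y) ((zeroIso I).hom_inv_id_app (gammaZSES J K i).X₂)).symm
  have h3 : (DRing.gammaI I).map (gammaZSES J K i).g ((zeroIso I).hom.app _ y) = ⟨z, hz⟩ :=
    ((zeroIso I).app (gammaZSES J K i).X₃).toLinearEquiv.symm.injective (e.symm.trans hy)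
  generalize (zeroIso I).hom.app (gammaZSES J K i).X₂ y = v at h3
  obtain ⟨⟨w, hwK⟩, hwI⟩ := v
  refine ⟨w, torsionSub_sup ?_ hwK, ?_⟩
  · exact DRing.map_mem_torsionSub I (DRing.torsionSub K (J.cocomplex.X i)).subtype hwI
  · exact congrArg (fun v : DRing.torsionSub I ↥(gammaZ J K (i + 1)) => v.1.1.1) h3

theorem cdLE_sup {a b : ℕ} (hI : LocCoh.CdLE R I a) (hK : LocCoh.CdLE R K b) :
    LocCoh.CdLE R (I ⊔ K) (a + b) := by
  intro M _ _ i hi
  obtain ⟨k, rfl⟩ : ∃ k, i = k + 1 := ⟨i - 1, by lia⟩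
  exact (subsingleton_iff_gammaExact (injectiveResolution (ModuleCat.of R M)) _ k).2
    (gammaExact_sup_of_cd _ hI hK k (by lia))

end Groth.Agent.LocH
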