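import Mathlib
import Groth.Agent.LocH.CompareLE

/-!
The Mayer–Vietoris sequence of local cohomology.
-/

namespace Groth.Agent.LocH

universe u

open CategoryTheory CategoryTheory.Limits

variable {R : Type u} [CommRing R] [IsNoetherianRing R] (I K : Ideal R)

theorem exists_pow_inf_le (n : ℕ) : ∃ m, I ^ m ⊓ K ^ m ≤ (I ⊓ K) ^ n := by
  obtain ⟨c, hc⟩ := Ideal.exists_pow_inf_eq_pow_smul I (M := R) (K ^ n)
  refine ⟨c + n, le_trans (inf_le_inf_left _ (Ideal.pow_le_pow_right (Nat.le_add_left n c))) ?_⟩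
  have h := hc (c + n) (Nat.le_add_right c n)
  rw [smul_eq_mul, Ideal.mul_top, Nat.add_sub_cancel_left, smul_eq_mul] at h
  rw [h]
  refine le_trans (Ideal.mul_mono_right inf_le_right) ?_
  rw [← mul_pow]
  exact Ideal.pow_right_mono Ideal.mul_le_inf n

/-- Torsion for an intersection splits in an injective module. -/
theorem exists_add_of_mem_torsionSub_inf {E : ModuleCat.{u} R} [Injective E] {x : E}
    (hx : x ∈ DRing.torsionSub (I ⊓ K) E) :
    ∃ u ∈ DRing.torsionSub I E, ∃ v ∈ DRing.torsionSub K E, u + v = x := by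
  obtain ⟨n, hn⟩ := hx
  obtain ⟨m, hm⟩ := exists_pow_inf_le I K n
  let A := (R ⧸ I ^ m) × (R ⧸ K ^ m)
  let f : R →ₗ[R] A := (Submodule.mkQ (I ^ m)).prod (Submodule.mkQ (K ^ m))
  let g : R →ₗ[R] E := LinearMap.toSpanSingleton R E x
  have hk : LinearMap.ker f ≤ LinearMap.ker g := fun r hr => by
    rw [LinearMap.ker_prod, Submodule.ker_mkQ, Submodule.ker_mkQ] at hr
    exact hn r (hm hr)
  have : Mono (ModuleCat.ofHom ((LinearMap.ker f).liftQ f le_rfl) :
      ModuleCat.of R (R ⧸ LinearMap.ker f) ⟶ ModuleCat.of R A) :=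
    (ModuleCat.mono_iff_injective _).2 (LinearMap.ker_eq_bot.1 (Submodule.ker_liftQ_eq_bot _ _ _ le_rfl))
  let h := Injective.factorThru
    (ModuleCat.ofHom ((LinearMap.ker f).liftQ g hk) : ModuleCat.of R (R ⧸ LinearMap.ker f) ⟶ E)
    (ModuleCat.ofHom ((LinearMap.ker f).liftQ f le_rfl) : ModuleCat.of R (R ⧸ LinearMap.ker f) ⟶ ModuleCat.of R A)
  have hx' : h (f 1) = x := by
    refine (congrArg (fun φ : ModuleCat.of R (R ⧸ LinearMap.ker f) ⟶ E =>
      φ.hom (Submodule.Quotient.mk 1 : R ⧸ LinearMap.ker f))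
      (Injective.comp_factorThru _ _)).trans ?_
    exact one_smul R x
  refine ⟨h ((f 1).1, 0), ⟨m, fun a ha => ?_⟩, h (0, (f 1).2), ⟨m, fun a ha => ?_⟩, ?_⟩
  · rw [← map_smul, show a • ((f 1).1, (0 : R ⧸ K ^ m)) = 0 from Prod.ext ?_ (smul_zero a), map_zero]
    exact (Submodule.Quotient.mk_eq_zero (I ^ m)).2 (by simpa using ha)
  · rw [← map_smul, show a • ((0 : R ⧸ I ^ m), (f 1).2) = 0 from Prod.ext (smul_zero a) ?_, map_zero]
    exact (Submodule.Quotient.mk_eq_zero (K ^ m)).2 (by simpa using ha)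
  · rw [← map_add, show ((f 1).1, (0 : R ⧸ K ^ m)) + (0, (f 1).2) = f 1 from
      Prod.ext (add_zero _) (zero_add _), hx']

variable {M : ModuleCat.{u} R} (J : InjectiveResolution M) (i : ℕ)

omit [IsNoetherianRing R] in
theorem boundary_mono {I I' : Ideal R} (h : I ≤ I') : ∀ j, boundary J I' j ≤ boundary J I j
  | 0 => le_rfl
  | _ + 1 => Submodule.map_mono (torsionSub_anti h _)

omit [IsNoetherianRing R] in
theorem cycleVal_sub_mv {I : Ideal R} (z w : (gammaComplex J I).cycles i) :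
    cycleVal J i (z - w) = cycleVal J i z - cycleVal J i w :=
  (congrArg _ (map_sub _ z w)).trans (map_sub _ _ _)

omit [IsNoetherianRing R] in
theorem cyclesToH_eq_iff {I : Ideal R} (z w : (gammaComplex J I).cycles i) :
    cyclesToH J i z = cyclesToH J i w ↔ cycleVal J i z - cycleVal J i w ∈ boundary J I i := by
  rw [← sub_eq_zero, ← map_sub, cyclesToH_eq_zero_iff_mem, cycleVal_sub_mv]

omit [IsNoetherianRing R] in
theorem exists_class {I : Ideal R} {x : J.cocomplex.X i} (hx : x ∈ DRing.torsionSub I (J.cocomplex.X i))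
    (hd : J.cocomplex.d i (i + 1) x = 0) : ∃ z : (gammaComplex J I).cycles i, cycleVal J i z = x :=
  exists_cycle J i x hx hd

theorem exists_split_boundary {x : J.cocomplex.X i} (hx : x ∈ boundary J (I ⊓ K) i) :
    ∃ a ∈ boundary J I i, ∃ b ∈ boundary J K i, a + b = x := by
  cases i with
  | zero => exact ⟨0, Submodule.zero_mem _, 0, Submodule.zero_mem _,
      (add_zero _).trans ((Submodule.mem_bot R).1 hx).symm⟩
  | succ k =>
    obtain ⟨w, hw, rfl⟩ := hx
    have := J.injective k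
    obtain ⟨a, ha, b, hb, rfl⟩ := exists_add_of_mem_torsionSub_inf I K (E := J.cocomplex.X k) hw
    exact ⟨_, ⟨a, ha, rfl⟩, _, ⟨b, hb, rfl⟩, (map_add _ a b).symm⟩

omit [IsNoetherianRing R] in
theorem mem_boundary_sup_of {x : J.cocomplex.X (i + 1)} {u : J.cocomplex.X i}
    (hu : u ∈ DRing.torsionSub I (J.cocomplex.X i)) (hv : u ∈ DRing.torsionSub K (J.cocomplex.X i))
    (hd : J.cocomplex.d i (i + 1) u = x) : x ∈ boundary J (I ⊔ K) (i + 1) :=
  ⟨u, torsionSub_sup hu hv, hd⟩

/-- The module of split cycles. -/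
def mvW : Submodule R (J.cocomplex.X i × J.cocomplex.X i) :=
  (DRing.torsionSub I (J.cocomplex.X i)).prod (DRing.torsionSub K (J.cocomplex.X i)) ⊓
    LinearMap.ker ((J.cocomplex.d i (i + 1)).hom ∘ₗ
      (LinearMap.fst R (J.cocomplex.X i) (J.cocomplex.X i) + LinearMap.snd R (J.cocomplex.X i) (J.cocomplex.X i)))

omit [IsNoetherianRing R] in
theorem d_fst_eq_neg {w : J.cocomplex.X i × J.cocomplex.X i} (hw : w ∈ mvW I K J i) :
    J.cocomplex.d i (i + 1) w.1 = -J.cocomplex.d i (i + 1) w.2 := by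
  refine eq_neg_of_add_eq_zero_left ?_
  rw [← map_add]
  exact hw.2

theorem exists_mv (i : ℕ) :
    ∃ δ : ↑((localCohomology (I ⊓ K) i).obj M) →ₗ[R] ↑((localCohomology (I ⊔ K) (i + 1)).obj M),
      ∀ (z : (gammaComplex J (I ⊓ K)).cycles i) (u v : J.cocomplex.X i),
        u ∈ DRing.torsionSub I (J.cocomplex.X i) → v ∈ DRing.torsionSub K (J.cocomplex.X i) →
        cycleVal J i z = u + v → ∀ y : (gammaComplex J (I ⊔ K)).cycles (i + 1),
          cycleVal J (i + 1) y = J.cocomplex.d i (i + 1) u → δ (cyclesToH J i z) = cyclesToH J (i + 1) y := by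
  classical
  let W := mvW I K J i
  have hz : ∀ w : W, ∃ z : (gammaComplex J (I ⊓ K)).cycles i, cycleVal J i z = w.1.1 + w.1.2 := fun w =>
    exists_class J i (Submodule.add_mem _ (torsionSub_anti inf_le_left _ w.2.1.1)
      (torsionSub_anti inf_le_right _ w.2.1.2)) w.2.2
  have hy : ∀ w : W, ∃ y : (gammaComplex J (I ⊔ K)).cycles (i + 1),
      cycleVal J (i + 1) y = J.cocomplex.d i (i + 1) w.1.1 := fun w =>
    exists_class J (i + 1) (torsionSub_sup (DRing.map_mem_torsionSub I (J.cocomplex.d i (i + 1)).hom w.2.1.1)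
      (by
        rw [d_fst_eq_neg I K J i w.2]
        exact Submodule.neg_mem _ (DRing.map_mem_torsionSub K (J.cocomplex.d i (i + 1)).hom w.2.1.2)))
      (congrArg (fun φ => φ.hom w.1.1) (J.cocomplex.d_comp_d i (i + 1) (i + 1 + 1)))
  choose fz hfz using hz
  choose fy hfy using hy
  let Z : W →ₗ[R] ↑((gammaComplex J (I ⊓ K)).cycles i) :=
    { toFun := fz
      map_add' := fun a b => cycleVal_injective J i (by
        refine (hfz _).trans (Eq.trans ?_ ((congrArg _ (map_add _ _ _)).trans (map_add _ _ _)).symm)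
        show (a.1.1 + b.1.1) + (a.1.2 + b.1.2) = cycleVal J i (fz a) + cycleVal J i (fz b)
        rw [hfz, hfz]
        abel)
      map_smul' := fun r a => cycleVal_injective J i (by
        refine (hfz _).trans (Eq.trans ?_ ((congrArg _ (map_smul _ _ _)).trans (map_smul _ _ _)).symm)
        show r • a.1.1 + r • a.1.2 = r • cycleVal J i (fz a)
        rw [hfz, smul_add]) }
  let Y : W →ₗ[R] ↑((gammaComplex J (I ⊔ K)).cycles (i + 1)) :=
    { toFun := fy
      map_add' := fun a b => cycleVal_injective J (i + 1) (by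
        refine (hfy _).trans (Eq.trans ?_ ((congrArg _ (map_add _ _ _)).trans (map_add _ _ _)).symm)
        show J.cocomplex.d i (i + 1) (a.1.1 + b.1.1) = cycleVal J (i + 1) (fy a) + cycleVal J (i + 1) (fy b)
        rw [hfy, hfy, map_add])
      map_smul' := fun r a => cycleVal_injective J (i + 1) (by
        refine (hfy _).trans (Eq.trans ?_ ((congrArg _ (map_smul _ _ _)).trans (map_smul _ _ _)).symm)
        show J.cocomplex.d i (i + 1) (r • a.1.1) = r • cycleVal J (i + 1) (fy a)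
        rw [hfy, map_smul]) }
  let A := (cyclesToH J i).comp Z
  let B := (cyclesToH J (i + 1)).comp Y
  have hA : Function.Surjective A := fun x => by
    obtain ⟨z, rfl⟩ := cyclesToH_surjective J i x
    have := J.injective i
    obtain ⟨u, hu, v, hv, huv⟩ := exists_add_of_mem_torsionSub_inf I K (E := J.cocomplex.X i)
      ((gammaComplex J _).iCycles i z).2
    refine ⟨⟨(u, v), ⟨hu, hv⟩, ?_⟩, congrArg (cyclesToH J i) (cycleVal_injective J i ((hfz _).trans huv))⟩
    show J.cocomplex.d i (i + 1) (u + v) = 0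
    rw [huv]
    exact d_cycleVal J i z
  have hker : LinearMap.ker A ≤ LinearMap.ker B := fun w hw => by
    have h := (cyclesToH_eq_zero_iff_mem J i _).1 hw
    rw [show cycleVal J i (Z w) = w.1.1 + w.1.2 from hfz w] at h
    obtain ⟨a, ha, b, hb, hab⟩ := exists_split_boundary I K J i h
    refine (cyclesToH_eq_zero_iff_mem J (i + 1) _).2 ?_
    rw [show cycleVal J (i + 1) (Y w) = J.cocomplex.d i (i + 1) w.1.1 from hfy w]
    refine mem_boundary_sup_of I K J i (u := w.1.1 - a)
      (Submodule.sub_mem _ w.2.1.1 (boundary_le_torsionSub J I i ha)) ?_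
      (by rw [map_sub, d_boundary J I ha, sub_zero])
    have : w.1.1 - a = b - w.1.2 := by
      rw [sub_eq_sub_iff_add_eq_add, ← hab, add_comm]
    rw [this]
    exact Submodule.sub_mem _ (boundary_le_torsionSub J K i hb) w.2.1.2
  refine ⟨((LinearMap.ker A).liftQ B hker).comp (LinearMap.quotKerEquivOfSurjective A hA).symm.toLinearMap,
    fun z u v hu hv huv y hy => ?_⟩
  have hmem : (u, v) ∈ W := ⟨⟨hu, hv⟩, by
    show J.cocomplex.d i (i + 1) (u + v) = 0
    rw [← huv, d_cycleVal]⟩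
  have e : cyclesToH J i z = A ⟨(u, v), hmem⟩ :=
    congrArg (cyclesToH J i) (cycleVal_injective J i (huv.trans (hfz ⟨(u, v), hmem⟩).symm))
  rw [e, LinearMap.comp_apply, LinearEquiv.coe_coe, LinearMap.quotKerEquivOfSurjective_symm_apply _ hA]
  exact congrArg (cyclesToH J (i + 1)) (cycleVal_injective J _ ((hfy ⟨(u, v), hmem⟩).trans hy.symm))

omit [IsNoetherianRing R] in
theorem exists_le_class {I I' : Ideal R} (h : I ≤ I') (z' : (gammaComplex J I').cycles i) :
    ∃ z : (gammaComplex J I).cycles i, cycleVal J i z = cycleVal J i z' ∧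
      (Dual2.HmapOfLE h i).app M (cyclesToH J i z') = cyclesToH J i z := by
  obtain ⟨z, hz⟩ := exists_cycle (I := I) J i (cycleVal J i z')
    (torsionSub_anti h _ ((gammaComplex J I').iCycles i z').2) (d_cycleVal J i z')
  exact ⟨z, hz, HmapOfLE_cyclesToH h J i z' z hz⟩

include J in
theorem mayerVietoris :
    ∃ δ : ∀ i : ℕ, ↑((localCohomology (I ⊓ K) i).obj M) →ₗ[R] ↑((localCohomology (I ⊔ K) (i + 1)).obj M),
      Function.Injective (LinearMap.prod ((Dual2.HmapOfLE (le_sup_left : I ≤ I ⊔ K) 0).app M).hom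
        ((Dual2.HmapOfLE (le_sup_right : K ≤ I ⊔ K) 0).app M).hom) ∧
      (∀ i : ℕ, LinearMap.ker (LinearMap.prod ((Dual2.HmapOfLE (le_sup_left : I ≤ I ⊔ K) (i + 1)).app M).hom
        ((Dual2.HmapOfLE (le_sup_right : K ≤ I ⊔ K) (i + 1)).app M).hom) = LinearMap.range (δ i)) ∧
      (∀ i : ℕ, LinearMap.ker (((Dual2.HmapOfLE (inf_le_left : I ⊓ K ≤ I) i).app M).hom ∘ₗ LinearMap.fst R _ _ -
          ((Dual2.HmapOfLE (inf_le_right : I ⊓ K ≤ K) i).app M).hom ∘ₗ LinearMap.snd R _ _) =
        LinearMap.range (LinearMap.prod ((Dual2.HmapOfLE (le_sup_left : I ≤ I ⊔ K) i).app M).hom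
          ((Dual2.HmapOfLE (le_sup_right : K ≤ I ⊔ K) i).app M).hom)) ∧
      (∀ i : ℕ, LinearMap.ker (δ i) = LinearMap.range
        (((Dual2.HmapOfLE (inf_le_left : I ⊓ K ≤ I) i).app M).hom ∘ₗ LinearMap.fst R ((localCohomology I i).obj M) ((localCohomology K i).obj M) -
          ((Dual2.HmapOfLE (inf_le_right : I ⊓ K ≤ K) i).app M).hom ∘ₗ LinearMap.snd R ((localCohomology I i).obj M) ((localCohomology K i).obj M))) := by
  choose δ hδ using exists_mv I K J
  refine ⟨δ, fun a b hab => HmapOfLE_injective_of_vanish (le_sup_left : I ≤ I ⊔ K) J 0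
    (fun p _ _ _ j hj => absurd hj (Nat.succ_ne_zero j)) (congrArg Prod.fst hab), ?_, ?_, ?_⟩
  · intro i
    refine le_antisymm (fun β hβ => ?_) ?_
    · obtain ⟨y, rfl⟩ := cyclesToH_surjective J (i + 1) β
      obtain ⟨yI, hyI, eI⟩ := exists_le_class J (i + 1) (le_sup_left : I ≤ I ⊔ K) y
      obtain ⟨yK, hyK, eK⟩ := exists_le_class J (i + 1) (le_sup_right : K ≤ I ⊔ K) y
      obtain ⟨u, hu, hdu⟩ := hyI ▸ (cyclesToH_eq_zero_iff_mem J (i + 1) yI).1 (eI.symm.trans (congrArg Prod.fst hβ))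
      obtain ⟨v, hv, hdv⟩ := hyK ▸ (cyclesToH_eq_zero_iff_mem J (i + 1) yK).1 (eK.symm.trans (congrArg Prod.snd hβ))
      obtain ⟨z, hz⟩ := exists_cycle (I := I ⊓ K) J i (u - v)
        (Submodule.sub_mem _ (torsionSub_anti inf_le_left _ hu) (torsionSub_anti inf_le_right _ hv))
        (by rw [map_sub, sub_eq_zero]; exact hdu.trans hdv.symm)
      exact ⟨cyclesToH J i z, hδ i z u (-v) hu (Submodule.neg_mem _ hv) (hz.trans (sub_eq_add_neg u v)) y hdu.symm⟩
    · rintro _ ⟨α, rfl⟩
      obtain ⟨z, rfl⟩ := cyclesToH_surjective J i α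
      have := J.injective i
      obtain ⟨u, hu, v, hv, huv⟩ := exists_add_of_mem_torsionSub_inf I K (E := J.cocomplex.X i)
        ((gammaComplex J _).iCycles i z).2
      have hd : J.cocomplex.d i (i + 1) u = -J.cocomplex.d i (i + 1) v := by
        refine eq_neg_of_add_eq_zero_left ?_
        rw [← map_add, huv]
        exact d_cycleVal J i z
      obtain ⟨y, hy⟩ := exists_cycle (I := I ⊔ K) J (i + 1) (J.cocomplex.d i (i + 1) u)
        (torsionSub_sup (DRing.map_mem_torsionSub I (J.cocomplex.d i (i + 1)).hom hu)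
          (by rw [hd]; exact Submodule.neg_mem _ (DRing.map_mem_torsionSub K (J.cocomplex.d i (i + 1)).hom hv)))
        (congrArg (fun φ => φ.hom u) (J.cocomplex.d_comp_d i (i + 1) (i + 1 + 1)))
      rw [hδ i z u v hu hv huv.symm y hy, LinearMap.mem_ker]
      obtain ⟨yI, hyI, eI⟩ := exists_le_class J (i + 1) (le_sup_left : I ≤ I ⊔ K) y
      obtain ⟨yK, hyK, eK⟩ := exists_le_class J (i + 1) (le_sup_right : K ≤ I ⊔ K) y
      refine Prod.ext (eI.trans ((cyclesToH_eq_zero_iff_mem J (i + 1) yI).2 ?_))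
        (eK.trans ((cyclesToH_eq_zero_iff_mem J (i + 1) yK).2 ?_))
      · rw [hyI, hy]; exact ⟨u, hu, rfl⟩
      · rw [hyK, hy, hd]; exact Submodule.neg_mem _ ⟨v, hv, rfl⟩
  · intro i
    refine le_antisymm ?_ ?_
    · rintro ⟨a, b⟩ hab
      obtain ⟨za, rfl⟩ := cyclesToH_surjective J i a
      obtain ⟨zb, rfl⟩ := cyclesToH_surjective J i b
      obtain ⟨za', hza, ea⟩ := exists_le_class J i (inf_le_left : I ⊓ K ≤ I) za
      obtain ⟨zb', hzb, eb⟩ := exists_le_class J i (inf_le_right : I ⊓ K ≤ K) zb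
      have h := (cyclesToH_eq_iff J i za' zb').1 (ea.symm.trans ((sub_eq_zero.1 hab).trans eb))
      rw [hza, hzb] at h
      obtain ⟨p, hp, q, hq, hpq⟩ := exists_split_boundary I K J i h
      set s := cycleVal J i za - p with hs
      have hsK : s ∈ DRing.torsionSub K (J.cocomplex.X i) := by
        have : s = cycleVal J i zb + q := by
          rw [hs, sub_eq_iff_eq_add, add_assoc, add_comm q p, hpq, add_sub_cancel]
        rw [this]
        exact Submodule.add_mem _ ((gammaComplex J K).iCycles i zb).2 (boundary_le_torsionSub J K i hq)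
      obtain ⟨y, hy⟩ := exists_cycle (I := I ⊔ K) J i s
        (torsionSub_sup (Submodule.sub_mem _ ((gammaComplex J I).iCycles i za).2 (boundary_le_torsionSub J I i hp)) hsK)
        (by rw [hs, map_sub, d_cycleVal, d_boundary J I hp, sub_zero])
      obtain ⟨yI, hyI, eI⟩ := exists_le_class J i (le_sup_left : I ≤ I ⊔ K) y
      obtain ⟨yK, hyK, eK⟩ := exists_le_class J i (le_sup_right : K ≤ I ⊔ K) y
      refine ⟨cyclesToH J i y, Prod.ext (eI.trans ((cyclesToH_eq_iff J i yI za).2 ?_))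
        (eK.trans ((cyclesToH_eq_iff J i yK zb).2 ?_))⟩
      · rw [hyI, hy, hs, sub_sub_cancel_left]
        exact Submodule.neg_mem _ hp
      · rw [hyK, hy, hs, sub_right_comm, ← hpq, add_sub_cancel_left]
        exact hq
    · rintro _ ⟨c, rfl⟩
      obtain ⟨y, rfl⟩ := cyclesToH_surjective J i c
      obtain ⟨yI, hyI, eI⟩ := exists_le_class J i (le_sup_left : I ≤ I ⊔ K) y
      obtain ⟨yK, hyK, eK⟩ := exists_le_class J i (le_sup_right : K ≤ I ⊔ K) y
      obtain ⟨za', hza, ea⟩ := exists_le_class J i (inf_le_left : I ⊓ K ≤ I) yI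
      obtain ⟨zb', hzb, eb⟩ := exists_le_class J i (inf_le_right : I ⊓ K ≤ K) yK
      refine sub_eq_zero.2 (((congrArg _ eI).trans ea).trans (Eq.trans ?_ ((congrArg _ eK).trans eb).symm))
      exact congrArg (cyclesToH J i) (cycleVal_injective J i ((hza.trans hyI).trans (hzb.trans hyK).symm))
  · intro i
    refine le_antisymm (fun α hα => ?_) ?_
    · obtain ⟨z, rfl⟩ := cyclesToH_surjective J i α
      have := J.injective i
      obtain ⟨u, hu, v, hv, huv⟩ := exists_add_of_mem_torsionSub_inf I K (E := J.cocomplex.X i)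
        ((gammaComplex J _).iCycles i z).2
      have hd : J.cocomplex.d i (i + 1) u = -J.cocomplex.d i (i + 1) v := by
        refine eq_neg_of_add_eq_zero_left ?_
        rw [← map_add, huv]
        exact d_cycleVal J i z
      obtain ⟨y, hy⟩ := exists_cycle (I := I ⊔ K) J (i + 1) (J.cocomplex.d i (i + 1) u)
        (torsionSub_sup (DRing.map_mem_torsionSub I (J.cocomplex.d i (i + 1)).hom hu)
          (by rw [hd]; exact Submodule.neg_mem _ (DRing.map_mem_torsionSub K (J.cocomplex.d i (i + 1)).hom hv)))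
        (congrArg (fun φ => φ.hom u) (J.cocomplex.d_comp_d i (i + 1) (i + 1 + 1)))
      rw [LinearMap.mem_ker, hδ i z u v hu hv huv.symm y hy, cyclesToH_eq_zero_iff_mem, hy] at hα
      obtain ⟨s, hs, hds⟩ := hα
      obtain ⟨za, hza⟩ := exists_cycle (I := I) J i (u - s)
        (Submodule.sub_mem _ hu (torsionSub_anti le_sup_left _ hs)) (by rw [map_sub, sub_eq_zero]; exact hds.symm)
      obtain ⟨zb, hzb⟩ := exists_cycle (I := K) J i (-(v + s))
        (Submodule.neg_mem _ (Submodule.add_mem _ hv (torsionSub_anti le_sup_right _ hs)))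
        (by rw [map_neg, map_add, neg_eq_zero]; exact (add_comm _ _).trans (eq_neg_iff_add_eq_zero.1 (hds.trans hd)))
      obtain ⟨za', hza', ea⟩ := exists_le_class J i (inf_le_left : I ⊓ K ≤ I) za
      obtain ⟨zb', hzb', eb⟩ := exists_le_class J i (inf_le_right : I ⊓ K ≤ K) zb
      refine ⟨(cyclesToH J i za, cyclesToH J i zb), (congrArg₂ (· - ·) ea eb).trans ?_⟩
      rw [← map_sub]
      refine congrArg (cyclesToH J i) (cycleVal_injective J i ?_)
      rw [cycleVal_sub_mv, hza', hza, hzb', hzb, sub_neg_eq_add]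
      refine Eq.trans ?_ huv
      abel
    · rintro _ ⟨⟨a, b⟩, rfl⟩
      obtain ⟨za, rfl⟩ := cyclesToH_surjective J i a
      obtain ⟨zb, rfl⟩ := cyclesToH_surjective J i b
      obtain ⟨za', hza, ea⟩ := exists_le_class J i (inf_le_left : I ⊓ K ≤ I) za
      obtain ⟨zb', hzb, eb⟩ := exists_le_class J i (inf_le_right : I ⊓ K ≤ K) zb
      have e : ((((Dual2.HmapOfLE (inf_le_left : I ⊓ K ≤ I) i).app M).hom ∘ₗ LinearMap.fst R ((localCohomology I i).obj M) ((localCohomology K i).obj M) -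
          ((Dual2.HmapOfLE (inf_le_right : I ⊓ K ≤ K) i).app M).hom ∘ₗ LinearMap.snd R ((localCohomology I i).obj M) ((localCohomology K i).obj M)))
          (cyclesToH J i za, cyclesToH J i zb) = cyclesToH J i (za' - zb') :=
        (congrArg₂ (· - ·) ea eb).trans (map_sub _ _ _).symm
      obtain ⟨y, hy⟩ := exists_cycle (I := I ⊔ K) J (i + 1) (0 : J.cocomplex.X (i + 1)) (Submodule.zero_mem _) (map_zero _)
      rw [LinearMap.mem_ker, e, hδ i (za' - zb') (cycleVal J i za) (-cycleVal J i zb) ((gammaComplex J I).iCycles i za).2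
        (Submodule.neg_mem _ ((gammaComplex J K).iCycles i zb).2) (by rw [cycleVal_sub_mv, hza, hzb, sub_eq_add_neg]) y
        (hy.trans (d_cycleVal J i za).symm), cyclesToH_eq_zero_iff_mem, hy]
      exact Submodule.zero_mem _

end Groth.Agent.LocH
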