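import Mathlib
import Groth.Agent.LocH.LocalizeMap
import Groth.Agent.LocH.Grothendieck
import Groth.Agent.LocH.Radical
import Groth.Agent.CechX.BaseChange

/-!
Top local cohomology of a local ring is supported at the closed point; monotonicity of its vanishing.
-/

namespace Groth.Agent.LocH

universe u

open CategoryTheory CategoryTheory.Limits TensorProduct

variable {R : Type u} [CommRing R] [IsNoetherianRing R] [IsLocalRing R] {d : ℕ} (hd : ringKrullDim R = d)

include hd in
/-- Elements of the top local cohomology are killed by powers of the maximal ideal. -/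
theorem exists_pow_smul_top_eq_zero (I : Ideal R) (M : Type u) [AddCommGroup M] [Module R M]
    {x : R} (hx : x ∈ IsLocalRing.maximalIdeal R) (ξ : LocCoh.H I d M) : ∃ n : ℕ, x ^ n • ξ = 0 := by
  suffices h : x ∈ Ideal.radical (LinearMap.ker (LinearMap.toSpanSingleton R (LocCoh.H I d M) ξ)) by
    exact h
  rw [Ideal.radical_eq_sInf, Submodule.mem_sInf]
  rintro (p : Ideal R) ⟨hker, hp⟩
  by_contra hxp
  have hpm : p ≠ IsLocalRing.maximalIdeal R := fun e => hxp (e ▸ hx)
  have hdim : ringKrullDim (Localization.AtPrime p) < (d : WithBot ℕ∞) := by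
    have h := supportDim_localized_lt (M := R) p hpm ((Module.supportDim_self_eq_ringKrullDim (R := R)).trans hd)
    let e : LocalizedModule p.primeCompl R ≃ₗ[Localization.AtPrime p] Localization.AtPrime p :=
      LinearEquiv.extendScalarsOfIsLocalization p.primeCompl (Localization.AtPrime p)
        (IsLocalizedModule.iso p.primeCompl (Algebra.linearMap R (Localization.AtPrime p)))
    rwa [Module.supportDim_eq_of_equiv e, Module.supportDim_self_eq_ringKrullDim] at h
  haveI := IsLocalization.flat (Localization.AtPrime p) p.primeCompl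
  obtain ⟨e⟩ := CechX.nonempty_H_baseChange (R' := Localization.AtPrime p) I (ModuleCat.of R M) d
  haveI : Subsingleton (Localization.AtPrime p ⊗[R] LocCoh.H I d M) := by
    have h0 : Subsingleton (LocCoh.H (I.map (algebraMap R (Localization.AtPrime p))) d
        (Localization.AtPrime p ⊗[R] M)) :=
      subsingleton_of_supportDim_lt _ d _ ((Module.supportDim_le_ringKrullDim _ _).trans_lt hdim)
    exact (e.toEquiv.trans (Equiv.refl _)).subsingleton
  have h1 : (LocalizedModule.mkLinearMap p.primeCompl (LocCoh.H I d M)) ξ = 0 :=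
    (LocalizedModule.equivTensorProduct p.primeCompl (LocCoh.H I d M)).injective (Subsingleton.elim _ _)
  obtain ⟨⟨s, hs⟩, hsξ⟩ := (IsLocalizedModule.eq_zero_iff p.primeCompl _).1 h1
  exact hs (hker hsξ)

include hd in
theorem subsingleton_top_of_le {I p : Ideal R} (hIp : I ≤ p) (hp : p ≤ IsLocalRing.maximalIdeal R)
    (M : Type u) [AddCommGroup M] [Module R M] (h : Subsingleton (LocCoh.H p d M)) :
    Subsingleton (LocCoh.H I d M) := by
  classical
  obtain ⟨G, rfl⟩ : ∃ G : Finset R, Ideal.span (G : Set R) = p := IsNoetherian.noetherian p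
  obtain ⟨J⟩ : Nonempty (InjectiveResolution (ModuleCat.of R M)) := HasInjectiveResolution.out
  have key : ∀ G' : Finset R, (G' : Set R) ⊆ (G : Set R) →
      Subsingleton (LocCoh.H (I ⊔ Ideal.span (G' : Set R)) d M) → Subsingleton (LocCoh.H I d M) := by
    intro G'
    induction G' using Finset.induction_on with
    | empty => intro _ h; rwa [Finset.coe_empty, Ideal.span_empty, sup_bot_eq] at h
    | @insert b s _ ih =>
      intro hs h
      rw [Finset.coe_insert, Ideal.span_insert, sup_comm (Ideal.span {b}), ← sup_assoc] at h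
      refine ih (fun y hy => hs (Finset.mem_insert_of_mem hy)) (subsingleton_of_forall_eq 0 fun ξ => ?_)
      have hb : b ∈ IsLocalRing.maximalIdeal R := hp (Ideal.subset_span (hs (Finset.mem_insert_self b s)))
      obtain ⟨y, rfl⟩ := (mem_range_HmapOfLE_iff J (I ⊔ Ideal.span (s : Set R)) b d ξ).2
        (exists_pow_smul_top_eq_zero hd _ M hb ξ)
      exact (congrArg _ (h.elim y 0)).trans (map_zero _)
  refine key G subset_rfl ?_
  rwa [sup_eq_right.2 hIp]

/-- A prime of dimension one above an ideal of positive dimension. -/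
theorem exists_prime_dim_one_ge (I : Ideal R) (h : 0 < ringKrullDim (R ⧸ I)) :
    ∃ p : Ideal R, p.IsPrime ∧ I ≤ p ∧ ringKrullDim (R ⧸ p) = 1 := by
  rw [ringKrullDim_quotient, Order.krullDim_pos_iff] at h
  obtain ⟨a, b, hab⟩ := h
  let S : Set (Ideal R) := {p | p.IsPrime ∧ I ≤ p ∧ p ≠ IsLocalRing.maximalIdeal R}
  have ha : a.1.asIdeal ∈ S := ⟨a.1.isPrime, a.2, fun e =>
    absurd (show a.1.asIdeal < b.1.asIdeal from hab) (by
      rw [e]
      exact fun hlt => hlt.not_ge (IsLocalRing.le_maximalIdeal b.1.isPrime.ne_top))⟩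
  obtain ⟨p, ⟨hp, hIp, hpm⟩, hmax⟩ := set_has_maximal_iff_noetherian.2 ‹IsNoetherianRing R› S ⟨_, ha⟩
  refine ⟨p, hp, hIp, ?_⟩
  have hne : ∀ q : PrimeSpectrum.zeroLocus (p : Set R), q.1.asIdeal = p ∨ q.1.asIdeal = IsLocalRing.maximalIdeal R :=
    fun q => by
      by_contra hq
      push Not at hq
      exact hmax q.1.asIdeal ⟨q.1.isPrime, hIp.trans q.2, hq.2⟩ (lt_of_le_of_ne q.2 (Ne.symm hq.1))
  rw [ringKrullDim_quotient]
  refine le_antisymm ?_ ?_
  · refine iSup_le fun l => ?_
    suffices hl : l.length ≤ 1 by exact_mod_cast hl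
    by_contra hlen
    have h01 : l ⟨0, by lia⟩ < l ⟨1, by lia⟩ := l.strictMono (by simp [Fin.lt_def])
    have h12 : l ⟨1, by lia⟩ < l ⟨2, by lia⟩ := l.strictMono (by simp [Fin.lt_def])
    have h01' : (l ⟨0, by lia⟩).1.asIdeal < (l ⟨1, by lia⟩).1.asIdeal := h01
    have h12' : (l ⟨1, by lia⟩).1.asIdeal < (l ⟨2, by lia⟩).1.asIdeal := h12
    rcases hne (l ⟨1, by lia⟩) with e | e
    · exact (e ▸ h01').not_ge (l ⟨0, by lia⟩).2
    · exact (e ▸ h12').not_ge (IsLocalRing.le_maximalIdeal (l ⟨2, by lia⟩).1.isPrime.ne_top)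
  · refine Order.one_le_krullDim_iff.2 ⟨⟨⟨p, hp⟩, fun _ h => h⟩,
      ⟨⟨IsLocalRing.maximalIdeal R, inferInstance⟩, IsLocalRing.le_maximalIdeal hp.ne_top⟩, ?_⟩
    exact lt_of_le_of_ne (IsLocalRing.le_maximalIdeal hp.ne_top) (fun e => hpm (congrArg (fun q => q.1.asIdeal) e))

end Groth.Agent.LocH
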