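import Groth.Agent.LocH.TopTensor
import Groth.Agent.LocH.Cd

/-!
Top local cohomology is tensoring, assuming only that cohomology vanishes above `d`.
-/

namespace Groth.Agent.LocH.CdTop

universe u

open CategoryTheory CategoryTheory.Limits TensorProduct

variable {R : Type u} [CommRing R] (I : Ideal R) (d : ℕ)

variable [IsNoetherianRing R] (hd : LocCoh.CdLE R I d)

include hd in
theorem topMap_surjective (M : Type u) [AddCommGroup M] [Module R M] : Function.Surjective (topMap (R := R) I d M) := by
  classical
  intro x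
  obtain ⟨M₀, hM₀, y, rfl⟩ := exists_fg_map_eq (ModuleCat.of R M) d x
  obtain ⟨s, g, hg⟩ := Submodule.fg_iff_exists_fin_generating_family.1 hM₀
  let π : (Fin s → R) →ₗ[R] M₀ := (Fintype.linearCombination R g).codRestrict M₀ fun c => by
    have : Fintype.linearCombination R g c ∈ LinearMap.range (Fintype.linearCombination R g) := ⟨c, rfl⟩
    rw [Fintype.range_linearCombination, hg] at this
    exact this
  have hπ : Function.Surjective π := fun z => by
    obtain ⟨c, hc⟩ : (z : M) ∈ LinearMap.range (Fintype.linearCombination R g) := by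
      rw [Fintype.range_linearCombination, hg]
      exact z.2
    exact ⟨c, Subtype.ext hc⟩
  have := hd (LinearMap.ker π) (d + 1) (Nat.lt_succ_self d)
  obtain ⟨z, rfl⟩ := exact₃ (kerSES_shortExact hπ) d (x := y) (this.elim _ _)
  change ↑((localCohomology I d).obj (ModuleCat.of R (Fin s → R))) at z
  let φ : (Fin s → R) →ₗ[R] M := M₀.subtype ∘ₗ π
  have hz : ∃ t, topMap I d (Fin s → R) t = z := by
    let p : Fin s → (ModuleCat.of R (Fin s → R) ⟶ ModuleCat.of R R) := fun j =>
      ModuleCat.ofHom (LinearMap.proj j)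
    refine ⟨∑ j, (localCohomology I d).map (p j) z ⊗ₜ Pi.single j 1, ?_⟩
    rw [map_sum]
    simp only [topMap_tmul, map_comp_apply']
    have hid : 𝟙 (ModuleCat.of R (Fin s → R)) =
        ∑ j, p j ≫ ModuleCat.ofHom (LinearMap.toSpanSingleton R (Fin s → R) (Pi.single j 1)) := by
      refine ModuleCat.hom_ext (LinearMap.ext fun f => ?_)
      rw [ModuleCat.hom_sum, LinearMap.sum_apply]
      refine (Finset.univ_sum_single f).symm.trans (Finset.sum_congr rfl fun j _ => ?_)
      show Pi.single j (f j) = f j • Pi.single j (1 : R)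
      rw [← Pi.single_smul, smul_eq_mul, mul_one]
    refine Eq.trans ?_ (congrArg (fun φ => φ.hom z) ((localCohomology I d).map_id (ModuleCat.of R (Fin s → R))))
    rw [hid, Functor.map_sum, ModuleCat.hom_sum, LinearMap.sum_apply]
  obtain ⟨t, ht⟩ := hz
  refine ⟨φ.lTensor _ t, ?_⟩
  rw [topMap_natural, ht]
  exact (map_comp_apply' I (ModuleCat.ofHom π) (ModuleCat.ofHom M₀.subtype) d z).symm

include hd in
theorem topMap_bijective (M : Type u) [AddCommGroup M] [Module R M] : Function.Bijective (topMap (R := R) I d M) := by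
  refine ⟨(injective_iff_map_eq_zero _).2 fun t ht => ?_, topMap_surjective I d hd M⟩
  let π : (M →₀ R) →ₗ[R] M := Finsupp.linearCombination R id
  have hπ : Function.Surjective π := fun m => ⟨Finsupp.single m 1, by simp [π]⟩
  obtain ⟨t', rfl⟩ := LinearMap.lTensor_surjective _ hπ t
  rw [topMap_natural] at ht
  obtain ⟨η, hη⟩ := exact₂ (kerSES_shortExact hπ) d (x := topMap I d (M →₀ R) t') ht
  obtain ⟨s, rfl⟩ := topMap_surjective I d hd (LinearMap.ker π) η
  have h2 : (localCohomology I d).map (ModuleCat.ofHom (LinearMap.ker π).subtype :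
      ModuleCat.of R (LinearMap.ker π) ⟶ ModuleCat.of R (M →₀ R)) (topMap I d (LinearMap.ker π) s) =
      topMap I d (M →₀ R) t' := hη
  rw [← topMap_natural] at h2
  rw [← topMap_injective_finsupp I d M h2, ← LinearMap.comp_apply, ← LinearMap.lTensor_comp,
    LinearMap.comp_ker_subtype, LinearMap.lTensor_zero, LinearMap.zero_apply]

end Groth.Agent.LocH.CdTop
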