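import Mathlib
import Groth.Agent.LocH.Resolution

/-!
`Ext^n(-, M)` on finite modules supported in `V(I)` is represented by `H^n_I(M)` when the previous degree vanishes.
-/

set_option linter.style.haveILetI false

namespace Groth.Agent.LocH

universe u

open CategoryTheory CategoryTheory.Limits Opposite CategoryTheory.Abelian

variable {R : Type u} [CommRing R] {I : Ideal R} {M : ModuleCat.{u} R} (J : InjectiveResolution M)

/-- Finite and power torsion. -/
def Small (I : Ideal R) (F : Type u) [AddCommGroup F] [Module R F] : Prop :=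
  Module.Finite R F ∧ LocCoh.IsPowerTorsion I F

theorem support_subset_of_isPowerTorsion {F : Type u} [AddCommGroup F] [Module R F]
    (h : LocCoh.IsPowerTorsion I F) : Module.support R F ⊆ PrimeSpectrum.zeroLocus (I : Set R) := by
  intro p hp a ha
  obtain ⟨m, hm⟩ := Module.mem_support_iff'.1 hp
  by_contra hap
  obtain ⟨k, hk⟩ := h m
  exact hm (a ^ k) (fun hmem => hap (p.2.mem_of_pow_mem k hmem)) (hk _ (Ideal.pow_mem_pow ha k))

theorem isPowerTorsion_of_support [IsNoetherianRing R] {F : Type u} [AddCommGroup F] [Module R F] [Module.Finite R F]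
    (h : Module.support R F ⊆ PrimeSpectrum.zeroLocus (I : Set R)) : LocCoh.IsPowerTorsion I F := by
  rw [Module.support_eq_zeroLocus, PrimeSpectrum.zeroLocus_subset_zeroLocus_iff] at h
  obtain ⟨k, hk⟩ := Ideal.exists_pow_le_of_le_radical_of_fg h (IsNoetherian.noetherian I)
  exact fun x => ⟨k, fun a ha => Module.mem_annihilator.1 (hk ha) x⟩

theorem small_sub [IsNoetherianRing R] {F : Type u} [AddCommGroup F] [Module R F] (h : Small I F)
    (K : Submodule R F) : Small I K := by
  have := h.1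
  exact ⟨inferInstance, fun x => (h.2 x).imp fun k hk a ha => Subtype.ext (hk a ha)⟩

theorem small_span {F : Type u} [AddCommGroup F] [Module R F] {r : ℕ} (x : Fin r → F)
    (hx : ∀ i, x i ∈ DRing.torsionSub I F) : Small I ↥(Submodule.span R (Set.range x)) := by
  refine ⟨Module.Finite.iff_fg.2 (Submodule.fg_span (Set.finite_range x)), fun y => ?_⟩
  have hle : Submodule.span R (Set.range x) ≤ DRing.torsionSub I F :=
    Submodule.span_le.2 (Set.range_subset_iff.2 hx)
  obtain ⟨k, hk⟩ := hle y.2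
  exact ⟨k, fun a ha => Subtype.ext (hk a ha)⟩

theorem mem_torsionSub_apply {F G : Type u} [AddCommGroup F] [Module R F] [AddCommGroup G] [Module R G]
    (h : LocCoh.IsPowerTorsion I F) (f : F →ₗ[R] G) (x : F) : f x ∈ DRing.torsionSub I G :=
  DRing.map_mem_torsionSub I f (h x)

/-- Cocycle maps into `J^i` are coboundaries, elementwise form of vanishing of `Ext^i`. -/
def HomExact (I : Ideal R) (i : ℕ) : Prop :=
  ∀ (F : Type u) [AddCommGroup F] [Module R F], Small I F →
    ∀ f : F →ₗ[R] J.cocomplex.X i, (J.cocomplex.d i (i + 1)).hom.comp f = 0 →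
      f = 0 ∨ ∃ p, p + 1 = i ∧ ∃ g : F →ₗ[R] J.cocomplex.X p, (J.cocomplex.d p i).hom.comp g = f

theorem dd (p : ℕ) (x : J.cocomplex.X p) :
    J.cocomplex.d (p + 1) (p + 1 + 1) (J.cocomplex.d p (p + 1) x) = 0 := by
  exact congrArg (fun φ => φ.hom x) (J.cocomplex.d_comp_d p (p + 1) (p + 1 + 1))

theorem exists_factor_fst {F P G : Type u} [AddCommGroup F] [Module R F] [AddCommGroup P] [Module R P]
    [AddCommGroup G] [Module R G] (π : P →ₗ[R] F) (hπ : Function.Surjective π) (f : P →ₗ[R] G)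
    (hf : LinearMap.ker π ≤ LinearMap.ker f) : ∃ g : F →ₗ[R] G, g.comp π = f := by
  refine ⟨((LinearMap.ker π).liftQ f hf).comp (π.quotKerEquivOfSurjective hπ).symm.toLinearMap, ?_⟩
  ext x
  have : (π.quotKerEquivOfSurjective hπ).symm (π x) = Submodule.Quotient.mk x :=
    (LinearEquiv.symm_apply_eq _).2 rfl
  simp [this]

theorem exists_extension (i : ℕ) {P : Type u} [AddCommGroup P] [Module R P] (K : Submodule R P)
    (f : K →ₗ[R] J.cocomplex.X i) : ∃ g : P →ₗ[R] J.cocomplex.X i, ∀ x : K, g x = f x := by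
  haveI : Injective (ModuleCat.of R (J.cocomplex.X i)) := J.injective i
  have : Module.Injective R (J.cocomplex.X i) := Module.injective_module_of_injective_object R _
  exact Module.Injective.out K.subtype K.injective_subtype f

/-- Maps into boundaries lift. -/
theorem exists_lift [IsNoetherianRing R] {p : ℕ} (hex : HomExact J I p) {F : Type u} [AddCommGroup F]
    [Module R F] (hF : Small I F) (f : F →ₗ[R] J.cocomplex.X (p + 1))
    (hf : ∀ x, ∃ y ∈ DRing.torsionSub I (J.cocomplex.X p), J.cocomplex.d p (p + 1) y = f x) :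
    ∃ g : F →ₗ[R] J.cocomplex.X p, (J.cocomplex.d p (p + 1)).hom.comp g = f := by
  have := hF.1
  obtain ⟨r, x, hx⟩ := Module.Finite.exists_fin (R := R) (M := F)
  choose y hy hdy using fun i => hf (x i)
  let w : Fin r → F × (J.cocomplex.X p) := fun i => (x i, y i)
  have hw : ∀ i, w i ∈ DRing.torsionSub I (F × (J.cocomplex.X p)) := fun i => by
    obtain ⟨a, ha⟩ := hF.2 (x i)
    obtain ⟨b, hb⟩ := hy i
    exact ⟨max a b, fun c hc => Prod.ext (ha c (Ideal.pow_le_pow_right (le_max_left a b) hc))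
      (hb c (Ideal.pow_le_pow_right (le_max_right a b) hc))⟩
  let P := Submodule.span R (Set.range w)
  have hP : Small I P := small_span w hw
  let π : P →ₗ[R] F := (LinearMap.fst R F (J.cocomplex.X p)).comp P.subtype
  let ψ : P →ₗ[R] J.cocomplex.X p := (LinearMap.snd R F (J.cocomplex.X p)).comp P.subtype
  have hπ : Function.Surjective π := by
    rw [← LinearMap.range_eq_top, eq_top_iff, ← hx, Submodule.span_le]
    rintro _ ⟨i, rfl⟩
    exact ⟨⟨w i, Submodule.subset_span ⟨i, rfl⟩⟩, rfl⟩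
  have hψ : (J.cocomplex.d p (p + 1)).hom.comp ψ = f.comp π := by
    apply LinearMap.ext
    intro z
    have hle : P ≤ LinearMap.eqLocus ((J.cocomplex.d p (p + 1)).hom.comp (LinearMap.snd R F (J.cocomplex.X p)))
        (f.comp (LinearMap.fst R F (J.cocomplex.X p))) := by
      rw [Submodule.span_le]
      rintro _ ⟨i, rfl⟩
      exact hdy i
    exact hle z.2
  have hdK : (J.cocomplex.d p (p + 1)).hom.comp (ψ.comp (LinearMap.ker π).subtype) = 0 :=
    LinearMap.ext fun z => (LinearMap.congr_fun hψ z.1).trans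
      (show f (π z.1) = 0 by rw [LinearMap.mem_ker.1 z.2, map_zero])
  rcases hex _ (small_sub hP _) _ hdK with h0 | ⟨q, rfl, χ, hχ⟩
  · obtain ⟨g, hg⟩ := exists_factor_fst π hπ ψ fun z hz => LinearMap.congr_fun h0 ⟨z, hz⟩
    refine ⟨g, LinearMap.ext fun z => ?_⟩
    obtain ⟨z, rfl⟩ := hπ z
    refine (congrArg (J.cocomplex.d p (p + 1)).hom (LinearMap.congr_fun hg z)).trans ?_
    exact LinearMap.congr_fun hψ z
  · obtain ⟨χ', hχ'⟩ := exists_extension J q _ χ
    obtain ⟨g, hg⟩ := exists_factor_fst π hπ (ψ - (J.cocomplex.d q (q + 1)).hom.comp χ') fun z hz => by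
      rw [LinearMap.mem_ker]
      change ψ z - J.cocomplex.d q (q + 1) (χ' z) = 0
      rw [show χ' z = χ ⟨z, hz⟩ from hχ' ⟨z, hz⟩, sub_eq_zero]
      exact (LinearMap.congr_fun hχ ⟨z, hz⟩).symm
    refine ⟨g, LinearMap.ext fun z => ?_⟩
    obtain ⟨z, rfl⟩ := hπ z
    refine (congrArg (J.cocomplex.d (q + 1) (q + 1 + 1)).hom (LinearMap.congr_fun hg z)).trans ?_
    change J.cocomplex.d (q + 1) (q + 1 + 1) (ψ z - J.cocomplex.d q (q + 1) (χ' z)) = _
    rw [map_sub, dd, sub_zero]
    exact LinearMap.congr_fun hψ z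

section Maps

variable (F : ModuleCat.{u} R) (n : ℕ)

/-- Cocycle maps `F → J^n`. -/
abbrev cocMaps : Submodule R (F →ₗ[R] J.cocomplex.X n) :=
  LinearMap.ker (LinearMap.llcomp R F _ _ (J.cocomplex.d n (n + 1)).hom)

theorem cocMaps_d (φ : cocMaps J F n) :
    (ModuleCat.ofHom φ.1 : F ⟶ J.cocomplex.X n) ≫ J.cocomplex.d n (n + 1) = 0 :=
  ModuleCat.hom_ext (LinearMap.mem_ker.1 φ.2)

/-- The class of a cocycle map. -/
noncomputable def toExt : cocMaps J F n →ₗ[R] Ext F M n where
  toFun φ := J.extMk (ModuleCat.ofHom φ.1) (n + 1) rfl (cocMaps_d J F n φ)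
  map_add' φ ψ := by
    rw [InjectiveResolution.add_extMk]
    congr 1
  map_smul' r φ := by
    have h : (Ext.mk₀ (r • 𝟙 F)).comp (J.extMk (ModuleCat.ofHom φ.1) (n + 1) rfl (cocMaps_d J F n φ))
        (zero_add _) = r • J.extMk (ModuleCat.ofHom φ.1) (n + 1) rfl (cocMaps_d J F n φ) := by
      rw [Ext.mk₀_smul, Ext.smul_comp, Ext.mk₀_id_comp]
    rw [RingHom.id_apply, ← h, InjectiveResolution.mk₀_comp_extMk]
    congr 1
    rw [Linear.smul_comp, Category.id_comp]
    rfl

theorem toExt_surjective : Function.Surjective (toExt J F n) := by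
  intro α
  obtain ⟨f, hf, rfl⟩ := J.extMk_surjective α (n + 1) rfl
  exact ⟨⟨f.hom, LinearMap.mem_ker.2 (congrArg ModuleCat.Hom.hom hf)⟩, rfl⟩

theorem toExt_eq_zero_iff (φ : cocMaps J F n) : toExt J F n φ = 0 ↔
    φ.1 = 0 ∨ ∃ p, p + 1 = n ∧ ∃ g : F →ₗ[R] J.cocomplex.X p, (J.cocomplex.d p n).hom.comp g = φ.1 := by
  constructor
  · intro h
    cases n with
    | zero => exact .inl (congrArg ModuleCat.Hom.hom (extMk_eq_zero_of_zero J (ModuleCat.ofHom φ.1) (cocMaps_d J F 0 φ) h))
    | succ p =>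
      obtain ⟨g, hg⟩ := (InjectiveResolution.extMk_eq_zero_iff (p := p) (hp := rfl) J (ModuleCat.ofHom φ.1)
        (p + 1 + 1) rfl (cocMaps_d J F (p + 1) φ)).1 h
      exact .inr ⟨p, rfl, g.hom, congrArg ModuleCat.Hom.hom hg⟩
  · rintro (h | ⟨p, rfl, g, hg⟩)
    · rw [show φ = 0 from Subtype.ext h, map_zero]
    · exact (InjectiveResolution.extMk_eq_zero_iff (p := p) (hp := rfl) J (ModuleCat.ofHom φ.1) (p + 1 + 1) rfl
        (cocMaps_d J F (p + 1) φ)).2
        ⟨ModuleCat.ofHom g, ModuleCat.hom_ext hg⟩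

theorem homExact_of_ext (i : ℕ)
    (h : ∀ (F : ModuleCat.{u} R), Small I F → Subsingleton (Ext F M i)) : HomExact J I i := by
  intro F _ _ hF f hf
  have := h (ModuleCat.of R F) hF
  exact (toExt_eq_zero_iff J (ModuleCat.of R F) i ⟨f, LinearMap.mem_ker.2 hf⟩).1 (Subsingleton.elim _ _)

variable (hT : LocCoh.IsPowerTorsion I F)

include hT in
theorem exists_zmap (φ : cocMaps J F n) :
    ∃ z : F →ₗ[R] ((gammaComplex J I).cycles n), ∀ x, cycleVal J n (z x) = φ.1 x := by
  let k : F ⟶ (gammaComplex J I).X n :=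
    ModuleCat.ofHom (φ.1.codRestrict (DRing.torsionSub I (J.cocomplex.X n)) (mem_torsionSub_apply hT φ.1))
  have hk : k ≫ (gammaComplex J I).d n (n + 1) = 0 := by
    ext x
    exact Subtype.ext (congrArg (fun f => f.hom x) (cocMaps_d J F n φ))
  refine ⟨((gammaComplex J I).liftCycles k (n + 1) (by simp) hk).hom, fun x => ?_⟩
  exact congrArg Subtype.val
    (congrArg (fun f => f.hom x) ((gammaComplex J I).liftCycles_i k (n + 1) (by simp) hk))

theorem cycleVal_add (z w : (gammaComplex J I).cycles n) :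
    cycleVal J n (z + w) = cycleVal J n z + cycleVal J n w :=
  (congrArg _ (map_add _ z w)).trans (map_add _ _ _)

theorem cycleVal_smul (r : R) (z : (gammaComplex J I).cycles n) :
    cycleVal J n (r • z) = r • cycleVal J n z :=
  (congrArg _ (map_smul _ r z)).trans (map_smul _ _ _)

/-- The map to `Hom(F, H^n_I(M))`. -/
noncomputable def toHom : cocMaps J F n →ₗ[R] (F →ₗ[R] ↑((localCohomology I n).obj M)) where
  toFun φ := (cyclesToH J n).comp (exists_zmap J F n hT φ).choose
  map_add' φ ψ := by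
    apply LinearMap.ext
    intro x
    rw [LinearMap.add_apply, LinearMap.comp_apply, LinearMap.comp_apply, LinearMap.comp_apply, ← map_add]
    congr 1
    apply cycleVal_injective J n
    rw [cycleVal_add, (exists_zmap J F n hT _).choose_spec, (exists_zmap J F n hT _).choose_spec,
      (exists_zmap J F n hT _).choose_spec]
    rfl
  map_smul' r φ := by
    apply LinearMap.ext
    intro x
    rw [RingHom.id_apply, LinearMap.smul_apply, LinearMap.comp_apply, LinearMap.comp_apply, ← map_smul]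
    congr 1
    apply cycleVal_injective J n
    rw [cycleVal_smul, (exists_zmap J F n hT _).choose_spec, (exists_zmap J F n hT _).choose_spec]
    rfl

theorem toHom_apply {φ : cocMaps J F n} {x : F} {z : (gammaComplex J I).cycles n}
    (hz : cycleVal J n z = φ.1 x) : toHom J F n hT φ x = cyclesToH J n z :=
  congrArg (cyclesToH J n) (cycleVal_injective J n (((exists_zmap J F n hT φ).choose_spec x).trans hz.symm))

theorem cyclesToH_eq_zero_iff' (z : (gammaComplex J I).cycles n) : cyclesToH J n z = 0 ↔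
    cycleVal J n z = 0 ∨ ∃ p, p + 1 = n ∧
      ∃ y ∈ DRing.torsionSub I (J.cocomplex.X p), J.cocomplex.d p n y = cycleVal J n z := by
  have hval : ∀ (p : ℕ) (y : (gammaComplex J I).X p),
      cycleVal J n ((gammaComplex J I).toCycles p n y) =
        J.cocomplex.d p n ((DRing.torsionSub I (J.cocomplex.X p)).subtype y) := fun p y =>
    congrArg Subtype.val (congrArg (fun φ => φ.hom y) ((gammaComplex J I).toCycles_i p n))
  rw [cyclesToH_eq_zero_iff]
  constructor
  · rintro ⟨y, rfl⟩
    cases n with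
    | zero =>
      refine .inl ((hval _ y).trans ?_)
      rw [HomologicalComplex.shape _ _ _ (by simp)]
      rfl
    | succ p =>
      generalize hj : (ComplexShape.up ℕ).prev (p + 1) = j at y ⊢
      obtain rfl : p = j := by rw [← hj]; simp
      exact .inr ⟨p, rfl, _, y.2, (hval p y).symm⟩
  · rintro (h | ⟨p, rfl, y, hy, hd⟩)
    · refine ⟨0, cycleVal_injective J n ?_⟩
      rw [h, map_zero]
      exact (congrArg _ (map_zero _)).trans (map_zero _)
    · generalize hj : (ComplexShape.up ℕ).prev (p + 1) = j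
      obtain rfl : p = j := by rw [← hj]; simp
      exact ⟨⟨y, hy⟩, cycleVal_injective J _ ((hval p _).trans hd)⟩

variable [IsNoetherianRing R] [Module.Finite R F] (hex : ∀ p, p + 1 = n → HomExact J I p)

include hex hT in
theorem ker_toExt_eq_ker_toHom : LinearMap.ker (toExt J F n) = LinearMap.ker (toHom J F n hT) := by
  ext φ
  rw [LinearMap.mem_ker, LinearMap.mem_ker, toExt_eq_zero_iff]
  constructor
  · rintro (h | ⟨p, rfl, g, hg⟩)
    · rw [show φ = 0 from Subtype.ext h, map_zero]
    · apply LinearMap.ext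
      intro x
      obtain ⟨z, hz⟩ := exists_zmap J F (p + 1) hT φ
      rw [toHom_apply J F _ hT (hz x), LinearMap.zero_apply, cyclesToH_eq_zero_iff']
      exact .inr ⟨p, rfl, g x, mem_torsionSub_apply hT g x, (LinearMap.congr_fun hg x).trans (hz x).symm⟩
  · intro h
    obtain ⟨z, hz⟩ := exists_zmap J F n hT φ
    have h0 : ∀ x, cyclesToH J n (z x) = 0 := fun x => by
      rw [← toHom_apply J F n hT (hz x), h, LinearMap.zero_apply]
    simp only [cyclesToH_eq_zero_iff', hz] at h0
    rcases n with _ | p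
    · refine .inl (LinearMap.ext fun x => ?_)
      rcases h0 x with h | ⟨p, hp, -⟩
      · exact h
      · exact absurd hp (Nat.succ_ne_zero p)
    · refine .inr ⟨p, rfl, exists_lift J (hex p rfl) ⟨inferInstance, hT⟩ φ.1 fun x => ?_⟩
      rcases h0 x with h | ⟨q, hq, y, hy, hd⟩
      · exact ⟨0, Submodule.zero_mem _, by rw [map_zero, h]⟩
      · obtain rfl : q = p := Nat.succ_injective hq
        exact ⟨y, hy, hd⟩

include hex hT in
theorem toHom_surjective : Function.Surjective (toHom J F n hT) := by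
  intro h
  obtain ⟨r, x, hx⟩ := Module.Finite.exists_fin (R := R) (M := F)
  choose z hz using fun i => cyclesToH_surjective (I := I) J n (h (x i))
  let w : Fin r → F × ((gammaComplex J I).cycles n) := fun i => (x i, z i)
  have hw : ∀ i, w i ∈ DRing.torsionSub I (F × ((gammaComplex J I).cycles n)) := fun i => by
    obtain ⟨a, ha⟩ := hT (x i)
    obtain ⟨b, hb⟩ := cycleVal_mem J n (z i)
    refine ⟨max a b, fun c hc => Prod.ext (ha c (Ideal.pow_le_pow_right (le_max_left a b) hc)) ?_⟩
    apply cycleVal_injective J n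
    refine ((cycleVal_smul J n c _).trans (hb c (Ideal.pow_le_pow_right (le_max_right a b) hc))).trans ?_
    exact ((congrArg _ (map_zero _)).trans (map_zero _)).symm
  let P := Submodule.span R (Set.range w)
  have hP : Small I P := small_span w hw
  let π : P →ₗ[R] F := (LinearMap.fst R F ((gammaComplex J I).cycles n)).comp P.subtype
  let ζ : P →ₗ[R] ((gammaComplex J I).cycles n) :=
    (LinearMap.snd R F ((gammaComplex J I).cycles n)).comp P.subtype
  let val : ((gammaComplex J I).cycles n) →ₗ[R] J.cocomplex.X n :=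
    { toFun := cycleVal J n, map_add' := cycleVal_add J n, map_smul' := cycleVal_smul J n }
  let ψ : P →ₗ[R] J.cocomplex.X n := val.comp ζ
  have hπ : Function.Surjective π := by
    rw [← LinearMap.range_eq_top, eq_top_iff, ← hx, Submodule.span_le]
    rintro _ ⟨i, rfl⟩
    exact ⟨⟨w i, Submodule.subset_span ⟨i, rfl⟩⟩, rfl⟩
  have hcl : ∀ v : P, cyclesToH J n (ζ v) = h (π v) := by
    intro v
    have hle : P ≤ LinearMap.eqLocus ((cyclesToH J n).comp (LinearMap.snd R F _))
        (h.comp (LinearMap.fst R F ((gammaComplex J I).cycles n))) := by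
      rw [Submodule.span_le]
      rintro _ ⟨i, rfl⟩
      exact hz i
    exact hle v.2
  have hdψ : ∀ v : P, J.cocomplex.d n (n + 1) (ψ v) = 0 := fun v => d_cycleVal J n (ζ v)
  have hK : ∀ v : LinearMap.ker π, cyclesToH J n (ζ v.1) = 0 := fun v => by
    rw [hcl, LinearMap.mem_ker.1 v.2, map_zero]
  rcases n with _ | p
  · obtain ⟨g, hg⟩ := exists_factor_fst π hπ ψ fun v hv => by
      rcases (cyclesToH_eq_zero_iff' J 0 _).1 (hK ⟨v, hv⟩) with h | ⟨p, hp, -⟩
      · exact h
      · exact absurd hp (Nat.succ_ne_zero p)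
    have hmem : g ∈ cocMaps J F 0 := LinearMap.mem_ker.2 (LinearMap.ext fun y => by
      obtain ⟨v, rfl⟩ := hπ y
      exact (congrArg (J.cocomplex.d 0 1).hom (LinearMap.congr_fun hg v)).trans (hdψ v))
    refine ⟨⟨g, hmem⟩, LinearMap.ext fun y => ?_⟩
    obtain ⟨v, rfl⟩ := hπ y
    rw [toHom_apply J F 0 hT (z := ζ v) (LinearMap.congr_fun hg v).symm, hcl]
  · obtain ⟨χ, hχ⟩ := exists_lift J (hex p rfl) (small_sub hP _) (ψ.comp (LinearMap.ker π).subtype) fun v => by
      rcases (cyclesToH_eq_zero_iff' J (p + 1) _).1 (hK v) with h | ⟨q, hq, y, hy, hd⟩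
      · exact ⟨0, Submodule.zero_mem _, by rw [map_zero]; exact h.symm⟩
      · obtain rfl : q = p := Nat.succ_injective hq
        exact ⟨y, hy, hd⟩
    obtain ⟨χ', hχ'⟩ := exists_extension J p _ χ
    obtain ⟨g, hg⟩ := exists_factor_fst π hπ (ψ - (J.cocomplex.d p (p + 1)).hom.comp χ') fun v hv => by
      rw [LinearMap.mem_ker]
      change ψ v - J.cocomplex.d p (p + 1) (χ' v) = 0
      rw [show χ' v = χ ⟨v, hv⟩ from hχ' ⟨v, hv⟩, sub_eq_zero]
      exact (LinearMap.congr_fun hχ ⟨v, hv⟩).symm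
    have hmem : g ∈ cocMaps J F (p + 1) := LinearMap.mem_ker.2 (LinearMap.ext fun y => by
      obtain ⟨v, rfl⟩ := hπ y
      refine (congrArg (J.cocomplex.d (p + 1) (p + 1 + 1)).hom (LinearMap.congr_fun hg v)).trans ?_
      change J.cocomplex.d (p + 1) (p + 1 + 1) (ψ v - J.cocomplex.d p (p + 1) (χ' v)) = 0
      rw [map_sub, hdψ, dd, sub_zero])
    refine ⟨⟨g, hmem⟩, LinearMap.ext fun y => ?_⟩
    obtain ⟨v, rfl⟩ := hπ y
    obtain ⟨z', hz'⟩ := exists_zmap J F (p + 1) hT ⟨g, hmem⟩
    rw [toHom_apply J F _ hT (hz' (π v)), ← hcl, ← sub_eq_zero, ← map_sub, cyclesToH_eq_zero_iff']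
    refine .inr ⟨p, rfl, -(χ' v), Submodule.neg_mem _ (mem_torsionSub_apply hP.2 χ' v), ?_⟩
    have e : ∀ a b : (gammaComplex J I).cycles (p + 1), cycleVal J _ (a - b) = cycleVal J _ a - cycleVal J _ b :=
      map_sub val
    rw [e, hz', show g (π v) = ψ v - J.cocomplex.d p (p + 1) (χ' v) from LinearMap.congr_fun hg v, map_neg]
    show _ = cycleVal J _ (ζ v) - _ - cycleVal J _ (ζ v)
    abel

include J hex hT in
theorem nonempty_ext_equiv_hom :
    Nonempty (Ext F M n ≃ₗ[R] (F →ₗ[R] ↑((localCohomology I n).obj M))) :=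
  ⟨((toExt J F n).quotKerEquivOfSurjective (toExt_surjective J F n)).symm.trans
    ((Submodule.quotEquivOfEq _ _ (ker_toExt_eq_ker_toHom J F n hT hex)).trans
      ((toHom J F n hT).quotKerEquivOfSurjective (toHom_surjective J F n hT hex)))⟩

end Maps

end Groth.Agent.LocH
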